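import Cfsg.Agent.H985.Trans
import Cfsg.Agent.H985.SylAux
import Mathlib
set_option linter.all false

-- part: H985/OddPlane
section
/-!
# Doubly transitive planes of odd order have prime power order (S3732, helper985)
-/

set_option autoImplicit false
set_option linter.unusedSectionVars false

namespace Cfsg.Agent.H985

/-- the stabiliser of two points -/
def St (G : Type*) {X Y : Type*} [Group G] [MulAction G X] [MulAction G Y] (x : X) (y : Y) : Subgroup G :=
  MulAction.stabilizer G x ⊓ MulAction.stabilizer G y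

theorem mem_St {G X Y : Type*} [Group G] [MulAction G X] [MulAction G Y] {x : X} {y : Y} {g : G} :
    g ∈ St G x y ↔ g • x = x ∧ g • y = y := Iff.rfl

theorem fix_sup {G X : Type*} [Group G] [MulAction G X] {D : Subgroup G} {g : G} {x : X} (h1 : ∀ d ∈ D, d • x = x)
    (h2 : g • x = x) : ∀ d ∈ D ⊔ Subgroup.zpowers g, d • x = x := by
  have h : D ⊔ Subgroup.zpowers g ≤ MulAction.stabilizer G x := by
    refine sup_le h1 ?_
    rw [Subgroup.zpowers_le]
    exact h2
  exact fun d hd => h hd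

theorem T2.card_le {G X : Type*} [Group G] [Finite G] [MulAction G X] (hT : T2 G X) {p : ℕ} [Fact p.Prime] {x y u v : X}
    (hxy : x ≠ y) (huv : u ≠ v) {D E : Subgroup G} (hD : IsSyl p D (St G x y)) (hE : IsPGroup p E) (hEuv : E ≤ St G u v) :
    Nat.card E ≤ Nat.card D := by
  obtain ⟨g, hg1, hg2⟩ := hT u v x y huv hxy
  have h1 : Nat.card E = Nat.card (E.map (MulAut.conj g).toMonoidHom) :=
    Nat.card_congr (Subgroup.equivMapOfInjective E _ (MulAut.conj g).injective).toEquiv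
  rw [h1]
  refine Nat.le_of_dvd Nat.card_pos (hD.card_dvd (hE.map _) ?_)
  rintro _ ⟨e, he, rfl⟩
  obtain ⟨h3, h4⟩ := mem_St.1 (hEuv he)
  refine mem_St.2 ⟨?_, ?_⟩
  · change (g * e * g⁻¹) • x = x
    rw [mul_smul, mul_smul, ← hg1, inv_smul_smul, h3]
  · change (g * e * g⁻¹) • y = y
    rw [mul_smul, mul_smul, ← hg2, inv_smul_smul, h4]

namespace Pl

open Configuration Configuration.ProjectivePlane

variable {G P L : Type*} [Group G] [Membership P L] [MulAction G P] [MulAction G L]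
variable [Act G P L] [ProjectivePlane P L] [Finite P] [Finite L] [Finite G]

/-- the order of the fixed plane -/
noncomputable def ord {D : Subgroup G} (h : Planar P L D) : ℕ := @order (FP P D) (FP L D) _ (fixPlane h)

theorem sq_inj {a b : ℕ} (h : a ^ 2 + a + 1 = b ^ 2 + b + 1) : a = b := by
  rcases lt_trichotomy a b with h1 | h1 | h1
  · nlinarith
  · exact h1
  · nlinarith

theorem card_FP {D : Subgroup G} (h : Planar P L D) : Nat.card (FP P D) = ord h ^ 2 + ord h + 1 :=
  letI := fixPlane h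
  card_P (FP P D) (FP L D)

theorem ord_bot (h : Planar P L (⊥ : Subgroup G)) : ord h = order P L := by
  apply sq_inj
  rw [← card_FP, ← card_P P L]
  exact Nat.card_congr ⟨fun p => p.1, fun p => ⟨p, fun d hd => by rw [Subgroup.mem_bot.1 hd, one_smul]⟩,
    fun _ => rfl, fun _ => rfl⟩

theorem ord_gt_one {D : Subgroup G} (h : Planar P L D) : 1 < ord h :=
  letI := fixPlane h
  one_lt_order (FP P D) (FP L D)

theorem ord_step {E : Subgroup G} {g : G} (hg : g ∈ Subgroup.normalizer (E : Set G)) (hg2 : g ^ 2 ∈ E)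
    (hE : Planar P L E) (hD : Planar P L (E ⊔ Subgroup.zpowers g)) : ord hE = ord hD ∨ ord hE = ord hD ^ 2 := by
  let _ := fixPlane hE
  let γ : Subgroup.normalizer (E : Set G) := ⟨g, hg⟩
  have h2 : ∀ p : FP P E, γ • γ • p = p := by
    intro p
    apply FP.ext
    change g • g • p.1 = p.1
    rw [← mul_smul, ← pow_two]
    exact p.2 _ hg2
  have hres : ∀ p : FP P (E ⊔ Subgroup.zpowers g), (∀ e ∈ E, e • p.1 = p.1) ∧ g • p.1 = p.1 := by
    intro p
    exact ⟨fun e he => p.2 e ((le_sup_left : E ≤ E ⊔ Subgroup.zpowers g) he),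
      p.2 g ((le_sup_right : Subgroup.zpowers g ≤ E ⊔ Subgroup.zpowers g) (Subgroup.mem_zpowers g))⟩
  have hresL : ∀ p : FP L (E ⊔ Subgroup.zpowers g), (∀ e ∈ E, e • p.1 = p.1) ∧ g • p.1 = p.1 := by
    intro p
    exact ⟨fun e he => p.2 e ((le_sup_left : E ≤ E ⊔ Subgroup.zpowers g) he),
      p.2 g ((le_sup_right : Subgroup.zpowers g ≤ E ⊔ Subgroup.zpowers g) (Subgroup.mem_zpowers g))⟩
  by_cases ht : ∀ p : FP P E, γ • p = p
  · left
    apply sq_inj
    rw [← card_FP, ← card_FP]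
    exact Nat.card_congr ⟨fun p => ⟨p.1, fix_sup p.2 (congrArg Subtype.val (ht p))⟩,
      fun p => ⟨p.1, (hres p).1⟩, fun _ => rfl, fun _ => rfl⟩
  · right
    push Not at ht
    obtain ⟨x, hx⟩ := ht
    obtain ⟨f, hxf, hgf⟩ := exL (FP L E) x (γ • x)
    have hf : γ • f = f := inv_line (h2 x) hx hxf hgf
    have hY := card_fix_off h2 hx hxf hf
    have hY' : ord hE = Nat.card {y : FP P E // γ • y = y ∧ y ∉ f} := hY.symm
    rw [hY']
    have hfD : ∀ d ∈ E ⊔ Subgroup.zpowers g, d • f.1 = f.1 := fix_sup f.2 (congrArg Subtype.val hf)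
    let fD : FP L (E ⊔ Subgroup.zpowers g) := ⟨f.1, hfD⟩
    have h3 : Nat.card {y : FP P (E ⊔ Subgroup.zpowers g) // y ∉ fD} = ord hD ^ 2 :=
      letI := fixPlane hD
      card_off (P := FP P (E ⊔ Subgroup.zpowers g)) (L := FP L (E ⊔ Subgroup.zpowers g)) _
    rw [← h3]
    exact Nat.card_congr ⟨fun y => ⟨⟨y.1.1, fix_sup y.1.2 (congrArg Subtype.val y.2.1)⟩, fun h => y.2.2 h⟩,
      fun y => ⟨⟨y.1.1, (hres y.1).1⟩, FP.ext (hres y.1).2, fun h => y.2 h⟩, fun _ => rfl, fun _ => rfl⟩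

theorem ord_chain {D : Subgroup G} (hD : Planar P L D) (h2 : IsPGroup 2 D) : ∀ (k : ℕ) (E : Subgroup G)
    (hED : E ≤ D), Nat.card D - Nat.card E = k → ∃ i, ord (hD.mono hED) = ord hD ^ (2 ^ i) := by
  intro k
  induction k using Nat.strong_induction_on with
  | _ k ih =>
    intro E hED hk
    by_cases hE : E = D
    · subst hE
      exact ⟨0, by simp⟩
    have hne : E.relIndex D ≠ 1 := by
      intro h
      exact hE (le_antisymm hED (Subgroup.relIndex_eq_one.1 h))
    have h2E : IsPGroup 2 E := h2.to_le hED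
    have hdvd : 2 ∣ E.relIndex D := by
      obtain ⟨m, hm⟩ := IsPGroup.iff_card.1 h2
      have : E.relIndex D ∣ 2 ^ m := by
        rw [← hm, card_eq_relIndex hED]
        exact dvd_mul_left _ _
      obtain ⟨j, -, hj⟩ := (Nat.dvd_prime_pow Nat.prime_two).1 this
      rw [hj] at hne ⊢
      exact dvd_pow_self 2 (fun h => hne (by rw [h, pow_zero]))
    obtain ⟨g, hgD, hgN, hgE, hg2⟩ := ex_norm h2E hED hdvd
    have hle : E ⊔ Subgroup.zpowers g ≤ D := sup_le hED (by rwa [Subgroup.zpowers_le])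
    have hlt := card_lt_sup hgE
    have hle' : Nat.card (E ⊔ Subgroup.zpowers g : Subgroup G) ≤ Nat.card D :=
      Nat.le_of_dvd Nat.card_pos (Subgroup.card_dvd_of_le hle)
    obtain ⟨i, hi⟩ := ih _ (by omega) _ hle rfl
    rcases ord_step hgN hg2 (hD.mono hED) (hD.mono hle) with h3 | h3
    · exact ⟨i, h3.trans hi⟩
    · refine ⟨i + 1, ?_⟩
      rw [h3, hi, ← pow_mul, pow_succ]

theorem ord_order {D : Subgroup G} (hD : Planar P L D) (h2 : IsPGroup 2 D) : ∃ i, order P L = ord hD ^ (2 ^ i) := by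
  obtain ⟨i, hi⟩ := ord_chain hD h2 _ ⊥ bot_le rfl
  exact ⟨i, by rw [← hi, ord_bot]⟩

/-- a Sylow 2-subgroup of a two-point stabiliser fixes no quadrangle -/
theorem syl_not_planar (hT : T2 G P) {x y : P} (hxy : x ≠ y) {D : Subgroup G} (hD : IsSyl 2 D (St G x y)) :
    ¬ Planar P L D := by
  intro hpl
  obtain ⟨h, hh1, hh2⟩ := hT x y y x hxy (Ne.symm hxy)
  obtain ⟨k, hk, hkh⟩ := hD.frattini (h := h) (by
    intro g hg
    obtain ⟨h3, h4⟩ := mem_St.1 hg
    refine mem_St.2 ⟨?_, ?_⟩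
    · rw [mul_smul, mul_smul, ← hh2, inv_smul_smul, h4]
    · rw [mul_smul, mul_smul, ← hh1, inv_smul_smul, h3])
  obtain ⟨k1, k2⟩ := mem_St.1 hk
  -- the 2-part
  obtain ⟨m, hm, hgp⟩ := ppart 2 (k * h)
  have hmo : Odd m := by
    rw [← Nat.not_even_iff_odd, even_iff_two_dvd]
    exact (Nat.Prime.coprime_iff_not_dvd Nat.prime_two).1 hm
  set a := k * h with ha
  have ha1 : a • x = y := by rw [ha, mul_smul, hh1, k2]
  have ha2 : a • y = x := by rw [ha, mul_smul, hh2, k1]
  have ha3 : ∀ j : ℕ, a ^ (2 * j) • x = x ∧ a ^ (2 * j) • y = y := by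
    intro j
    induction j with
    | zero => simp
    | succ j ih =>
      have : a ^ (2 * (j + 1)) = a ^ (2 * j) * (a * a) := by rw [mul_add, pow_add]; simp [pow_two]
      rw [this]
      constructor
      · rw [mul_smul, mul_smul, ha1, ha2, ih.1]
      · rw [mul_smul, mul_smul, ha2, ha1, ih.2]
  obtain ⟨j, hj⟩ := hmo
  set g := a ^ m with hgdef
  have hg1 : g • x = y := by
    rw [hgdef, hj, pow_succ, mul_smul, ha1, (ha3 j).2]
  have hg2 : g • y = x := by
    rw [hgdef, hj, pow_succ, mul_smul, ha2, (ha3 j).1]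
  have hgN : g ∈ Subgroup.normalizer (D : Set G) := Subgroup.pow_mem _ hkh m
  -- the square lies in `D`
  have hggP : IsPGroup 2 (Subgroup.zpowers (g ^ 2)) :=
    hgp.to_le (by rw [Subgroup.zpowers_le]; exact Subgroup.pow_mem _ (Subgroup.mem_zpowers g) 2)
  have hgg : g ^ 2 ∈ D := by
    by_contra hne
    have h3 := card_lt_sup hne
    have h4 := hD.card_dvd (isP_sup hD.isP (Subgroup.pow_mem _ hgN 2) hggP) (sup_le hD.le (by
      rw [Subgroup.zpowers_le]
      refine mem_St.2 ⟨?_, ?_⟩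
      · rw [pow_two, mul_smul, hg1, hg2]
      · rw [pow_two, mul_smul, hg2, hg1]))
    have h5 := Nat.le_of_dvd Nat.card_pos h4
    omega
  let _ := fixPlane hpl
  let γ : Subgroup.normalizer (D : Set G) := ⟨g, hgN⟩
  have hx : ∀ d ∈ D, d • x = x := fun d hd => (mem_St.1 (hD.le hd)).1
  have h2 : ∀ p : FP P D, γ • γ • p = p := by
    intro p
    apply FP.ext
    change g • g • p.1 = p.1
    rw [← mul_smul, ← pow_two]
    exact p.2 _ hgg
  have hnt : ¬ ∀ p : FP P D, γ • p = p := by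
    intro h3
    have h4 := congrArg Subtype.val (h3 ⟨x, hx⟩)
    have h5 : g • x = x := h4
    exact hxy (h5.symm.trans hg1)
  obtain ⟨u, v, huv, hu, hv⟩ := invol_two (FP L D) h2 hnt
  have hu' : g • u.1 = u.1 := congrArg Subtype.val hu
  have hv' : g • v.1 = v.1 := congrArg Subtype.val hv
  have h6 : g ∉ D := fun h7 => hxy ((hx g h7).symm.trans hg1)
  have h7 := card_lt_sup h6
  have h8 := hT.card_le hxy (fun h9 => huv (FP.ext h9)) hD (isP_sup hD.isP hgN hgp) (fun d hd =>
    mem_St.2 ⟨fix_sup u.2 hu' d hd, fix_sup v.2 hv' d hd⟩)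
  omega

variable (G P L) in
/-- a planar 2-subgroup of maximal order -/
theorem ex_max_planar : ∃ D : Subgroup G, IsPGroup 2 D ∧ Planar P L D ∧
    ∀ E : Subgroup G, IsPGroup 2 E → Planar P L E → Nat.card E ≤ Nat.card D := by
  obtain ⟨D, hD, hmax⟩ := Set.exists_max_image {D : Subgroup G | IsPGroup 2 D ∧ Planar P L D} (fun D => Nat.card D)
    (Set.toFinite _) ⟨⊥, IsPGroup.of_bot, by
      obtain ⟨a, b, c, d, hq⟩ := ex_quad P L
      have h : ∀ p : P, ∀ g ∈ (⊥ : Subgroup G), g • p = p := fun p g hg => by rw [Subgroup.mem_bot.1 hg, one_smul]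
      exact ⟨⟨a, h a⟩, ⟨b, h b⟩, ⟨c, h c⟩, ⟨d, h d⟩, hq⟩⟩
  exact ⟨D, hD.1, hD.2, fun E h1 h2 => hmax E ⟨h1, h2⟩⟩

/-- the involution of the fixed plane -/
theorem ex_invol {D : Subgroup G} (hD2 : IsPGroup 2 D) (hD : Planar P L D)
    (hmax : ∀ E : Subgroup G, IsPGroup 2 E → Planar P L E → Nat.card E ≤ Nat.card D) {K : Subgroup G}
    (hDK : D ≤ K) (hdvd : 2 ∣ D.relIndex K) : ∃ g : Subgroup.normalizer (D : Set G), g.1 ∈ K ∧
      toColl (Subgroup.normalizer (D : Set G)) (FP P D) (FP L D) g ≠ 1 ∧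
      toColl (Subgroup.normalizer (D : Set G)) (FP P D) (FP L D) g ^ 2 = 1 := by
  let _ := fixPlane hD
  obtain ⟨g, hgK, hgN, hgD, hg2⟩ := ex_norm hD2 hDK hdvd
  refine ⟨⟨g, hgN⟩, hgK, ?_, ?_⟩
  · intro h1
    have h2 : ∀ p : FP P D, g • p.1 = p.1 := by
      intro p
      have h3 : toColl (Subgroup.normalizer (D : Set G)) (FP P D) (FP L D) ⟨g, hgN⟩ • p = p := by
        rw [h1, one_smul]
      exact congrArg Subtype.val h3
    have h3 := card_lt_sup hgD
    have h4 := hmax _ (isP_sup hD2 hgN (isP_zpowers_of_pow hD2 hg2)) (by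
      obtain ⟨a, b, c, d, hq⟩ := hD
      exact ⟨⟨a.1, fix_sup a.2 (h2 a)⟩, ⟨b.1, fix_sup b.2 (h2 b)⟩, ⟨c.1, fix_sup c.2 (h2 c)⟩,
        ⟨d.1, fix_sup d.2 (h2 d)⟩, hq⟩)
    omega
  · rw [← map_pow]
    apply FaithfulSMul.eq_of_smul_eq_smul (α := FP P D)
    intro p
    rw [one_smul]
    apply FP.ext
    exact p.2 _ hg2

end Pl

end Cfsg.Agent.H985
end

-- part: H985/OrbAux
section
/-!
# Orbits and Sylow subgroups, auxiliary lemmas (S3732, helper985)
-/

set_option autoImplicit false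
set_option linter.unusedSectionVars false

namespace Cfsg.Agent.H985

theorem dvd_card_of_orbits {S X : Type*} [Group S] [MulAction S X] [Finite X] {d : ℕ}
    (h : ∀ x : X, d ∣ Nat.card (MulAction.orbit S x)) : d ∣ Nat.card X := by
  classical
  have : Fintype (MulAction.orbitRel.Quotient S X) := Fintype.ofFinite _
  rw [Nat.card_congr (MulAction.selfEquivSigmaOrbits S X), Nat.card_sigma]
  exact Finset.dvd_sum fun ω _ => h _

/-- an invariant subset, as a type with an action -/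
def inv' {G X : Type*} [Group G] [MulAction G X] (S : Subgroup G) (Y : Set X) (hY : ∀ g ∈ S, ∀ y ∈ Y, g • y ∈ Y) :
    SubMulAction S X where
  carrier := Y
  smul_mem' := fun g {_} hy => hY g.1 g.2 _ hy

theorem dvd_card_of_inv {G X : Type*} [Group G] [MulAction G X] [Finite X] (S : Subgroup G) (Y : Set X)
    (hY : ∀ g ∈ S, ∀ y ∈ Y, g • y ∈ Y) {d : ℕ} (h : ∀ y ∈ Y, d ∣ Nat.card (MulAction.orbit S y)) :
    d ∣ Nat.card Y := by
  have h1 : d ∣ Nat.card (inv' S Y hY) := by
    apply dvd_card_of_orbits (S := S)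
    intro x
    have h2 := h x.1 x.2
    have h3 : Nat.card (MulAction.orbit S x) = Nat.card (MulAction.orbit S x.1) := by
      rw [← SubMulAction.val_image_orbit, Nat.card_image_of_injective Subtype.val_injective]
    rwa [h3]
  exact h1

variable {p : ℕ} [Fact p.Prime]

theorem ex_fixed {G X : Type*} [Group G] [MulAction G X] [Finite X] {Q : Subgroup G} (hQ : IsPGroup p Q) (Y : Set X)
    (hY : ∀ g ∈ Q, ∀ y ∈ Y, g • y ∈ Y) (h : ¬ p ∣ Nat.card Y) : ∃ y ∈ Y, ∀ g ∈ Q, g • y = y := by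
  obtain ⟨y, hy⟩ := hQ.nonempty_fixed_point_of_prime_not_dvd_card (inv' Q Y hY) h
  exact ⟨y.1, y.2, fun g hg => congrArg Subtype.val (hy ⟨g, hg⟩)⟩

/-- if all orbits are large, then there is one orbit -/
theorem orbit_eq_of_dvd {G X : Type*} [Group G] [MulAction G X] [Finite X] (S : Subgroup G) (Y : Set X)
    (hY : ∀ g ∈ S, ∀ y ∈ Y, g • y ∈ Y) {y : X} (hy : y ∈ Y) (h : Nat.card Y ∣ Nat.card (MulAction.orbit S y)) :
    MulAction.orbit S y = Y := by
  have hsub : MulAction.orbit S y ⊆ Y := by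
    rintro _ ⟨g, rfl⟩
    exact hY g.1 g.2 y hy
  refine Set.eq_of_subset_of_ncard_le hsub ?_ (Set.toFinite _)
  rw [← Nat.card_coe_set_eq, ← Nat.card_coe_set_eq]
  have : Nonempty (MulAction.orbit S y) := ⟨⟨y, MulAction.mem_orbit_self y⟩⟩
  exact Nat.le_of_dvd Nat.card_pos h

variable {G : Type*} [Group G] [Finite G]

theorem IsSyl.inf_stab {X : Type*} [MulAction G X] [Finite X] {S H : Subgroup G} (hS : IsSyl p S H) {x : X}
    (h : Nat.card (MulAction.orbit S x) = Nat.card (MulAction.orbit H x)) :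
    IsSyl p (MulAction.stabilizer G x ⊓ S) (MulAction.stabilizer G x ⊓ H) := by
  refine ⟨hS.isP.to_le inf_le_right, inf_le_inf_left _ hS.le, ?_⟩
  have h0 : 0 < Nat.card (MulAction.orbit H x) := by
    have : Nonempty (MulAction.orbit H x) := ⟨⟨x, MulAction.mem_orbit_self x⟩⟩
    exact Nat.card_pos
  rw [card_orbit_eq, card_orbit_eq] at h
  rw [card_orbit_eq] at h0
  set A := MulAction.stabilizer G x with hA
  have h1 : (A ⊓ S).relIndex S * S.relIndex H = (A ⊓ S).relIndex H :=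
    Subgroup.relIndex_mul_relIndex _ _ _ inf_le_right hS.le
  have h2 : (A ⊓ S).relIndex (A ⊓ H) * (A ⊓ H).relIndex H = (A ⊓ S).relIndex H :=
    Subgroup.relIndex_mul_relIndex _ _ _ (inf_le_inf_left A hS.le) inf_le_right
  rw [Subgroup.inf_relIndex_right] at h1 h2
  rw [← h1, h, mul_comm] at h2
  rw [Nat.eq_of_mul_eq_mul_left h0 h2]
  exact hS.ndvd

theorem IsSyl.card_le_conj {X Y : Type*} [MulAction G X] [MulAction G Y] {x u : X} {y v : Y} {D E : Subgroup G}
    (hD : IsSyl p D (St G x y)) (hE : IsPGroup p E) (hEuv : E ≤ St G u v) (h : ∃ g : G, g • u = x ∧ g • v = y) :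
    Nat.card E ≤ Nat.card D := by
  obtain ⟨g, hg1, hg2⟩ := h
  have h1 : Nat.card E = Nat.card (E.map (MulAut.conj g).toMonoidHom) :=
    Nat.card_congr (Subgroup.equivMapOfInjective E _ (MulAut.conj g).injective).toEquiv
  rw [h1]
  refine Nat.le_of_dvd Nat.card_pos (hD.card_dvd (hE.map _) ?_)
  rintro _ ⟨e, he, rfl⟩
  obtain ⟨h3, h4⟩ := mem_St.1 (hEuv he)
  refine mem_St.2 ⟨?_, ?_⟩
  · change (g * e * g⁻¹) • x = x
    rw [mul_smul, mul_smul, ← hg1, inv_smul_smul, h3]
  · change (g * e * g⁻¹) • y = y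
    rw [mul_smul, mul_smul, ← hg2, inv_smul_smul, h4]

/-- central elements of prime order -/
theorem ex_central {S : Subgroup G} (hS : IsPGroup p S) (hne : S ≠ ⊥) :
    ∃ z ∈ S, z ≠ 1 ∧ z ^ p = 1 ∧ ∀ g ∈ S, g * z = z * g := by
  have : Nontrivial S := (Subgroup.nontrivial_iff_ne_bot S).2 hne
  have h1 := hS.center_nontrivial
  have h2 : p ∣ Nat.card (Subgroup.center S) := by
    obtain ⟨n, hn⟩ := IsPGroup.iff_card.1 (hS.to_subgroup (Subgroup.center S))
    rw [hn]
    refine dvd_pow_self p ?_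
    rintro rfl
    rw [pow_zero] at hn
    exact (Finite.one_lt_card_iff_nontrivial.2 h1).ne hn.symm
  obtain ⟨z, hz⟩ := exists_prime_orderOf_dvd_card' p h2
  refine ⟨z.1.1, z.1.2, ?_, ?_, ?_⟩
  · intro h3
    have : z = 1 := Subtype.ext (Subtype.ext h3)
    rw [this, orderOf_one] at hz
    exact (Nat.Prime.one_lt (Fact.out : p.Prime)).ne hz
  · have := pow_orderOf_eq_one z
    rw [hz] at this
    exact congrArg (fun t : Subgroup.center S => t.1.1) this
  · intro g hg
    exact congrArg Subtype.val (Subgroup.mem_center_iff.1 z.2 ⟨g, hg⟩)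

theorem card_St {X Y : Type*} [MulAction G X] [MulAction G Y] (x : X) (y : Y) :
    Nat.card G = Nat.card (MulAction.orbit G x) * Nat.card (MulAction.orbit (MulAction.stabilizer G x) y) *
      Nat.card (St G x y) := by
  have h1 := MulAction.index_stabilizer G x
  rw [← Nat.card_coe_set_eq] at h1
  rw [card_orbit_eq, ← h1]
  have h2 := card_eq_relIndex (D := St G x y) (K := MulAction.stabilizer G x) inf_le_left
  have h3 : (St G x y).relIndex (MulAction.stabilizer G x) =
      (MulAction.stabilizer G y).relIndex (MulAction.stabilizer G x) := by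
    rw [St, Subgroup.inf_relIndex_left]
  rw [h3] at h2
  have h4 := Subgroup.card_mul_index (MulAction.stabilizer G x)
  rw [← h4, h2]
  ring

end Cfsg.Agent.H985
end

-- part: H985/OddMain
section
/-!
# Doubly transitive planes of odd order have prime power order: the theorem (S3732, helper985)
-/

set_option autoImplicit false
set_option linter.unusedSectionVars false

namespace Cfsg.Agent.H985.Pl

open Configuration Configuration.ProjectivePlane

variable {G P L : Type*} [Group G] [Membership P L] [MulAction G P] [MulAction G L]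
variable [Act G P L] [ProjectivePlane P L] [Finite P] [Finite L] [Finite G]

theorem Quad.of_FP {D : Subgroup G} (hD : Planar P L D) {a b c d : FP P D} (hq : Quad (FP L D) a b c d) :
    Quad L a.1 b.1 c.1 d.1 := by
  let _ := fixPlane hD
  obtain ⟨n1, n2, n3, n4, n5, n6⟩ := hq.ne
  have key : ∀ {x y : FP P D} (hxy : x ≠ y) {l : L}, x.1 ∈ l → y.1 ∈ l → ∀ g ∈ D, g • l = l :=
    fun {x y} hxy {l} hx hy g hg => fixL (fun h => hxy (FP.ext h)) (x.2 g hg) (y.2 g hg) hx hy
  exact ⟨fun l h1 h2 => hq.1 ⟨l, key n1 h1 h2⟩ h1 h2, fun l h1 h2 => hq.2.1 ⟨l, key n1 h1 h2⟩ h1 h2,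
    fun l h1 h2 => hq.2.2.1 ⟨l, key n2 h1 h2⟩ h1 h2, fun l h1 h2 => hq.2.2.2 ⟨l, key n4 h1 h2⟩ h1 h2⟩

theorem allHom_max {D : Subgroup G} (hD2 : IsPGroup 2 D) (hD : Planar P L D)
    (hmax : ∀ E : Subgroup G, IsPGroup 2 E → Planar P L E → Nat.card E ≤ Nat.card D) (hodd : Odd (ord hD)) :
    letI := fixPlane hD
    AllHom (Im (Subgroup.normalizer (D : Set G)) (FP P D) (FP L D)) (FP P D) (FP L D) := by
  let _ := fixPlane hD
  rintro ⟨γ, h, hh⟩ hne h2
  have hne' : γ ≠ 1 := fun h3 => hne (Subtype.ext h3)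
  have h2' : γ ^ 2 = 1 := congrArg Subtype.val h2
  obtain ⟨m, hm, hgp⟩ := ppart 2 h.1
  have hmo : Odd m := by
    rw [← Nat.not_even_iff_odd, even_iff_two_dvd]
    exact (Nat.Prime.coprime_iff_not_dvd Nat.prime_two).1 hm
  have hγm : γ ^ m = γ := by
    obtain ⟨j, hj⟩ := hmo
    rw [hj, pow_succ, pow_mul, h2', one_pow, one_mul]
  have hg : ∀ p : FP P D, (h ^ m) • p = γ • p := by
    intro p
    have h3 : toColl (Subgroup.normalizer (D : Set G)) (FP P D) (FP L D) (h ^ m) = γ := by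
      rw [map_pow, hh, hγm]
    rw [← h3]; rfl
  have h22 : ∀ p : FP P D, γ • γ • p = p := by
    intro p
    rw [← mul_smul, ← pow_two, h2', one_smul]
  have hnt : ¬ ∀ p : FP P D, γ • p = p := by
    intro h3
    apply hne'
    apply FaithfulSMul.eq_of_smul_eq_smul (α := FP P D)
    intro p
    rw [h3, one_smul]
  rcases invol (L := FP L D) h22 hnt with ⟨a, ha⟩ | ⟨a, b, c, d, hq, h3, h4, h5, h6⟩
  · obtain ⟨c, hc, hce⟩ := invol_odd hodd h22 ha
    exact ⟨c, a, hc, ha, hce⟩
  · exfalso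
    have key : ∀ p : FP P D, γ • p = p → h.1 ^ m • p.1 = p.1 := by
      intro p hp
      rw [← hg] at hp
      exact congrArg Subtype.val hp
    have hgD : h.1 ^ m ∉ D := by
      intro h7
      apply hnt
      intro p
      rw [← hg]
      exact FP.ext (p.2 _ h7)
    have h8 := card_lt_sup hgD
    have h9 := hmax _ (isP_sup hD2 (Subgroup.pow_mem _ h.2 m) hgp)
      ⟨⟨a.1, fix_sup a.2 (key a h3)⟩, ⟨b.1, fix_sup b.2 (key b h4)⟩, ⟨c.1, fix_sup c.2 (key c h5)⟩,
        ⟨d.1, fix_sup d.2 (key d h6)⟩, hq.of_FP hD⟩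
    omega

theorem primePow_odd (hT : T2 G P) (hodd : Odd (order P L)) : ∃ p k : ℕ, p.Prime ∧ order P L = p ^ k := by
  obtain ⟨D, hD2, hD, hmax⟩ := ex_max_planar G P L
  obtain ⟨i, hi⟩ := ord_order hD hD2
  have hoD : Odd (ord hD) := by
    rw [hi] at hodd
    by_contra h
    rw [Nat.not_odd_iff_even] at h
    exact Nat.not_even_iff_odd.2 hodd (h.pow_of_ne_zero (by positivity))
  have hTL0 : T2 G L := T2.lines L hT
  have hTL : T2 G (Dual L) := hTL0
  let _ := fixPlane hD
  have hdvd : ∀ {X : Type _} (K : Subgroup G), D ≤ K → ¬ IsSyl 2 D K → 2 ∣ D.relIndex K := by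
    intro _ K h1 h2
    by_contra h3
    exact h2 ⟨hD2, h1, h3⟩
  have h1 : ∀ x y : FP P D, x ≠ y → ∃ g : Im (Subgroup.normalizer (D : Set G)) (FP P D) (FP L D),
      g ≠ 1 ∧ g ^ 2 = 1 ∧ g • x = x ∧ g • y = y := by
    intro x y hxy
    have hxy' : x.1 ≠ y.1 := fun h => hxy (FP.ext h)
    obtain ⟨g, hg1, hg2, hg3⟩ := ex_invol hD2 hD hmax (K := St G x.1 y.1) (fun d hd => mem_St.2 ⟨x.2 d hd, y.2 d hd⟩)
      (hdvd (X := P) _ (fun d hd => mem_St.2 ⟨x.2 d hd, y.2 d hd⟩) (fun h => syl_not_planar hT hxy' h hD))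
    refine ⟨⟨_, g, rfl⟩, fun h => hg2 (congrArg Subtype.val h), Subtype.ext hg3, ?_, ?_⟩
    · exact FP.ext (mem_St.1 hg1).1
    · exact FP.ext (mem_St.1 hg1).2
  have h3 : ∀ x y : FP L D, x ≠ y → ∃ g : Im (Subgroup.normalizer (D : Set G)) (FP P D) (FP L D),
      g ≠ 1 ∧ g ^ 2 = 1 ∧ g • x = x ∧ g • y = y := by
    intro x y hxy
    have hxy' : x.1 ≠ y.1 := fun h => hxy (FP.ext h)
    obtain ⟨g, hg1, hg2, hg3⟩ := ex_invol hD2 hD hmax (K := St G x.1 y.1) (fun d hd => mem_St.2 ⟨x.2 d hd, y.2 d hd⟩)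
      (hdvd (X := P) _ (fun d hd => mem_St.2 ⟨x.2 d hd, y.2 d hd⟩) (fun h =>
        syl_not_planar (P := Dual L) (L := Dual P) hTL hxy' h hD.dual))
    refine ⟨⟨_, g, rfl⟩, fun h => hg2 (congrArg Subtype.val h), Subtype.ext hg3, ?_, ?_⟩
    · exact FP.ext (mem_St.1 hg1).1
    · exact FP.ext (mem_St.1 hg1).2
  obtain ⟨p, k, hp, hk⟩ := primePow_of_hom (G := Im (Subgroup.normalizer (D : Set G)) (FP P D) (FP L D))
    (P := FP P D) (L := FP L D) hoD (allHom_max hD2 hD hmax hoD) h1 h3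
  refine ⟨p, k * 2 ^ i, hp, ?_⟩
  rw [hi, pow_mul, ← hk]
  rfl

end Cfsg.Agent.H985.Pl
end

-- part: H985/Elat
section
/-!
# Doubly transitive planes have elations (S3732, helper985)
-/

set_option autoImplicit false
set_option linter.unusedSectionVars false

namespace Cfsg.Agent.H985

theorem orbit_univ {G X : Type*} [Group G] [MulAction G X] (h : ∀ x y : X, ∃ g : G, g • x = y) (x : X) :
    MulAction.orbit G x = Set.univ :=
  Set.eq_univ_of_forall fun y => h x y

theorem T2.orbit_stab {G X : Type*} [Group G] [MulAction G X] (h : T2 G X) {x y : X} (hxy : y ≠ x) :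
    MulAction.orbit (MulAction.stabilizer G x) y = {z | z ≠ x} := by
  ext z
  constructor
  · rintro ⟨⟨g, hg⟩, rfl⟩ h1
    have h2 : g • x = x := hg
    exact hxy (MulAction.injective g (h1.trans h2.symm))
  · intro hz
    obtain ⟨g, h1, h2⟩ := h x y x z (Ne.symm hxy) (Ne.symm hz)
    exact ⟨⟨g, h1⟩, h2⟩

theorem card_ne {X : Type*} [Finite X] (x : X) : Nat.card {z : X | z ≠ x} + 1 = Nat.card X := by
  have h1 : Set.ncard {z : X | z ≠ x} + Set.ncard ({x} : Set X) = Nat.card X := by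
    have h2 : {z : X | z ≠ x} = ({x} : Set X)ᶜ := rfl
    rw [h2, add_comm]
    exact Set.ncard_add_ncard_compl _
  rw [Set.ncard_singleton] at h1
  rw [Nat.card_coe_set_eq]
  exact h1

namespace Pl

open Configuration Configuration.ProjectivePlane

variable {G P L : Type*} [Group G] [Membership P L] [MulAction G P] [MulAction G L]
variable [Act G P L] [ProjectivePlane P L] [Finite P] [Finite L] [Finite G]

theorem T2.orbit_off (hT : T2 G P) {x : P} {u : L} (hxu : x ∉ u) :
    MulAction.orbit (MulAction.stabilizer G u) x = {z | z ∉ u} := by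
  ext z
  constructor
  · rintro ⟨⟨g, hg⟩, rfl⟩ h1
    have h2 : g • u = u := hg
    have h3 : g • x ∈ u := h1
    rw [← h2, mem_smul_iff] at h3
    exact hxu h3
  · intro hz
    obtain ⟨g, h1, h2⟩ := T2.antiflag hT hxu hz
    exact ⟨⟨g, h2⟩, h1⟩

variable (L) in
include L in
theorem T2.card_pts (hT : T2 G P) {x y : P} (hxy : x ≠ y) :
    Nat.card G = Nat.card P * (order P L ^ 2 + order P L) * Nat.card (St G x y) := by
  rw [card_St x y, orbit_univ (hT.one (ex_ne L)), hT.orbit_stab (Ne.symm hxy)]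
  have h1 := card_ne x
  rw [card_P P L] at h1
  have h2 : Nat.card {z : P | z ≠ x} = order P L ^ 2 + order P L := by omega
  rw [h2, Nat.card_congr (Equiv.Set.univ P)]

theorem T2.card_anti (hT : T2 G P) {x : P} {u : L} (hxu : x ∉ u) :
    Nat.card G = Nat.card L * order P L ^ 2 * Nat.card (St G x u) := by
  have h0 : St G x u = St G u x := inf_comm _ _
  have h1 : MulAction.orbit G u = Set.univ :=
    orbit_univ (T2.one (T2.lines L hT) (ex_ne (P := Dual L) (Dual P))) u
  have h2 : Nat.card {z : P | z ∉ u} = order P L ^ 2 := card_off u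
  rw [h0, card_St u x, h1, T2.orbit_off hT hxu, h2, Nat.card_congr (Equiv.Set.univ L)]

/-- **NP** -/
theorem anti_not_planar (hT : T2 G P) {p : ℕ} [Fact p.Prime] (hp : p ∣ order P L) {x : P} {u : L} (hxu : x ∉ u)
    {Q : Subgroup G} (hQ : IsSyl p Q (St G x u)) : ¬ Planar P L Q := by
  intro hpl
  have hpl' := hpl
  obtain ⟨a, b, c, d, hq⟩ := hpl'
  have hab := hq.ne.1
  have hQK : Q ≤ St G a.1 b.1 := fun g hg => mem_St.2 ⟨a.2 g hg, b.2 g hg⟩
  have hn := one_lt_order P L
  -- `p` divides the index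
  have hdvd : p ∣ Q.relIndex (St G a.1 b.1) := by
    have h1 := T2.card_pts L hT hab
    have h2 := T2.card_anti hT hxu
    rw [card_eq_relIndex hQK] at h1
    rw [card_eq_relIndex hQ.le, card_L P L] at h2
    rw [h2, card_P P L] at h1
    have hc : 0 < Nat.card Q := Nat.card_pos
    have h3 : (order P L + 1) * Q.relIndex (St G a.1 b.1) = order P L * Q.relIndex (St G x u) := by
      have h4 : ((order P L ^ 2 + order P L + 1) * order P L * Nat.card Q) *
          ((order P L + 1) * Q.relIndex (St G a.1 b.1)) =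
          ((order P L ^ 2 + order P L + 1) * order P L * Nat.card Q) * (order P L * Q.relIndex (St G x u)) := by
        linear_combination -h1
      refine Nat.eq_of_mul_eq_mul_left ?_ h4
      positivity
    have h5 : p ∣ (order P L + 1) * Q.relIndex (St G a.1 b.1) := by
      rw [h3]; exact Dvd.dvd.mul_right hp _
    refine ((Nat.Prime.dvd_mul Fact.out).1 h5).resolve_left ?_
    intro h6
    have h7 := (Nat.dvd_add_right hp).1 h6
    exact (Nat.Prime.one_lt (Fact.out : p.Prime)).ne' (Nat.dvd_one.1 h7)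
  obtain ⟨g, hgK, hgN, hgQ, hgp⟩ := ex_norm hQ.isP hQK hdvd
  let _ := fixPlane hpl
  let γ : Subgroup.normalizer (Q : Set G) := ⟨g, hgN⟩
  have hγa : γ • a = a := FP.ext (mem_St.1 hgK).1
  have hγb : γ • b = b := FP.ext (mem_St.1 hgK).2
  have hab' : a ≠ b := fun h => hab (congrArg Subtype.val h)
  have hcard := card_fix_eq (P := FP P Q) (L := FP L Q) γ
  have h2 : 1 < Nat.card {l : FP L Q // γ • l = l} := by
    rw [← hcard]
    exact Finite.one_lt_card_iff_nontrivial.2 ⟨⟨⟨a, hγa⟩, ⟨b, hγb⟩, fun h => hab' (congrArg Subtype.val h)⟩⟩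
  obtain ⟨⟨⟨l, hl⟩, ⟨m, hm⟩, hlm⟩⟩ := Finite.one_lt_card_iff_nontrivial.1 h2
  have hlm' : l ≠ m := fun h => hlm (Subtype.ext h)
  -- an antiflag
  have key : ∃ (y : FP P Q) (k : FP L Q), γ • y = y ∧ γ • k = k ∧ y ∉ k := by
    by_contra hno
    push Not at hno
    exact hlm' (uL hab' (hno a l hγa hl) (hno b l hγb hl) (hno a m hγa hm) (hno b m hγb hm))
  obtain ⟨y, k, hy, hk, hyk⟩ := key
  have h3 := card_lt_sup hgQ
  have h4 := hQ.card_le_conj (isP_sup hQ.isP hgN (isP_zpowers_of_pow hQ.isP hgp)) (u := y.1) (v := k.1)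
    (fun d hd => mem_St.2 ⟨fix_sup y.2 (congrArg Subtype.val hy) d hd, fix_sup k.2 (congrArg Subtype.val hk) d hd⟩)
    (T2.antiflag hT (fun h => hyk h) hxu)
  omega

/-- a `p`-group with two fixed points has a third one on the line joining them -/
theorem third_fixed {p : ℕ} [Fact p.Prime] (hp : p ∣ order P L) {Q : Subgroup G} (hQ : IsPGroup p Q) {x y : P} {l : L}
    (hxy : x ≠ y) (hx : x ∈ l) (hy : y ∈ l) (hxf : ∀ g ∈ Q, g • x = x) (hyf : ∀ g ∈ Q, g • y = y) :
    ∃ w : P, w ∈ l ∧ w ≠ x ∧ w ≠ y ∧ ∀ g ∈ Q, g • w = w := by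
  obtain ⟨w, hw, hwf⟩ := ex_fixed hQ {w : P | w ∈ l ∧ w ≠ x ∧ w ≠ y} (by
    rintro g hg w ⟨h1, h2, h3⟩
    have hl : g • l = l := fixL hxy (hxf g hg) (hyf g hg) hx hy
    refine ⟨?_, ?_, ?_⟩
    · have := mem_smul g h1; rwa [hl] at this
    · intro h; exact h2 (MulAction.injective g (h.trans (hxf g hg).symm))
    · intro h; exact h3 (MulAction.injective g (h.trans (hyf g hg).symm))) (by
    have h1 : {w : P | w ∈ l ∧ w ≠ x ∧ w ≠ y} = {w : P | w ∈ l ∧ w ≠ x} \ {y} := by
      ext w; simp [and_assoc]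
    have h2 : Set.ncard {w : P | w ∈ l ∧ w ≠ x} = order P L := by
      rw [← Nat.card_coe_set_eq]
      exact card_pts_ne hx
    have h0 : y ∈ {w : P | w ∈ l ∧ w ≠ x} := ⟨hy, Ne.symm hxy⟩
    rw [Nat.card_coe_set_eq, h1, Set.ncard_sdiff_singleton_of_mem h0, h2]
    intro h3
    have h4 := one_lt_order P L
    have h5 : order P L = (order P L - 1) + 1 := by omega
    rw [h5] at hp
    exact (Nat.Prime.one_lt (Fact.out : p.Prime)).ne' (Nat.dvd_one.1 ((Nat.dvd_add_right h3).1 hp)))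
  exact ⟨w, hw.1, hw.2.1, hw.2.2, hwf⟩

/-- a collineation fixing all points off a line is trivial -/
theorem triv_of_off {g : G} {u : L} (h : ∀ x : P, x ∉ u → g • x = x) (x : P) : g • x = x := by
  by_cases hx : x ∈ u
  · have h1 : ∀ l : L, l ≠ u → g • l = l := by
      intro l hl
      obtain ⟨r, hr1, hr2⟩ := exP0 (P := P) hl
      obtain ⟨a, ha, har, -⟩ := ex_third (P := P) l r r
      obtain ⟨b, hb, hbr, hba⟩ := ex_third (P := P) l r a
      exact fixL (Ne.symm hba) (h a (fun h1 => har (uP hl ha h1 hr1 hr2))) (h b (fun h1 => hbr (uP hl hb h1 hr1 hr2)))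
        ha hb
    obtain ⟨l, hl, hlu, -⟩ := ex_thirdL x u u
    obtain ⟨m, hm, hmu, hml⟩ := ex_thirdL x u l
    exact fixP (Ne.symm hml) (h1 l hlu) (h1 m hmu) hl hm
  · exact h x hx

theorem T2.syl_line (_hT : T2 G P) {p : ℕ} [Fact p.Prime] (hp : p ∣ order P L) {S : Subgroup G}
    (hS : IsSyl p S ⊤) : ∃ u : L, IsSyl p S (MulAction.stabilizer G u) := by
  have hnd : ¬ p ∣ Nat.card L := by
    rw [card_L P L, pow_two]
    intro h
    have h1 : p ∣ order P L * order P L + order P L := (Dvd.dvd.mul_right hp _).add hp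
    exact (Nat.Prime.one_lt (Fact.out : p.Prime)).ne' (Nat.dvd_one.1 ((Nat.dvd_add_right h1).1 h))
  obtain ⟨u, -, hu⟩ := ex_fixed hS.isP (Set.univ : Set L) (fun _ _ _ _ => trivial) (by
    rw [Nat.card_congr (Equiv.Set.univ L)]; exact hnd)
  exact ⟨u, hS.mono hu le_top⟩

/-- **elations in planes of order `p ^ a`** -/
theorem elation_p [FaithfulSMul G P] (hT : T2 G P) {p a : ℕ} (hp : p.Prime) (hn : order P L = p ^ a) :
    ∃ (z : P) (w : L), Fl G z w := by
  have : Fact p.Prime := ⟨hp⟩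
  have hn1 := one_lt_order P L
  have ha : a ≠ 0 := by
    rintro rfl
    rw [pow_zero] at hn
    omega
  have hpn : p ∣ order P L := hn ▸ dvd_pow_self p ha
  obtain ⟨S, hS⟩ := IsSyl.exists p (⊤ : Subgroup G)
  obtain ⟨u, hSu⟩ := T2.syl_line hT hpn hS
  have hu : ∀ g ∈ S, g • u = u := hSu.le
  have hn1' : ¬ p ∣ order P L + 1 := by
    intro h
    exact hp.one_lt.ne' (Nat.dvd_one.1 ((Nat.dvd_add_right hpn).1 h))
  -- the fixed point on `u`
  obtain ⟨M, hMu, hM⟩ := ex_fixed hS.isP {x : P | x ∈ u} (by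
    intro g hg y hy
    have hy' : y ∈ u := hy
    change g • y ∈ u
    have := mem_smul g hy'
    rwa [hu g hg] at this) (by
      change ¬ p ∣ Nat.card {x : P // x ∈ u}
      rw [card_pts]
      exact hn1')
  -- transitivity off `u`
  have htr : ∀ x : P, x ∉ u → MulAction.orbit S x = {z : P | z ∉ u} := by
    intro x hx
    refine orbit_eq_of_dvd S _ ?_ hx ?_
    · intro g hg y hy
      exact smul_off (hu g hg) hy
    · have h1 : Nat.card {z : P | z ∉ u} = p ^ (a * 2) := by
        have h2 : Nat.card {z : P | z ∉ u} = order P L ^ 2 := card_off u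
        rw [h2, hn, ← pow_mul]
      rw [h1]
      refine hSu.orbit_dvd ?_
      rw [T2.orbit_off hT hx, h1]
  -- a central element
  have hSne : S ≠ ⊥ := by
    rintro rfl
    obtain ⟨x, hx⟩ := exOffP (P := P) u
    have h1 := htr x hx
    have h2 : Nat.card {z : P | z ∉ u} = order P L ^ 2 := card_off u
    have h3 : Nat.card (MulAction.orbit (⊥ : Subgroup G) x) ≤ 1 := by
      rw [Finite.card_le_one_iff_subsingleton]
      refine ⟨?_⟩
      rintro ⟨_, ⟨g, hg⟩, rfl⟩ ⟨_, ⟨h, hh⟩, rfl⟩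
      rw [Subgroup.mem_bot] at hg hh
      subst hg hh
      rfl
    rw [h1, h2] at h3
    nlinarith
  obtain ⟨z, hzS, hz1, hzp, hzc⟩ := ex_central hS.isP hSne
  have hzno : ∀ x : P, x ∉ u → z • x ≠ x := by
    intro x hx hzx
    apply hz1
    apply one_of (P := P)
    apply triv_of_off (u := u)
    intro y hy
    have h1 : y ∈ MulAction.orbit S x := by rw [htr x hx]; exact hy
    obtain ⟨⟨g, hg⟩, rfl⟩ := h1
    change z • g • x = g • x
    rw [← mul_smul, ← hzc g hg, mul_smul, hzx]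
  have hzu : z • u = u := hu z hzS
  have hzM : z • M = M := hM z hzS
  -- main claim
  have key : ∀ x : P, x ∉ u → ∀ l : L, x ∈ l → M ∈ l → z • x ∈ l := by
    intro x hx l hxl hMl
    by_contra hzx
    have hxM : x ≠ M := fun h => hx (h ▸ hMu)
    have hQ := hSu.inf_stab (x := x) (by rw [htr x hx, T2.orbit_off hT hx])
    set Q := MulAction.stabilizer G x ⊓ S with hQdef
    have hQx : ∀ g ∈ Q, g • x = x := fun g hg => hg.1
    have hQzx : ∀ g ∈ Q, g • z • x = z • x := by
      intro g hg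
      rw [← mul_smul, hzc g hg.2, mul_smul, hQx g hg]
    have hQM : ∀ g ∈ Q, g • M = M := fun g hg => hM g hg.2
    obtain ⟨k, hk1, hk2⟩ := exL0 (L := L) (Ne.symm (hzno x hx))
    have hku : k ≠ u := fun h => hx (h ▸ hk1)
    have hlu : l ≠ u := fun h => hx (h ▸ hxl)
    have hlk : l ≠ k := fun h => hzx (h ▸ hk2)
    obtain ⟨R, hR1, hR2⟩ := exP0 (P := P) hku
    have hQk : ∀ g ∈ Q, g • k = k := fun g hg => fixL (Ne.symm (hzno x hx)) (hQx g hg) (hQzx g hg) hk1 hk2
    have hQR : ∀ g ∈ Q, g • R = R := fun g hg => fixP hku (hQk g hg) (hu g hg.2) hR1 hR2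
    have hRM : R ≠ M := by
      intro h
      exact hlk (uL hxM hxl hMl hk1 (h ▸ hR1))
    have hRx : R ≠ x := fun h => hx (h ▸ hR2)
    obtain ⟨X, hX, hXx, hXM, hQX⟩ := third_fixed hpn hQ.isP hxM hxl hMl hQx hQM
    obtain ⟨Y, hY, hYx, hYR, hQY⟩ := third_fixed hpn hQ.isP (Ne.symm hRx) hk1 hR1 hQx hQR
    refine anti_not_planar hT hpn hx hQ ⟨⟨X, hQX⟩, ⟨M, hQM⟩, ⟨Y, hQY⟩, ⟨R, hQR⟩, ?_, ?_, ?_, ?_⟩
    · intro m h1 h2 h3
      have e1 : m = l := uL hXM h1 h2 hX hMl
      exact hYx (uP hlk (e1 ▸ h3) hY hxl hk1)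
    · intro m h1 h2 h3
      have e1 : m = l := uL hXM h1 h2 hX hMl
      exact hRx (uP hlk (e1 ▸ h3) hR1 hxl hk1)
    · intro m h1 h2 h3
      have e1 : m = k := uL hYR h2 h3 hY hR1
      exact hXx (uP hlk hX (e1 ▸ h1) hxl hk1)
    · intro m h1 h2 h3
      have e1 : m = k := uL hYR h2 h3 hY hR1
      exact hlk (uL hxM hxl hMl hk1 (e1 ▸ h1))
  have hce : Ce z M L := by
    intro l hl
    by_cases hlu : l = u
    · rw [hlu, hzu]
    · obtain ⟨x, hx, hxM, -⟩ := ex_third (P := P) l M M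
      have hxu : x ∉ u := fun h => hxM (uP hlu hx h hl hMu)
      exact fixL' hxM hzM hx hl (key x hxu l hx hl)
  obtain ⟨w, hw⟩ := hce.exAx
  have hwu : w = u := by
    obtain ⟨x, hx, -, -⟩ := ex_third (P := P) w M M
    obtain ⟨y, hy, hyx, -⟩ := ex_third (P := P) w x x
    have hxu : x ∈ u := by
      by_contra h; exact hzno x h (hw x hx)
    have hyu : y ∈ u := by
      by_contra h; exact hzno y h (hw y hy)
    exact uL (Ne.symm hyx) hx hy hxu hyu
  subst hwu
  exact ⟨M, w, hMu, z, hz1, hw, hce⟩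

/-- **elations in planes of even order** -/
theorem elation_even [FaithfulSMul G P] (hT : T2 G P) (hn : Even (order P L)) :
    ∃ (z : P) (w : L), Fl G z w := by
  have hpn : 2 ∣ order P L := even_iff_two_dvd.1 hn
  have hn1 := one_lt_order P L
  obtain ⟨S, hS⟩ := IsSyl.exists 2 (⊤ : Subgroup G)
  obtain ⟨u, hSu⟩ := T2.syl_line hT hpn hS
  have hu : ∀ g ∈ S, g • u = u := hSu.le
  have hSne : S ≠ ⊥ := by
    rintro rfl
    obtain ⟨x, hx⟩ := exOffP (P := P) u
    have h3 := T2.card_anti hT hx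
    have h4 := hS.ndvd
    apply h4
    have h5 : (⊥ : Subgroup G).relIndex ⊤ = Nat.card G := by
      rw [Subgroup.relIndex_top_right, Subgroup.index_bot]
    rw [h5, h3, mul_assoc, pow_two, mul_assoc]
    exact Dvd.dvd.mul_left (Dvd.dvd.mul_right hpn _) _
  obtain ⟨z, hzS, hz1, hzp, hzc⟩ := ex_central hS.isP hSne
  have hnt := not_triv (P := P) hz1
  have h2 : ∀ x : P, z • z • x = x := by
    intro x
    rw [← mul_smul, ← pow_two, hzp, one_smul]
  rcases invol (L := L) h2 hnt with ⟨w, hw⟩ | ⟨a, b, c, d, hq, h3, h4, h5, h6⟩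
  · obtain ⟨c, hc, hce⟩ := invol_even hn h2 hnt hw
    exact ⟨c, w, hc, z, hz1, hw, hce⟩
  exfalso
  -- the planar case
  have hfix : ∀ x : P, z • x = x → ∀ g ∈ (⊥ : Subgroup G) ⊔ Subgroup.zpowers z, g • x = x := by
    intro x hx
    exact fix_sup (fun g hg => by rw [Subgroup.mem_bot.1 hg, one_smul]) hx
  have hD : Planar P L ((⊥ : Subgroup G) ⊔ Subgroup.zpowers z) :=
    ⟨⟨a, hfix a h3⟩, ⟨b, hfix b h4⟩, ⟨c, hfix c h5⟩, ⟨d, hfix d h6⟩, hq⟩
  have hzD : z ∈ (⊥ : Subgroup G) ⊔ Subgroup.zpowers z :=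
    (le_sup_right : Subgroup.zpowers z ≤ _) (Subgroup.mem_zpowers z)
  have hbot : Planar P L (⊥ : Subgroup G) := hD.mono bot_le
  have hord : order P L = ord hD ^ 2 := by
    rcases ord_step (E := (⊥ : Subgroup G)) (g := z) (by
      rw [Subgroup.mem_normalizer_iff]
      intro g
      rw [Subgroup.mem_bot, Subgroup.mem_bot, mul_inv_eq_one, mul_eq_left]) (by rw [hzp]; exact one_mem _) hbot hD with h7 | h7
    · exfalso
      apply hnt
      rw [ord_bot] at h7
      have h8 := card_FP hD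
      rw [← h7, ← card_P P L] at h8
      have h9 : Function.Injective (fun x : FP P ((⊥ : Subgroup G) ⊔ Subgroup.zpowers z) => x.1) :=
        fun x y h => FP.ext h
      have h10 := (Function.Injective.bijective_of_nat_card_le h9 (le_of_eq h8.symm)).2
      intro x
      obtain ⟨y, rfl⟩ := h10 x
      exact y.2 z hzD
    · rw [← h7, ord_bot]
  -- the 2-part of the order of the subplane
  set m := ord hD with hm
  have hm1 : 1 < m := ord_gt_one hD
  have hm2 : 2 ∣ m := by
    have : 2 ∣ m ^ 2 := hord ▸ hpn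
    exact Nat.Prime.dvd_of_dvd_pow Nat.prime_two this
  obtain ⟨k, j, hj, hmk⟩ := Nat.exists_eq_pow_mul_and_not_dvd (n := m) (by omega) 2 (by norm_num)
  have hk : 1 ≤ k := by
    rcases Nat.eq_zero_or_pos k with h | h
    · exfalso
      rw [h, pow_zero, one_mul] at hmk
      exact hj (hmk ▸ hm2)
    · exact h
  have hTL : T2 G L := T2.lines L hT
  have horb : ∀ l : L, l ≠ u → 2 ^ (2 * k) ∣ Nat.card (MulAction.orbit S l) := by
    intro l hl
    refine hSu.orbit_dvd ?_
    rw [hTL.orbit_stab hl]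
    have h7 := card_ne u
    rw [card_L P L] at h7
    have h8 : Nat.card {z : L | z ≠ u} = order P L * (order P L + 1) := by
      have : order P L * (order P L + 1) = order P L ^ 2 + order P L := by ring
      omega
    rw [h8, hord, hmk]
    refine Dvd.dvd.mul_right ?_ _
    rw [mul_pow, ← pow_mul, mul_comm k 2]
    exact dvd_mul_right _ _
  have hcard := dvd_card_of_inv S {l : L | z • l = l ∧ l ≠ u} (by
    rintro g hg l ⟨h7, h8⟩
    refine ⟨?_, fun h9 => h8 (MulAction.injective g (h9.trans (hu g hg).symm))⟩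
    rw [← mul_smul, ← hzc g hg, mul_smul, h7]) (d := 2 ^ (2 * k)) (fun l hl => horb l hl.2)
  have hcount : Nat.card {l : L | z • l = l ∧ l ≠ u} = m * (m + 1) := by
    have h7 : {l : L | z • l = l ∧ l ≠ u} = {l : L | z • l = l} \ {u} := by
      ext l; simp
    have h0 : u ∈ {l : L | z • l = l} := hu z hzS
    rw [Nat.card_coe_set_eq, h7, Set.ncard_sdiff_singleton_of_mem h0, ← Nat.card_coe_set_eq]
    have h8 : Nat.card {l : L | z • l = l} = m ^ 2 + m + 1 := by
      rw [← card_FP hD]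
      have h9 := card_fix_eq (P := P) (L := L) z
      change Nat.card {l : L // z • l = l} = _
      rw [← h9]
      exact Nat.card_congr ⟨fun x => ⟨x.1, hfix x.1 x.2⟩, fun x => ⟨x.1, x.2 z hzD⟩, fun _ => rfl, fun _ => rfl⟩
    rw [h8, Nat.add_sub_cancel]
    ring
  rw [hcount] at hcard
  have hodd : Nat.Coprime (2 ^ (2 * k)) (m + 1) := by
    apply Nat.Coprime.pow_left
    rw [Nat.Prime.coprime_iff_not_dvd Nat.prime_two]
    omega
  have h7 : 2 ^ (2 * k) ∣ m := Nat.Coprime.dvd_of_dvd_mul_right hodd hcard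
  have h8 : 2 ^ (k + 1) ∣ m := (pow_dvd_pow 2 (by omega)).trans h7
  apply hj
  rw [hmk, pow_succ] at h8
  exact Nat.dvd_of_mul_dvd_mul_left (by positivity) h8

theorem ex_elation [FaithfulSMul G P] (hT : T2 G P) : ∃ (z : P) (w : L), Fl G z w := by
  rcases Nat.even_or_odd (order P L) with h | h
  · exact elation_even hT h
  · obtain ⟨p, k, hp, hk⟩ := primePow_odd hT h
    exact elation_p hT hp hk

end Pl

end Cfsg.Agent.H985
end

-- part: H985/Full
section
/-!
# All elations (Gleason), S3732, helper985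
-/

set_option autoImplicit false
set_option linter.unusedSectionVars false

namespace Cfsg.Agent.H985.Pl

open Configuration Configuration.ProjectivePlane

variable {G P L : Type*} [Group G] [Membership P L] [MulAction G P] [MulAction G L]
variable [Act G P L] [ProjectivePlane P L] [Finite P] [Finite L] [Finite G] [FaithfulSMul G P]

theorem card_Pg_conj (z : P) (w : L) (g : G) : Nat.card (Pg G z w) = Nat.card (Pg G (g • z) (g • w)) := by
  refine Nat.card_congr ⟨fun x => ⟨g * x.1 * g⁻¹, x.2.1.conj g, x.2.2.conj g⟩,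
    fun x => ⟨g⁻¹ * x.1 * g, ?_⟩, fun x => ?_, fun x => ?_⟩
  · have h1 := x.2.1.conj g⁻¹
    have h2 := x.2.2.conj g⁻¹
    rw [inv_smul_smul, inv_inv] at h1 h2
    exact ⟨h1, h2⟩
  · apply Subtype.ext
    change g⁻¹ * (g * x.1 * g⁻¹) * g = x.1
    group
  · apply Subtype.ext
    change g * (g⁻¹ * x.1 * g) * g⁻¹ = x.1
    group

theorem gleason_arith {n h e : ℕ} (hn : 1 < n) (hh : 1 < h) (h1 : h ∣ n) (h2 : e ∣ n ^ 2)
    (he : (n + 1) * (h - 1) = e - 1) (he0 : 0 < e) : h = n := by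
  obtain ⟨t, ht⟩ := h1
  obtain ⟨f, hf⟩ := h2
  obtain ⟨h', rfl⟩ : ∃ h', h = h' + 1 := ⟨h - 1, by omega⟩
  obtain ⟨e', rfl⟩ : ∃ e', e = e' + 1 := ⟨e - 1, by omega⟩
  simp only [Nat.add_sub_cancel] at he
  subst he
  have hh' : 1 ≤ h' := by omega
  -- f ≡ 1 mod (n+1)
  have hf0 : 1 ≤ f := by
    rcases Nat.eq_zero_or_pos f with h | h
    · rw [h, mul_zero] at hf; nlinarith
    · exact h
  have hf1 : f = 1 := by
    by_contra hne
    have hf2 : 2 ≤ f := by omega
    -- n² = (1 + (n+1) h') f  ⇒ (n+1) ∣ f - 1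
    have h3 : (n + 1) ∣ (f - 1) := by
      obtain ⟨f', rfl⟩ : ∃ f', f = f' + 1 := ⟨f - 1, by omega⟩
      simp only [Nat.add_sub_cancel]
      have h4 : (n + 1) * (n - 1) = (n + 1) * (h' * (f' + 1)) + f' := by
        obtain ⟨n', rfl⟩ : ∃ n', n = n' + 1 := ⟨n - 1, by omega⟩
        simp only [Nat.add_sub_cancel]
        nlinarith
      exact (Nat.dvd_add_right (dvd_mul_right _ _)).1 (h4 ▸ dvd_mul_right _ _)
    have h5 := Nat.le_of_dvd (by omega) h3
    have h6 : n + 2 ≤ f := by omega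
    have h7 : (n + 2) * (n + 2) ≤ n ^ 2 := by
      rw [hf]
      exact Nat.mul_le_mul (by nlinarith) h6
    nlinarith
  subst hf1
  nlinarith

/-- all elation groups are as large as possible -/
theorem card_Pg_all (hT : T2 G P) {z : P} {w : L} (hz : z ∈ w) : Nat.card (Pg G z w) = order P L := by
  classical
  have hconst : ∀ (y : P) (u : L), y ∈ u → Nat.card (Pg G y u) = Nat.card (Pg G z w) := by
    intro y u hy
    obtain ⟨g, hg1, hg2⟩ := T2.flag hT hy hz
    rw [card_Pg_conj y u g, hg1, hg2]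
  obtain ⟨y, u, hyu, g, hg1, hga, hgc⟩ := ex_elation (G := G) (P := P) (L := L) hT
  have h1 : 1 < Nat.card (Pg G z w) := by
    rw [← hconst y u hyu]
    refine Finite.one_lt_card_iff_nontrivial.2 ⟨⟨⟨g, hga, hgc⟩, 1, fun h => hg1 (congrArg Subtype.val h)⟩⟩
  have F : Fintype {z : P // z ∈ w} := Fintype.ofFinite _
  have h2 := card_El_sum (G := G) w F
  have h3 : ∑ z' : {z : P // z ∈ w}, (Nat.card (Pg G z'.1 w) - 1) = (order P L + 1) * (Nat.card (Pg G z w) - 1) := by
    rw [Finset.sum_congr rfl (fun z' _ => by rw [hconst z'.1 w z'.2]), Finset.sum_const, smul_eq_mul,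
      Finset.card_univ, ← Nat.card_eq_fintype_card, card_pts]
  rw [h3] at h2
  exact gleason_arith (one_lt_order P L) h1 (card_Pg_dvd G hz) (card_El_dvd G w) h2 Nat.card_pos

/-- `(z, w)`-transitivity -/
theorem Pg_trans (hT : T2 G P) {z : P} {w : L} (hz : z ∈ w) {l : L} {x y : P} (hzl : z ∈ l) (hlw : l ≠ w) (hx : x ∈ l)
    (hy : y ∈ l) (hxz : x ≠ z) (hyz : y ≠ z) : ∃ g ∈ Pg G z w, g • x = y := by
  classical
  have hxw : x ∉ w := fun h => hxz (uP hlw hx h hzl hz)
  let f : Pg G z w → {p : P // p ∈ l ∧ p ≠ z} := fun g => ⟨g.1 • x, by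
    have h1 := mem_smul g.1 hx
    rwa [g.2.2 l hzl] at h1, fun h => hxz (MulAction.injective g.1 (h.trans (g.2.1 z hz).symm))⟩
  have hinj : Function.Injective f := by
    intro g h hgh
    exact Subtype.ext (El_eq (Pg_le_El hz g.2) (Pg_le_El hz h.2) hxw (congrArg Subtype.val hgh))
  have hcard : Nat.card {p : P // p ∈ l ∧ p ≠ z} ≤ Nat.card (Pg G z w) := by
    rw [card_Pg_all hT hz, card_pts_ne hzl]
  obtain ⟨g, hg⟩ := (Function.Injective.bijective_of_nat_card_le hinj hcard).2 ⟨y, hy, hyz⟩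
  exact ⟨g.1, g.2, congrArg Subtype.val hg⟩

/-- transitivity on the lines through a point of the axis -/
theorem Pg_transL (hT : T2 G P) {z : P} {w : L} (hz : z ∈ w) {q : P} {l m : L} (hqw : q ∈ w) (hqz : q ≠ z) (hl : q ∈ l)
    (hm : q ∈ m) (hlw : l ≠ w) (hmw : m ≠ w) : ∃ g ∈ Pg G z w, g • l = m := by
  obtain ⟨k, hk, hkw, -⟩ := ex_thirdL z w w
  have hkq : q ∉ k := fun h => hkw (uL hqz h hk hqw hz)
  have hkl : k ≠ l := fun h => hkq (h ▸ hl)
  have hkm : k ≠ m := fun h => hkq (h ▸ hm)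
  obtain ⟨x, hx1, hx2⟩ := exP0 (P := P) hkl
  obtain ⟨y, hy1, hy2⟩ := exP0 (P := P) hkm
  have hxz : x ≠ z := fun h => hlw (uL (Ne.symm hqz) (h ▸ hx2) hl hz hqw)
  have hyz : y ≠ z := fun h => hmw (uL (Ne.symm hqz) (h ▸ hy2) hm hz hqw)
  obtain ⟨g, hg, hgx⟩ := Pg_trans hT hz hk hkw hx1 hy1 hxz hyz
  refine ⟨g, hg, uL (p := y) (q := q) (fun h => hkq (h ▸ hy1)) ?_ ?_ hy2 hm⟩
  · rw [← hgx]; exact mem_smul g hx2
  · have := mem_smul g hl; rwa [hg.1 q hqw] at this

end Cfsg.Agent.H985.Pl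
end

-- part: H985/CommAlg
section
/-!
# The commutator algebra of the elation groups, S3732, helper985
-/

set_option autoImplicit false
set_option linter.unusedSectionVars false

namespace Cfsg.Agent.H985.Pl

open Configuration Configuration.ProjectivePlane

variable {G P L : Type*} [Group G] [Membership P L] [MulAction G P] [MulAction G L]
variable [Act G P L] [ProjectivePlane P L] [Finite P] [Finite L] [Finite G] [FaithfulSMul G P]

theorem nontriv_Pg (hT : T2 G P) {z : P} {w : L} (hz : z ∈ w) : ∃ g ∈ Pg G z w, g ≠ 1 := by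
  have h1 : 1 < Nat.card (Pg G z w) := by rw [card_Pg_all hT hz]; exact one_lt_order P L
  have := Finite.one_lt_card_iff_nontrivial.1 h1
  obtain ⟨g, hg⟩ := exists_ne (1 : Pg G z w)
  exact ⟨g.1, g.2, fun h => hg (Subtype.ext h)⟩

theorem Two_of (hT : T2 G P) (w : L) : Two G P w := by
  obtain ⟨y, hy⟩ := ex_on P w
  obtain ⟨z, hz, hzy⟩ := ex_on_ne (P := P) w y
  obtain ⟨g, hg, hg1⟩ := nontriv_Pg hT hy
  obtain ⟨h, hh, hh1⟩ := nontriv_Pg hT hz
  exact ⟨y, z, g, h, Ne.symm hzy, hy, hz, hg, hh, hg1, hh1⟩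

theorem comm_axis (hT : T2 G P) {w : L} {y z : P} (hy : y ∈ w) (hz : z ∈ w) {a b : G} (ha : a ∈ Pg G y w)
    (hb : b ∈ Pg G z w) : a * b = b * a :=
  (Two_of hT w).comm (Pg_le_El hy ha) (Pg_le_El hz hb)

theorem comm_centre (hT : T2 G P) {z : P} {v w : L} (hv : z ∈ v) (hw : z ∈ w) {a b : G} (ha : a ∈ Pg G z v)
    (hb : b ∈ Pg G z w) : a * b = b * a := by
  have h1 := faithfulL G P L
  have h2 : FaithfulSMul G (Dual L) := h1
  have hTL0 : T2 G L := T2.lines L hT
  have hTL : T2 G (Dual L) := hTL0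
  exact comm_axis (P := Dual L) (L := Dual P) hTL (w := z) (y := v) (z := w) hv hw (mem_Pg_dual.2 ha) (mem_Pg_dual.2 hb)

theorem comm_mem {X Y : P} {l k : L} (hY : Y ∈ l) (_hYk : Y ∈ k) {s a : G} (hs : s ∈ Pg G Y k)
    (ha : a ∈ Pg G X l) : s * a * s⁻¹ * a⁻¹ ∈ Pg G Y l := by
  refine ⟨?_, ?_⟩
  · have h1 := ha.1.conj s
    rw [hs.2 l hY] at h1
    exact h1.mul ha.1.inv
  · have h1 := hs.2.inv.conj a
    rw [ha.1 Y hY] at h1
    have h2 : s * a * s⁻¹ * a⁻¹ = s * (a * s⁻¹ * a⁻¹) := by group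
    rw [h2]
    exact hs.2.mul h1

/-- non-degeneracy -/
theorem comm_nd {X Y : P} {l k : L} (hXY : X ≠ Y) (hX : X ∈ l) (hY : Y ∈ l) (hYk : Y ∈ k) (hk : k ≠ l) {s a : G}
    (hs : s ∈ Pg G Y k) (ha : a ∈ Pg G X l) (h : s * a * s⁻¹ * a⁻¹ = 1) : s = 1 ∨ a = 1 := by
  by_contra hne
  push Not at hne
  obtain ⟨hs1, ha1⟩ := hne
  have h1 : a * s * a⁻¹ = s := by
    have : s * a = a * s := by
      calc s * a = (s * a * s⁻¹ * a⁻¹) * (a * s) := by group
        _ = a * s := by rw [h, one_mul]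
    rw [← this]; group
  have h2 := hs.1.conj a
  rw [h1] at h2
  have h3 : k = a • k := ax_unique hs.1 h2 (not_triv hs1)
  rcases fixln ha.1 ha.2 (not_triv ha1) h3.symm with h4 | h4
  · exact hXY (uP hk h4 hX hYk hY)
  · exact hk h4

theorem comm_mulR (hT : T2 G P) {X Y : P} {l k : L} (hX : X ∈ l) (hY : Y ∈ l) (hYk : Y ∈ k) {s a a' : G}
    (hs : s ∈ Pg G Y k) (ha : a ∈ Pg G X l) (ha' : a' ∈ Pg G X l) :
    s * (a * a') * s⁻¹ * (a * a')⁻¹ = (s * a * s⁻¹ * a⁻¹) * (s * a' * s⁻¹ * a'⁻¹) := by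
  have h1 := comm_mem hY hYk hs ha'
  have h2 := comm_axis hT hY hX h1 (inv_mem ha)
  calc s * (a * a') * s⁻¹ * (a * a')⁻¹ = (s * a * s⁻¹) * ((s * a' * s⁻¹ * a'⁻¹) * a⁻¹) := by group
    _ = (s * a * s⁻¹) * (a⁻¹ * (s * a' * s⁻¹ * a'⁻¹)) := by rw [h2]
    _ = _ := by group

theorem comm_mulL (hT : T2 G P) {X Y : P} {l k : L} (hY : Y ∈ l) (hYk : Y ∈ k) {s s' a : G}
    (hs : s ∈ Pg G Y k) (hs' : s' ∈ Pg G Y k) (ha : a ∈ Pg G X l) :
    (s * s') * a * (s * s')⁻¹ * a⁻¹ = (s * a * s⁻¹ * a⁻¹) * (s' * a * s'⁻¹ * a⁻¹) := by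
  have h1 := comm_mem hY hYk hs' ha
  have h0 := comm_mem hY hYk hs ha
  have h2 := comm_centre hT hYk hY hs h1
  have h3 := comm_centre hT hY hY h0 h1
  calc (s * s') * a * (s * s')⁻¹ * a⁻¹ = (s * (s' * a * s'⁻¹ * a⁻¹)) * (a * s⁻¹ * a⁻¹) := by group
    _ = (s' * a * s'⁻¹ * a⁻¹) * (s * a * s⁻¹ * a⁻¹) := by rw [h2]; group
    _ = _ := h3.symm

/-- the relation between the two families of elations -/
theorem comm_rel (hT : T2 G P) {X Y Z : P} {l k k' : L} (hX : X ∈ l) (hY : Y ∈ l) (hYk : Y ∈ k)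
    (hXk : X ∈ k') {s s' a : G} (hs : s ∈ Pg G Y k) (hs' : s' ∈ Pg G X k') (h1 : s • X = Z) (h2 : s' • Y = Z)
    (hZX : Z ≠ X) (ha : a ∈ Pg G X l) : s' * (s * a * s⁻¹ * a⁻¹) * s'⁻¹ * (s * a * s⁻¹ * a⁻¹)⁻¹ = a := by
  have hb := comm_mem hY hYk hs ha
  set b := s * a * s⁻¹ * a⁻¹ with hbdef
  have h3 := comm_mem hX hXk hs' hb
  set c := s' * b * s'⁻¹ * b⁻¹ with hcdef
  have hba : b * a = a * b := comm_axis hT hY hX hb ha
  -- two elations with centre `Z`
  have e1 : b * a ∈ Pg G Z l := by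
    have h4 : b * a = s * a * s⁻¹ := by rw [hbdef]; group
    rw [h4]
    have h5 := ha.1.conj s
    have h6 := ha.2.conj s
    rw [hs.2 l hY] at h5
    rw [h1] at h6
    exact ⟨h5, h6⟩
  have e2 : c * b ∈ Pg G Z l := by
    have h4 : c * b = s' * b * s'⁻¹ := by rw [hcdef]; group
    rw [h4]
    have h5 := hb.1.conj s'
    have h6 := hb.2.conj s'
    rw [hs'.2 l hX] at h5
    rw [h2] at h6
    exact ⟨h5, h6⟩
  have hcb : c * b = b * c := comm_axis hT hX hY h3 hb
  have e3 : a⁻¹ * c ∈ Pg G Z l := by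
    have : a⁻¹ * c = (b * a)⁻¹ * (c * b) := by rw [hcb]; group
    rw [this]
    exact mul_mem (inv_mem e1) e2
  have e4 : a⁻¹ * c = 1 := Pg_inter hZX e3 (mul_mem (inv_mem ha) h3)
  exact (inv_mul_eq_one.1 e4).symm

/-- the inverses of the maps `a ↦ [s, a]` form an additive group -/
theorem comm_gl (hT : T2 G P) {X Y : P} {l k : L} (hXY : X ≠ Y) (hX : X ∈ l) (hY : Y ∈ l) (hYk : Y ∈ k) (hk : k ≠ l)
    {s₁ s₂ : G} (h1 : s₁ ∈ Pg G Y k) (h2 : s₂ ∈ Pg G Y k) (h11 : s₁ ≠ 1) (h21 : s₂ ≠ 1) :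
    (∀ a₁ ∈ Pg G X l, ∀ a₂ ∈ Pg G X l, s₁ * a₁ * s₁⁻¹ * a₁⁻¹ = s₂ * a₂ * s₂⁻¹ * a₂⁻¹ → a₁ * a₂ = 1) ∨
    ∃ s₃ ∈ Pg G Y k, s₃ ≠ 1 ∧ ∀ a₁ ∈ Pg G X l, ∀ a₂ ∈ Pg G X l, s₁ * a₁ * s₁⁻¹ * a₁⁻¹ = s₂ * a₂ * s₂⁻¹ * a₂⁻¹ →
      s₃ * (a₁ * a₂) * s₃⁻¹ * (a₁ * a₂)⁻¹ = s₁ * a₁ * s₁⁻¹ * a₁⁻¹ := by
  obtain ⟨k', hk', hk'l, -⟩ := ex_thirdL X l l
  have hXk : X ∉ k := fun h => hXY (uP hk h hX hYk hY)
  -- the partner of `s`
  have key : ∀ s ∈ Pg G Y k, s ≠ 1 → ∃ s' ∈ Pg G X k', s' • Y = s • X ∧ s • X ≠ X := by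
    intro s hs hs1
    have e1 : s • X ≠ X := Pg_ne hs hYk hs1 hXk
    have e2 : s • X ∈ l := by
      have := mem_smul s hX
      rwa [hs.2 l hY] at this
    obtain ⟨s', hs', h⟩ := Pg_trans hT hk' hX (Ne.symm hk'l) hY e2 (Ne.symm hXY) e1
    exact ⟨s', hs', h, e1⟩
  obtain ⟨s₁', h1', h1e, h1n⟩ := key s₁ h1 h11
  obtain ⟨s₂', h2', h2e, h2n⟩ := key s₂ h2 h21
  -- the product
  have hprod : ∀ a₁ ∈ Pg G X l, ∀ a₂ ∈ Pg G X l, s₁ * a₁ * s₁⁻¹ * a₁⁻¹ = s₂ * a₂ * s₂⁻¹ * a₂⁻¹ →
      (s₁' * s₂') * (s₁ * a₁ * s₁⁻¹ * a₁⁻¹) * (s₁' * s₂')⁻¹ * (s₁ * a₁ * s₁⁻¹ * a₁⁻¹)⁻¹ = a₁ * a₂ := by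
    intro a₁ ha₁ a₂ ha₂ he
    rw [comm_mulL hT hX hk' h1' h2' (comm_mem hY hYk h1 ha₁),
      comm_rel hT hX hY hYk hk' h1 h1' rfl h1e h1n ha₁, he,
      comm_rel hT hX hY hYk hk' h2 h2' rfl h2e h2n ha₂]
  by_cases h3 : s₁' * s₂' = 1
  · left
    intro a₁ ha₁ a₂ ha₂ he
    rw [← hprod a₁ ha₁ a₂ ha₂ he, h3]
    group
  · right
    have h3' : s₁' * s₂' ∈ Pg G X k' := mul_mem h1' h2'
    have hYk' : Y ∉ k' := fun h => hXY (uP hk'l hk' hX h hY)
    have e1 : (s₁' * s₂') • Y ≠ Y := Pg_ne h3' hk' h3 hYk'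
    have e2 : (s₁' * s₂') • Y ∈ l := by
      have := mem_smul (s₁' * s₂') hY
      rwa [h3'.2 l hX] at this
    have e3 : (s₁' * s₂') • Y ≠ X := by
      intro h
      exact hXY (MulAction.injective (s₁' * s₂') ((h3'.1 X hk').trans h.symm))
    obtain ⟨s₃, hs₃, h4⟩ := Pg_trans hT hYk hY (Ne.symm hk) hX e2 hXY e1
    refine ⟨s₃, hs₃, ?_, ?_⟩
    · rintro rfl
      rw [one_smul] at h4
      exact e3 h4.symm
    · intro a₁ ha₁ a₂ ha₂ he
      have h5 := comm_rel hT hY hX hk' hYk h3' hs₃ rfl h4 e1 (comm_mem hY hYk h1 ha₁)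
      rw [hprod a₁ ha₁ a₂ ha₂ he] at h5
      exact h5

/-- the dual statement -/
theorem comm_gl' (hT : T2 G P) {X Y : P} {l k : L} (hXY : X ≠ Y) (hX : X ∈ l) (hY : Y ∈ l) (hYk : Y ∈ k) (hk : k ≠ l)
    {a₁ a₂ : G} (h1 : a₁ ∈ Pg G X l) (h2 : a₂ ∈ Pg G X l) (h11 : a₁ ≠ 1) (h21 : a₂ ≠ 1) :
    (∀ s₁ ∈ Pg G Y k, ∀ s₂ ∈ Pg G Y k, s₁ * a₁ * s₁⁻¹ * a₁⁻¹ = s₂ * a₂ * s₂⁻¹ * a₂⁻¹ → s₁ * s₂ = 1) ∨
    ∃ a₃ ∈ Pg G X l, a₃ ≠ 1 ∧ ∀ s₁ ∈ Pg G Y k, ∀ s₂ ∈ Pg G Y k, s₁ * a₁ * s₁⁻¹ * a₁⁻¹ = s₂ * a₂ * s₂⁻¹ * a₂⁻¹ →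
      (s₁ * s₂) * a₃ * (s₁ * s₂)⁻¹ * a₃⁻¹ = s₁ * a₁ * s₁⁻¹ * a₁⁻¹ := by
  have hf1 := faithfulL G P L
  have hf2 : FaithfulSMul G (Dual L) := hf1
  have hTL0 : T2 G L := T2.lines L hT
  have hTL : T2 G (Dual L) := hTL0
  have hinv : ∀ {s a s' a' : G}, s * a * s⁻¹ * a⁻¹ = s' * a' * s'⁻¹ * a'⁻¹ ↔
      a * s * a⁻¹ * s⁻¹ = a' * s' * a'⁻¹ * s'⁻¹ := by
    intro s a s' a'
    rw [← inv_inj]
    simp only [mul_inv_rev, inv_inv, mul_assoc]
  rcases comm_gl (P := Dual L) (L := Dual P) hTL (X := k) (Y := l) (l := Y) (k := X) hk hYk hY hX hXY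
    (mem_Pg_dual.2 h1) (mem_Pg_dual.2 h2) h11 h21 with h3 | ⟨a₃, ha₃, ha₃1, h3⟩
  · left
    intro s₁ hs₁ s₂ hs₂ he
    exact h3 s₁ (mem_Pg_dual.2 hs₁) s₂ (mem_Pg_dual.2 hs₂) (hinv.1 he)
  · right
    refine ⟨a₃, mem_Pg_dual.1 ha₃, ha₃1, ?_⟩
    intro s₁ hs₁ s₂ hs₂ he
    exact hinv.2 (h3 s₁ (mem_Pg_dual.2 hs₁) s₂ (mem_Pg_dual.2 hs₂) (hinv.1 he))

end Cfsg.Agent.H985.Pl
end

-- part: H985/Points
section
/-!
# Coordinates from elations, S3732, helper985
-/

set_option autoImplicit false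
set_option linter.unusedSectionVars false

namespace Cfsg.Agent.H985.Pl

open Configuration Configuration.ProjectivePlane

variable {G P L : Type*} [Group G] [Membership P L] [MulAction G P] [MulAction G L]
variable [Act G P L] [ProjectivePlane P L] [Finite P] [Finite L] [Finite G] [FaithfulSMul G P]

/-- the coordinate map -/
def crd {F : Type} {X Y O : P} {l k : L} (α : Pg G X l ≃ F) (β : Pg G Y l ≃ F) (γ : Pg G Y k ≃ F) :
    (F × F) ⊕ (F ⊕ Unit) → P
  | Sum.inl t => (α.symm t.1).1 • (β.symm t.2).1 • O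
  | Sum.inr (Sum.inl m) => (γ.symm m).1 • X
  | Sum.inr (Sum.inr _) => Y

section

variable {F : Type} {X Y O : P} {l k : L} (α : Pg G X l ≃ F) (β : Pg G Y l ≃ F) (γ : Pg G Y k ≃ F)
variable (hXY : X ≠ Y) (hX : X ∈ l) (hY : Y ∈ l) (hYk : Y ∈ k) (hOk : O ∈ k) (hOl : O ∉ l)

include hX hY in
theorem smul_in {g : G} {z : P} {w : L} (hz : z ∈ l) (hg : g ∈ Pg G z w) {p : P} (hp : p ∈ l) : g • p ∈ l := by
  have := mem_smul g hp
  rwa [hg.2 l hz] at this

include hX hY hOl in
theorem crd_off {t : F × F} : crd (O := O) α β γ (Sum.inl t) ∉ l := by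
  have h1 : (β.symm t.2).1 • l = l := (β.symm t.2).2.2 l hY
  have h2 : (α.symm t.1).1 • l = l := (α.symm t.1).2.2 l hX
  exact smul_off h2 (smul_off h1 hOl)

include hX hY in
theorem crd_on {t : F ⊕ Unit} : crd (O := O) α β γ (Sum.inr t) ∈ l := by
  rcases t with m | u
  · exact smul_in hX hY hY (γ.symm m).2 hX
  · exact hY

include hXY hYk in
theorem crd_neY {m : F} : crd (O := O) α β γ (Sum.inr (Sum.inl m)) ≠ Y := by
  intro h
  have h1 : (γ.symm m).1 • Y = Y := (γ.symm m).2.1 Y hYk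
  exact hXY (MulAction.injective (γ.symm m).1 (h.trans h1.symm))

include hXY hX hY hYk hOk hOl in
theorem crd_inj : Function.Injective (crd (O := O) α β γ) := by
  have hkl : k ≠ l := fun h => hOl (h ▸ hOk)
  have hXk : X ∉ k := fun h => hXY (uP hkl h hX hYk hY)
  rintro (⟨x, y⟩ | m | u) (⟨x', y'⟩ | m' | u') h
  · have h1 : ((α.symm x).1 * (β.symm y).1) • O = ((α.symm x').1 * (β.symm y').1) • O := by
      rw [mul_smul, mul_smul]; exact h
    have h2 := El_eq (mul_mem (Pg_le_El hX (α.symm x).2) (Pg_le_El hY (β.symm y).2))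
      (mul_mem (Pg_le_El hX (α.symm x').2) (Pg_le_El hY (β.symm y').2)) hOl h1
    have h3 : ((α.symm x').1)⁻¹ * (α.symm x).1 = (β.symm y').1 * ((β.symm y).1)⁻¹ := by
      rw [inv_mul_eq_iff_eq_mul, ← mul_assoc, ← h2]; group
    have h4 : ((α.symm x').1)⁻¹ * (α.symm x).1 = 1 :=
      Pg_inter hXY (mul_mem (inv_mem (α.symm x').2) (α.symm x).2)
        (h3 ▸ mul_mem (β.symm y').2 (inv_mem (β.symm y).2))
    have h5 : x' = x := α.symm.injective (Subtype.ext (inv_mul_eq_one.1 h4))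
    rw [h4] at h3
    have h6 : y' = y := β.symm.injective (Subtype.ext (mul_inv_eq_one.1 h3.symm))
    rw [h5, h6]
  · exact absurd (h ▸ crd_on α β γ hX hY) (crd_off α β γ hX hY hOl)
  · exact absurd (h ▸ crd_on α β γ hX hY) (crd_off α β γ hX hY hOl)
  · exact absurd (h ▸ crd_on α β γ hX hY) (crd_off α β γ hX hY hOl)
  · have h1 : (((γ.symm m').1)⁻¹ * (γ.symm m).1) • X = X := by
      rw [mul_smul, inv_smul_eq_iff]; exact h
    have h2 : ((γ.symm m').1)⁻¹ * (γ.symm m).1 = 1 := by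
      by_contra hne
      exact Pg_ne (mul_mem (inv_mem (γ.symm m').2) (γ.symm m).2) hYk hne hXk h1
    have h3 : m' = m := γ.symm.injective (Subtype.ext (inv_mul_eq_one.1 h2))
    rw [h3]
  · exact absurd h (crd_neY α β γ hXY hYk)
  · exact absurd (h ▸ crd_on α β γ hX hY) (crd_off α β γ hX hY hOl)
  · exact absurd h.symm (crd_neY α β γ hXY hYk)
  · rfl

include hXY hX hY hYk hOk hOl in
theorem crd_bij (hT : T2 G P) : Function.Bijective (crd (O := O) α β γ) := by
  have hcF : Nat.card F = order P L := by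
    rw [← card_Pg_all hT hY]; exact (Nat.card_congr β).symm
  have hfin : Finite F := Finite.of_equiv _ β
  refine Function.Injective.bijective_of_nat_card_le (crd_inj α β γ hXY hX hY hYk hOk hOl) ?_
  rw [card_P P L, Nat.card_sum, Nat.card_prod, Nat.card_sum, hcF, Nat.card_unique]
  nlinarith

variable [Field F]

include hXY hX hYk hOk hOl in
/-- **coordinates** -/
theorem exists_coords (hT : T2 G P) (hβ : ∀ b b', β (b * b') = β b + β b')
    (hm : ∀ (s : Pg G Y k) (a : Pg G X l), β ⟨s.1 * a.1 * s.1⁻¹ * a.1⁻¹, comm_mem hY hYk s.2 a.2⟩ = γ s * α a) :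
    ∃ e : P ≃ (F × F) ⊕ (F ⊕ Unit), ∀ l : L,
      (∃ m b : F, ∀ p : P, p ∈ l ↔ ((∃ x, e p = Sum.inl (x, m * x + b)) ∨ e p = Sum.inr (Sum.inl m))) ∨
      (∃ a : F, ∀ p : P, p ∈ l ↔ ((∃ y, e p = Sum.inl (a, y)) ∨ e p = Sum.inr (Sum.inr ()))) ∨
      (∀ p : P, p ∈ l ↔ ((∃ m, e p = Sum.inr (Sum.inl m)) ∨ e p = Sum.inr (Sum.inr ()))) := by
  have hkl : k ≠ l := fun h => hOl (h ▸ hOk)
  have hXk : X ∉ k := fun h => hXY (uP hkl h hX hYk hY)
  have hOY : O ≠ Y := fun h => hOl (h ▸ hY)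
  have hOX : O ≠ X := fun h => hOl (h ▸ hX)
  have hinj := crd_inj α β γ hXY hX hY hYk hOk hOl
  let e := (Equiv.ofBijective _ (crd_bij α β γ hXY hX hY hYk hOk hOl hT)).symm
  refine ⟨e, fun l' => ?_⟩
  have he : ∀ (p : P) t, e p = t ↔ p = crd (O := O) α β γ t := fun p t => Equiv.symm_apply_eq _
  simp only [he]
  -- enough to check the points `crd t`
  have hsur : ∀ p : P, ∃ t, p = crd (O := O) α β γ t := fun p => ⟨e p, ((he p (e p)).1 rfl)⟩
  -- points `b O`
  have hbO : ∀ y : F, (β.symm y).1 • O ∈ k := fun y => by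
    have := mem_smul (β.symm y).1 hOk
    rwa [(β.symm y).2.2 k hYk] at this
  have hbOY : ∀ y : F, (β.symm y).1 • O ≠ Y := fun y h =>
    hOY (MulAction.injective (β.symm y).1 (h.trans ((β.symm y).2.1 Y hY).symm))
  by_cases h1 : l' = l
  · subst h1
    right; right
    intro p
    obtain ⟨t, rfl⟩ := hsur p
    constructor
    · intro h
      rcases t with t | m | u
      · exact absurd h (crd_off α β γ hX hY hOl)
      · exact Or.inl ⟨m, rfl⟩
      · exact Or.inr rfl
    · rintro (⟨m, h⟩ | h)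
      · rw [h]; exact crd_on α β γ hX hY
      · rw [h]; exact crd_on α β γ hX hY
  by_cases h2 : Y ∈ l'
  · right; left
    obtain ⟨a, ha, hak⟩ := Pg_transL hT hX hY (Ne.symm hXY) hYk h2 hkl h1
    refine ⟨α ⟨a, ha⟩, ?_⟩
    intro p
    obtain ⟨t, rfl⟩ := hsur p
    constructor
    · intro h
      rcases t with ⟨x, y⟩ | m | u
      · left
        refine ⟨y, ?_⟩
        have h3 : ((α.symm x).1)⁻¹ • a • k = k := by
          refine uL (hbOY y) ?_ ?_ (hbO y) hYk
          · rw [hak, ← smul_mem_iff]; exact h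
          · have h4 := mem_smul a hYk
            rw [ha.1 Y hY] at h4
            have h5 := mem_smul ((α.symm x).1)⁻¹ h4
            rwa [(α.symm x).2.1.inv Y hY] at h5
        have h4 : ((α.symm x).1)⁻¹ * a = 1 := by
          by_contra hne
          have h5 := mul_mem (inv_mem (α.symm x).2) ha
          rcases fixln h5.1 h5.2 (not_triv hne) (l := k) (by rw [mul_smul]; exact h3) with h6 | h6
          · exact hXk h6
          · exact hkl h6
        have h5 : α ⟨a, ha⟩ = x := by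
          rw [← Equiv.eq_symm_apply]
          exact Subtype.ext (inv_mul_eq_one.1 h4).symm
        rw [h5]
      · exfalso
        exact crd_neY α β γ hXY hYk (uP h1 h (crd_on α β γ hX hY) h2 hY)
      · exact Or.inr rfl
    · rintro (⟨y, h⟩ | h)
      · rw [h, ← hak]
        change (α.symm (α ⟨a, ha⟩)).1 • (β.symm y).1 • O ∈ a • k
        rw [Equiv.symm_apply_apply]
        exact mem_smul a (hbO y)
      · rw [h]; exact h2
  · left
    -- the point at infinity
    obtain ⟨Z, hZ1, hZ2⟩ := exP0 (P := P) h1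
    have hZY : Z ≠ Y := fun h => h2 (h ▸ hZ1)
    obtain ⟨s, hs, hsZ⟩ := Pg_trans hT hYk hY (Ne.symm hkl) hX hZ2 hXY hZY
    obtain ⟨h, hh1, hh2⟩ := exL0 (L := L) hOX
    have hhl : h ≠ l := fun h' => hOl (h' ▸ hh1)
    have hsO : s • O = O := hs.1 O hOk
    have hsh1 : O ∈ s • h := by have := mem_smul s hh1; rwa [hsO] at this
    have hsh2 : Z ∈ s • h := by have := mem_smul s hh2; rwa [hsZ] at this
    have hshl : s • h ≠ l := fun h' => hOl (h' ▸ hsh1)
    obtain ⟨b, hb, hbl⟩ := Pg_transL hT hY hZ2 hZY hsh2 hZ1 hshl h1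
    refine ⟨γ ⟨s, hs⟩, β ⟨b, hb⟩, ?_⟩
    -- the points of `l'`
    have key : ∀ x : F, crd (O := O) α β γ (Sum.inl (x, γ ⟨s, hs⟩ * x + β ⟨b, hb⟩)) ∈ l' := by
      intro x
      have h3 := hm ⟨s, hs⟩ (α.symm x)
      rw [Equiv.apply_symm_apply] at h3
      rw [← h3, ← hβ]
      change (α.symm x).1 • (β.symm (β _)).1 • O ∈ l'
      rw [Equiv.symm_apply_apply]
      change (α.symm x).1 • ((s * (α.symm x).1 * s⁻¹ * (α.symm x).1⁻¹) * b) • O ∈ l'
      have h4 : (s * (α.symm x).1 * s⁻¹ * (α.symm x).1⁻¹) ∈ Pg G Y l := comm_mem hY hYk hs (α.symm x).2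
      have h5 := comm_axis hT hX hY (α.symm x).2 (mul_mem h4 hb)
      have h6 := comm_centre hT hYk hY hs hb
      have h7 := comm_axis hT hX hY (α.symm x).2 hb
      rw [← mul_smul, h5, mul_smul]
      have h8 : (s * (α.symm x).1 * s⁻¹ * (α.symm x).1⁻¹) * b * (α.symm x).1 = b * s * (α.symm x).1 * s⁻¹ := by
        have h9 : s⁻¹ * b = b * s⁻¹ := by
          calc s⁻¹ * b = s⁻¹ * (b * s) * s⁻¹ := by group
            _ = s⁻¹ * (s * b) * s⁻¹ := by rw [h6]
            _ = b * s⁻¹ := by group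
        calc (s * (α.symm x).1 * s⁻¹ * (α.symm x).1⁻¹) * b * (α.symm x).1
            = s * (α.symm x).1 * s⁻¹ * (α.symm x).1⁻¹ * (b * (α.symm x).1) := by group
          _ = s * (α.symm x).1 * s⁻¹ * (α.symm x).1⁻¹ * ((α.symm x).1 * b) := by rw [h7]
          _ = s * (α.symm x).1 * (s⁻¹ * b) := by group
          _ = s * (α.symm x).1 * (b * s⁻¹) := by rw [h9]
          _ = s * ((α.symm x).1 * b) * s⁻¹ := by group
          _ = s * (b * (α.symm x).1) * s⁻¹ := by rw [h7]
          _ = (s * b) * (α.symm x).1 * s⁻¹ := by group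
          _ = b * s * (α.symm x).1 * s⁻¹ := by rw [h6]
      rw [← mul_smul, h8, ← hbl, mul_smul, hs.1.inv O hOk, mul_smul, mul_smul]
      apply mem_smul
      apply mem_smul
      have := mem_smul (α.symm x).1 hh1
      rwa [(α.symm x).2.2 h hh2] at this
    have hs' : crd (O := O) α β γ (Sum.inr (Sum.inl (γ ⟨s, hs⟩))) = Z := by
      change (γ.symm (γ ⟨s, hs⟩)).1 • X = Z
      rw [Equiv.symm_apply_apply]
      exact hsZ
    intro p
    obtain ⟨t, rfl⟩ := hsur p
    constructor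
    · intro hp
      rcases t with ⟨x, y⟩ | m | u
      · left
        refine ⟨x, ?_⟩
        have hak : ∀ y : F, crd (O := O) α β γ (Sum.inl (x, y)) ∈ (α.symm x).1 • k := fun y => mem_smul _ (hbO y)
        have hne : l' ≠ (α.symm x).1 • k := by
          intro h'
          apply h2
          rw [h', mem_smul_line_iff, (α.symm x).2.1.inv Y hY]
          exact hYk
        exact uP hne hp (hak _) (key x) (hak _)
      · right
        rw [hs']
        exact uP h1 hp (crd_on α β γ hX hY) hZ1 hZ2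
      · exact absurd hp h2
    · rintro (⟨x, h3⟩ | h3)
      · rw [h3]; exact key x
      · rw [h3, hs']; exact hZ1

end

end Cfsg.Agent.H985.Pl
end

-- part: H975/ArtinZorn
section
/-!
# The Artin-Zorn theorem

A finite alternative division ring is a field.
-/

set_option autoImplicit false

namespace Cfsg.Agent.H975.ArtinZorn

section alt

variable {R : Type*} [NonAssocRing R]

/-- the associator -/
def A (x y z : R) : R := (x * y) * z - x * (y * z)

theorem A_add_left (x x' y z : R) : A (x + x') y z = A x y z + A x' y z := by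
  unfold A; simp only [add_mul]; abel

theorem A_add_mid (x y y' z : R) : A x (y + y') z = A x y z + A x y' z := by
  unfold A; simp only [add_mul, mul_add]; abel

theorem A_add_right (x y z z' : R) : A x y (z + z') = A x y z + A x y z' := by
  unfold A; simp only [mul_add]; abel

theorem A_zero_left (y z : R) : A 0 y z = 0 := by unfold A; simp

theorem A_zero_mid (x z : R) : A x 0 z = 0 := by unfold A; simp

theorem A_zero_right (x y : R) : A x y 0 = 0 := by unfold A; simp

theorem A_neg_left (x y z : R) : A (-x) y z = -A x y z := by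
  unfold A; simp only [neg_mul]; abel

theorem A_neg_mid (x y z : R) : A x (-y) z = -A x y z := by
  unfold A; simp only [neg_mul, mul_neg]; abel

theorem A_neg_right (x y z : R) : A x y (-z) = -A x y z := by
  unfold A; simp only [mul_neg]; abel

theorem A_eq_zero {x y z : R} : A x y z = 0 ↔ (x * y) * z = x * (y * z) := by
  unfold A; rw [sub_eq_zero]

/-- alternative rings -/
structure Alt (R : Type*) [NonAssocRing R] : Prop where
  left : ∀ x y : R, x * (x * y) = (x * x) * y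
  right : ∀ x y : R, (y * x) * x = y * (x * x)

namespace Alt

variable (h : Alt R)

include h

theorem a12 (x z : R) : A x x z = 0 := by
  unfold A; rw [h.left, sub_self]

theorem a23 (x y : R) : A x y y = 0 := by
  unfold A; rw [h.right, sub_self]

theorem s12 (x y z : R) : A x y z = -A y x z := by
  have h1 := h.a12 (x + y) z
  rw [A_add_left, A_add_mid, A_add_mid, h.a12, h.a12, zero_add, add_zero] at h1
  exact eq_neg_of_add_eq_zero_left h1

theorem s23 (x y z : R) : A x y z = -A x z y := by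
  have h1 := h.a23 x (y + z)
  rw [A_add_mid, A_add_right, A_add_right, h.a23, h.a23, zero_add, add_zero] at h1
  exact eq_neg_of_add_eq_zero_left h1

theorem cyc (x y z : R) : A x y z = A y z x := by
  rw [h.s12, h.s23 y x z, neg_neg]

theorem a13 (x y : R) : A x y x = 0 := by
  rw [h.s23, h.a12, neg_zero]

theorem flex (x y : R) : (x * y) * x = x * (y * x) := A_eq_zero.1 (h.a13 x y)

/-- linearised laws -/
theorem leftLin (x y z : R) : x * (y * z) + y * (x * z) = (x * y + y * x) * z := by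
  have h1 := h.s12 x y z
  unfold A at h1
  rw [add_mul]
  have h2 : (x * y) * z + (y * x) * z - (x * (y * z) + y * (x * z)) = 0 := by
    have h3 : (x * y) * z + (y * x) * z - (x * (y * z) + y * (x * z)) =
        ((x * y) * z - x * (y * z)) + ((y * x) * z - y * (x * z)) := by abel
    rw [h3, h1]; abel
  exact (sub_eq_zero.1 h2).symm

theorem rightLin (x y z : R) : (x * y) * z + (x * z) * y = x * (y * z + z * y) := by
  have h1 := h.s23 x y z
  unfold A at h1
  rw [mul_add]
  have h2 : (x * y) * z + (x * z) * y - (x * (y * z) + x * (z * y)) = 0 := by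
    have h3 : (x * y) * z + (x * z) * y - (x * (y * z) + x * (z * y)) =
        ((x * y) * z - x * (y * z)) + ((x * z) * y - x * (z * y)) := by abel
    rw [h3, h1]; abel
  exact sub_eq_zero.1 h2

/-- left Moufang identity -/
theorem LM (x y z : R) : (x * (y * x)) * z = x * (y * (x * z)) := by
  -- `A (xy) x z + A x y (xz) = 0`
  have h1 : A (x * y) x z + A x y (x * z) = 0 := by
    rw [h.s12 (x * y) x z, h.s23 x y (x * z)]
    unfold A
    have e1 : x * (x * y) * z = (x * x) * y * z := by rw [h.left]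
    have e2 : x * (x * z) * y = (x * x) * z * y := by rw [h.left]
    have e3 : (x * x) * y * z + (x * x) * z * y = x * (x * (y * z + z * y)) := by
      rw [h.rightLin, h.left]
    have e4 : x * (x * y * z) + x * (x * z * y) = x * (x * (y * z + z * y)) := by
      rw [← mul_add, h.rightLin]
    rw [e1, e2]
    have e5 : -((x * x) * y * z - x * (x * y * z)) + -((x * x) * z * y - x * (x * z * y)) =
        (x * (x * y * z) + x * (x * z * y)) - ((x * x) * y * z + (x * x) * z * y) := by abel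
    rw [e5, e3, e4, sub_self]
  unfold A at h1
  rw [← h.flex]
  have h2 : x * y * x * z - x * (y * (x * z)) = 0 := by
    rw [← h1]; abel
  exact sub_eq_zero.1 h2

/-- right Moufang identity -/
theorem RM (x y z : R) : ((z * x) * y) * x = z * ((x * y) * x) := by
  have h1 : A (z * x) y x + A z x (y * x) = 0 := by
    rw [h.s12 (z * x) y x, h.s23 z x (y * x)]
    -- `-A y (zx) x - A z (yx) x`
    unfold A
    have e1 : z * x * x = z * (x * x) := h.right x z
    have e2 : y * x * x = y * (x * x) := h.right x y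
    have e3 : y * (z * x) + z * (y * x) = (y * z + z * y) * x := h.leftLin y z x
    have e4 : y * (z * (x * x)) + z * (y * (x * x)) = (y * z + z * y) * (x * x) := h.leftLin y z (x * x)
    have e5 : (y * (z * x)) * x + (z * (y * x)) * x = (y * z + z * y) * (x * x) := by
      rw [← add_mul, e3, h.right]
    rw [e1, e2]
    have e6 : -(y * (z * x) * x - y * (z * (x * x))) + -(z * (y * x) * x - z * (y * (x * x))) =
        (y * (z * (x * x)) + z * (y * (x * x))) - ((y * (z * x)) * x + (z * (y * x)) * x) := by abel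
    rw [e6, e4, e5, sub_self]
  unfold A at h1
  rw [h.flex]
  have h2 : z * x * y * x - z * (x * (y * x)) = 0 := by
    rw [← h1]; abel
  exact sub_eq_zero.1 h2

theorem M2 (x y z : R) : A x (y * x) z = x * A x y z := by
  have h1 : A x (y * x) z = -(x * A y x z) := by
    unfold A
    rw [h.LM, mul_sub]
    abel
  rw [h1, h.s12 x y z, mul_neg]

theorem M1 (x y z : R) : A x (x * y) z = A x y z * x := by
  have h1 : A z (x * y) x = -(A z x y * x) := by
    unfold A
    rw [← h.RM, sub_mul]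
    abel
  have h2 : A x (x * y) z = -A z (x * y) x := by
    rw [h.cyc, h.s12, ← h.cyc]
  rw [h2, h1, neg_neg, h.cyc z x y]

theorem MM (x y z : R) : (x * y) * (z * x) = (x * (y * z)) * x := by
  have h1 : A x y (z * x) = x * A y z x := by
    rw [h.s23, h.M2, ← mul_neg, ← h.s23, h.cyc]
  have h2 : (x * y) * (z * x) = A x y (z * x) + x * (y * (z * x)) := by unfold A; abel
  have h3 : x * (y * (z * x)) = x * ((y * z) * x) - x * A y z x := by
    unfold A; rw [mul_sub]; abel
  rw [h2, h3, h1, h.flex]; abel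

end Alt

/-! ### words in two letters -/

section words

variable (a b : R)

/-- the letters -/
def letter (c : Bool) : R := cond c a b

/-- the right-normed value of a word -/
def val : List Bool → R
  | [] => 1
  | c :: l => letter a b c * val l

@[simp] theorem val_nil : val a b [] = 1 := rfl

@[simp] theorem val_cons (c : Bool) (l : List Bool) : val a b (c :: l) = letter a b c * val a b l := rfl

theorem val_single (c : Bool) : val a b [c] = letter a b c := by simp

/-- words multiply by concatenation up to length `n` -/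
def C (n : ℕ) : Prop := ∀ u v : List Bool, u.length + v.length ≤ n → val a b (u ++ v) = val a b u * val a b v

variable {a b}

theorem C.assoc3 {n : ℕ} (hC : C a b n) (u v w : List Bool) (h : u.length + v.length + w.length ≤ n) :
    A (val a b u) (val a b v) (val a b w) = 0 := by
  rw [A_eq_zero, ← hC u v (by omega), ← hC (u ++ v) w (by rw [List.length_append]; omega), ← hC v w (by omega),
    ← hC u (v ++ w) (by rw [List.length_append]; omega), List.append_assoc]

theorem C.snoc {n : ℕ} (hC : C a b n) (u : List Bool) (c : Bool) (h : u.length + 1 ≤ n) :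
    val a b (u ++ [c]) = val a b u * letter a b c := by
  rw [hC u [c] (by simpa using h), val_single]

theorem exists_snoc {l : List Bool} (hl : l ≠ []) : ∃ l' c, l = l' ++ [c] := by
  rcases List.eq_nil_or_concat' l with h | ⟨l', c, h⟩
  · exact absurd h hl
  · exact ⟨l', c, h⟩

/-- the case of a letter -/
theorem C.letterCase (h : Alt R) {n : ℕ} (hC : C a b n) (c : Bool) (u v : List Bool)
    (huv : u.length + v.length ≤ n) : A (letter a b c) (val a b u) (val a b v) = 0 := by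
  -- a word with `c` at an end
  have key : ∀ u v : List Bool, u.length + v.length ≤ n →
      ((∃ u', u = c :: u') ∨ (∃ u', u = u' ++ [c])) → A (letter a b c) (val a b u) (val a b v) = 0 := by
    rintro u v huv (⟨u', rfl⟩ | ⟨u', rfl⟩)
    · rw [val_cons, h.M1, ← val_single a b c,
        hC.assoc3 [c] u' v (by simp only [List.length_cons, List.length_nil] at huv ⊢; omega), zero_mul]
    · rw [List.length_append, List.length_singleton] at huv
      rw [hC.snoc u' c (by omega), h.M2, ← val_single a b c,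
        hC.assoc3 [c] u' v (by simp only [List.length_cons, List.length_nil] at huv ⊢; omega), mul_zero]
  by_cases hu : u = []
  · subst hu
    rw [val_nil, A_eq_zero, mul_one, one_mul]
  by_cases hv : v = []
  · subst hv
    rw [val_nil, A_eq_zero, mul_one, mul_one]
  by_cases hu1 : (∃ u', u = c :: u') ∨ (∃ u', u = u' ++ [c])
  · exact key u v huv hu1
  by_cases hv1 : (∃ v', v = c :: v') ∨ (∃ v', v = v' ++ [c])
  · rw [h.s23, key v u (by omega) hv1, neg_zero]
  push Not at hu1 hv1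
  -- the other letter
  obtain ⟨d, hd⟩ : ∃ d : Bool, ∀ e : Bool, e ≠ c → e = d := ⟨!c, by intro e he; cases e <;> cases c <;> simp_all⟩
  obtain ⟨e, u', rfl⟩ := List.exists_cons_of_ne_nil hu
  have he : e = d := hd e (fun he => hu1.1 u' (by rw [he]))
  subst he
  obtain ⟨v', f, rfl⟩ := exists_snoc hv
  have hf : f = e := hd f (fun hf => hv1.2 v' (by rw [hf]))
  subst hf
  have hlen : u'.length + v'.length + 2 ≤ n := by
    simp only [List.length_cons, List.length_append, List.length_nil] at huv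
    omega
  -- `A y U' T = 0`
  have hyT : A (letter a b f) (val a b u') (val a b (v' ++ [f, c])) = 0 := by
    by_cases hu0 : u' = []
    · subst hu0
      rw [val_nil, A_eq_zero, mul_one, one_mul]
    · obtain ⟨u'', g, rfl⟩ := exists_snoc hu0
      have hg : g = f := hd g (fun hg => hu1.2 (f :: u'') (by rw [hg]; rfl))
      subst hg
      rw [List.length_append, List.length_singleton] at hlen
      rw [hC.snoc u'' g (by omega), h.M2, ← val_single a b g,
        hC.assoc3 [g] u'' (v' ++ [g, c]) (by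
          simp only [List.length_cons, List.length_append, List.length_nil]; omega), mul_zero]
  have hT : val a b (v' ++ [f, c]) = val a b v' * (letter a b f * letter a b c) := by
    rw [hC v' [f, c] (by simp only [List.length_cons, List.length_nil]; omega)]
    simp
  rw [hT, A_eq_zero] at hyT
  have hv' : A (val a b v') (letter a b f) (letter a b c) = 0 := by
    have := hC.assoc3 v' [f] [c] (by simp only [List.length_cons, List.length_nil]; omega)
    rwa [val_single, val_single] at this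
  rw [A_eq_zero] at hv'
  have huv' : A (val a b u') (val a b v') (letter a b f * letter a b c) = 0 := by
    have := hC.assoc3 u' v' [f, c] (by simp only [List.length_cons, List.length_nil]; omega)
    simpa using this
  rw [A_eq_zero] at huv'
  rw [h.cyc, A_eq_zero, val_cons, hC.snoc v' f (by omega), h.MM, h.flex, h.LM, hv', hyT, huv']

theorem C_all (h : Alt R) (n : ℕ) : C a b n := by
  induction n with
  | zero =>
    intro u v huv
    have hu : u = [] := List.length_eq_zero_iff.1 (by omega)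
    have hv : v = [] := List.length_eq_zero_iff.1 (by omega)
    subst hu hv
    simp
  | succ n ih =>
    intro u v huv
    cases u with
    | nil => simp
    | cons c u' =>
      rw [List.length_cons] at huv
      have h1 := ih.letterCase h c u' v (by omega)
      rw [A_eq_zero] at h1
      rw [List.cons_append, val_cons, val_cons, ih u' v (by omega), h1]

theorem val_append (h : Alt R) (u v : List Bool) : val a b (u ++ v) = val a b u * val a b v :=
  C_all h _ u v le_rfl

theorem val_assoc (h : Alt R) (u v w : List Bool) : A (val a b u) (val a b v) (val a b w) = 0 :=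
  (C_all h _).assoc3 u v w le_rfl

/-- the additive group spanned by the words -/
def M (a b : R) : AddSubgroup R := AddSubgroup.closure (Set.range (val a b))

theorem M_mul (h : Alt R) {s t : R} (hs : s ∈ M a b) (ht : t ∈ M a b) : s * t ∈ M a b := by
  unfold M at hs ht
  induction hs using AddSubgroup.closure_induction with
  | zero => rw [zero_mul]; exact zero_mem _
  | add x y _ _ hx hy => rw [add_mul]; exact add_mem hx hy
  | neg x _ hx => rw [neg_mul]; exact neg_mem hx
  | mem x hx =>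
    obtain ⟨u, rfl⟩ := hx
    induction ht using AddSubgroup.closure_induction with
    | zero => rw [mul_zero]; exact zero_mem _
    | add x y _ _ hx hy => rw [mul_add]; exact add_mem hx hy
    | neg x _ hx => rw [mul_neg]; exact neg_mem hx
    | mem y hy =>
      obtain ⟨v, rfl⟩ := hy
      rw [← val_append h]
      exact AddSubgroup.subset_closure ⟨_, rfl⟩

theorem M_assoc (h : Alt R) {s t r : R} (hs : s ∈ M a b) (ht : t ∈ M a b) (hr : r ∈ M a b) : A s t r = 0 := by
  unfold M at hs ht hr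
  induction hs using AddSubgroup.closure_induction with
  | zero => exact A_zero_left _ _
  | add x y _ _ hx hy => rw [A_add_left, hx, hy, add_zero]
  | neg x _ hx => rw [A_neg_left, hx, neg_zero]
  | mem x hx =>
    obtain ⟨u, rfl⟩ := hx
    induction ht using AddSubgroup.closure_induction with
    | zero => exact A_zero_mid _ _
    | add x y _ _ hx hy => rw [A_add_mid, hx, hy, add_zero]
    | neg x _ hx => rw [A_neg_mid, hx, neg_zero]
    | mem y hy =>
      obtain ⟨v, rfl⟩ := hy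
      induction hr using AddSubgroup.closure_induction with
      | zero => exact A_zero_right _ _
      | add x y _ _ hx hy => rw [A_add_right, hx, hy, add_zero]
      | neg x _ hx => rw [A_neg_right, hx, neg_zero]
      | mem z hz =>
        obtain ⟨w, rfl⟩ := hz
        exact val_assoc h u v w

theorem one_mem_M : (1 : R) ∈ M a b := AddSubgroup.subset_closure ⟨[], rfl⟩

theorem left_mem_M : a ∈ M a b := AddSubgroup.subset_closure ⟨[true], by simp [letter]⟩

theorem right_mem_M : b ∈ M a b := AddSubgroup.subset_closure ⟨[false], by simp [letter]⟩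

/-- the subring generated by two elements -/
def T (h : Alt R) (a b : R) : Subring R :=
  { carrier := M a b
    mul_mem' := fun hs ht => M_mul h hs ht
    one_mem' := one_mem_M
    add_mem' := fun hs ht => add_mem hs ht
    zero_mem' := zero_mem _
    neg_mem' := fun hs => neg_mem hs }

end words

end alt

section fin

variable {R : Type*} [NonAssocRing R] [Finite R] [Nontrivial R]

omit [Nontrivial R] in
theorem inv_left (hl : ∀ a : R, a ≠ 0 → ∃ b : R, ∀ x, b * (a * x) = x) {a : R} (ha : a ≠ 0) :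
    ∃ b : R, (∀ x, b * (a * x) = x) ∧ ∀ x, a * (b * x) = x := by
  obtain ⟨b, hb⟩ := hl a ha
  refine ⟨b, hb, fun x => ?_⟩
  have hinj : Function.Injective (fun x : R => a * x) := fun x y hxy => by
    rw [← hb x, ← hb y]
    exact congrArg (fun t => b * t) hxy
  obtain ⟨z, hz⟩ := Finite.surjective_of_injective hinj x
  have hz' : a * z = x := hz
  rw [← hz', hb]

omit [Nontrivial R] in
theorem inv_right (hr : ∀ a : R, a ≠ 0 → ∃ b : R, ∀ x, (x * a) * b = x) {a : R} (ha : a ≠ 0) :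
    ∃ b : R, (∀ x, (x * a) * b = x) ∧ ∀ x, (x * b) * a = x := by
  obtain ⟨b, hb⟩ := hr a ha
  refine ⟨b, hb, fun x => ?_⟩
  have hinj : Function.Injective (fun x : R => x * a) := fun x y hxy => by
    rw [← hb x, ← hb y]
    exact congrArg (fun t => t * b) hxy
  obtain ⟨z, hz⟩ := Finite.surjective_of_injective hinj x
  have hz' : z * a = x := hz
  rw [← hz', hb]

theorem alt_of (hl : ∀ a : R, a ≠ 0 → ∃ b : R, ∀ x, b * (a * x) = x)
    (hr : ∀ a : R, a ≠ 0 → ∃ b : R, ∀ x, (x * a) * b = x) : Alt R := by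
  refine ⟨fun x y => ?_, fun x y => ?_⟩
  · by_cases hx : x = 0
    · rw [hx]; simp
    by_cases hx1 : x + 1 = 0
    · rw [eq_neg_of_add_eq_zero_left hx1]; simp
    obtain ⟨p, hp1, hp2⟩ := inv_left hl hx
    obtain ⟨q, hq1, hq2⟩ := inv_left hl hx1
    have h1 : ∀ y, x * ((x + 1) * ((p - q) * y)) = y := by
      intro y
      have h2 : (x + 1) * ((p - q) * y) = p * y := by
        rw [sub_mul, mul_sub, hq2, add_mul, one_mul, hp2]; abel
      rw [h2, hp2]
    have hc : p - q ≠ 0 := by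
      intro hc
      obtain ⟨u, v, huv⟩ := exists_pair_ne R
      apply huv
      rw [← h1 u, ← h1 v, hc]; simp
    obtain ⟨d, -, hd⟩ := inv_left hl hc
    have h3 : ∀ y, x * ((x + 1) * y) = d * y := by
      intro y
      have := h1 (d * y)
      rwa [hd] at this
    have h4 := h3 1
    rw [mul_one, mul_one] at h4
    have h5 := h3 y
    rw [← h4, add_mul, one_mul, mul_add, mul_add, mul_one, add_mul] at h5
    exact add_right_cancel h5
  · by_cases hx : x = 0
    · rw [hx]; simp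
    by_cases hx1 : x + 1 = 0
    · rw [eq_neg_of_add_eq_zero_left hx1]; simp
    obtain ⟨p, hp1, hp2⟩ := inv_right hr hx
    obtain ⟨q, hq1, hq2⟩ := inv_right hr hx1
    have h1 : ∀ y, (((y * (p - q)) * (x + 1)) * x) = y := by
      intro y
      have h2 : (y * (p - q)) * (x + 1) = y * p := by
        rw [mul_sub, sub_mul, hq2, mul_add, mul_one, hp2]; abel
      rw [h2, hp2]
    have hc : p - q ≠ 0 := by
      intro hc
      obtain ⟨u, v, huv⟩ := exists_pair_ne R
      apply huv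
      rw [← h1 u, ← h1 v, hc]; simp
    obtain ⟨d, -, hd⟩ := inv_right hr hc
    have h3 : ∀ y, (y * (x + 1)) * x = y * d := by
      intro y
      have := h1 (y * d)
      rwa [hd] at this
    have h4 := h3 1
    rw [one_mul, one_mul] at h4
    have h5 := h3 y
    rw [← h4, mul_add, mul_one, add_mul, add_mul, one_mul, mul_add] at h5
    exact add_right_cancel h5

omit [Finite R] [Nontrivial R] in
theorem mul_ne_zero' (hl : ∀ a : R, a ≠ 0 → ∃ b : R, ∀ x, b * (a * x) = x) {a b : R} (ha : a ≠ 0) (hb : b ≠ 0) :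
    a * b ≠ 0 := by
  obtain ⟨c, hc⟩ := hl a ha
  intro h0
  apply hb
  rw [← hc b, h0, mul_zero]

omit [Nontrivial R] [Finite R] in
theorem assoc_T (h : Alt R) (a b : R) (s t r : T h a b) : s * t * r = s * (t * r) :=
  Subtype.ext (A_eq_zero.1 (M_assoc h s.2 t.2 r.2))

omit [Nontrivial R] [Finite R] in
theorem nzd_T (h : Alt R) (hl : ∀ a : R, a ≠ 0 → ∃ b : R, ∀ x, b * (a * x) = x) (a b : R) (s t : T h a b)
    (hst : s * t = 0) : s = 0 ∨ t = 0 := by
  by_contra hcon
  push Not at hcon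
  exact mul_ne_zero' hl (fun h0 => hcon.1 (Subtype.ext h0)) (fun h0 => hcon.2 (Subtype.ext h0))
    (congrArg Subtype.val hst)

omit [Finite R] in
theorem nontrivial_T (h : Alt R) (a b : R) : Nontrivial (T h a b) :=
  ⟨⟨0, 1, fun h0 => zero_ne_one (α := R) (congrArg Subtype.val h0)⟩⟩

theorem comm_of_assoc {S : Type*} [i : NonAssocRing S] [Finite S] [Nontrivial S]
    (hassoc : ∀ a b c : S, a * b * c = a * (b * c)) (hz : ∀ a b : S, a * b = 0 → a = 0 ∨ b = 0) (a b : S) :
    a * b = b * a := by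
  let r : Ring S := { i with mul_assoc := hassoc }
  have h1 : NoZeroDivisors S := ⟨fun {x y} hxy => hz x y hxy⟩
  have h2 : IsDomain S := NoZeroDivisors.to_isDomain S
  exact (Finite.isDomain_to_isField S).mul_comm a b

theorem gen_of_assoc {S : Type*} [i : NonAssocRing S] [Finite S] [Nontrivial S]
    (hassoc : ∀ a b c : S, a * b * c = a * (b * c)) (hz : ∀ a b : S, a * b = 0 → a = 0 ∨ b = 0) :
    ∃ g : S, ∀ P : S → Prop, P 1 → (∀ x, P x → P (x * g)) → ∀ x, x ≠ 0 → P x := by
  let r : CommRing S := { i with mul_assoc := hassoc, mul_comm := comm_of_assoc hassoc hz }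
  have h1 : NoZeroDivisors S := ⟨fun {x y} hxy => hz x y hxy⟩
  have h2 : IsDomain S := NoZeroDivisors.to_isDomain S
  obtain ⟨g, hg⟩ := IsCyclic.exists_monoid_generator (α := Sˣ)
  refine ⟨g, fun P hP1 hP x hx => ?_⟩
  have h3 : ∀ n : ℕ, P ((g ^ n : Sˣ) : S) := by
    intro n
    induction n with
    | zero => exact hP1
    | succ n ih =>
      have h4 : ((g ^ (n + 1) : Sˣ) : S) = ((g ^ n : Sˣ) : S) * g := by
        rw [pow_succ, Units.val_mul]
      rw [h4]
      exact hP _ ih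
  obtain ⟨y, hy⟩ := (Finite.isDomain_to_isField S).mul_inv_cancel hx
  obtain ⟨n, hn⟩ := hg (Units.mkOfMulEqOne x y hy)
  have h5 : x = ((g ^ n : Sˣ) : S) := by
    have h6 := congrArg (fun u : Sˣ => (u : S)) hn
    exact h6.symm
  rw [h5]
  exact h3 n

theorem comm (h : Alt R) (hl : ∀ a : R, a ≠ 0 → ∃ b : R, ∀ x, b * (a * x) = x) (a b : R) : a * b = b * a := by
  have := nontrivial_T h a b
  exact congrArg Subtype.val
    (comm_of_assoc (assoc_T h a b) (nzd_T h hl a b) ⟨a, left_mem_M⟩ ⟨b, right_mem_M⟩)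

theorem exists_gen (h : Alt R) (hl : ∀ a : R, a ≠ 0 → ∃ b : R, ∀ x, b * (a * x) = x) (a b : R) :
    ∃ g : R, ∀ c : R, a ∈ M g c ∧ b ∈ M g c := by
  have := nontrivial_T h a b
  obtain ⟨g, hg⟩ := gen_of_assoc (assoc_T h a b) (nzd_T h hl a b)
  have key : ∀ (x : T h a b) (c : R), (x : R) ∈ M (g : R) c := by
    intro x c
    by_cases hx : x = 0
    · rw [hx]; exact zero_mem _
    · exact hg (fun y => (y : R) ∈ M (g : R) c) one_mem_M (fun y hy => M_mul h hy left_mem_M) x hx
  exact ⟨g, fun c => ⟨key ⟨a, left_mem_M⟩ c, key ⟨b, right_mem_M⟩ c⟩⟩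

/-- **Artin-Zorn** -/
theorem artin_zorn {R : Type*} [NonAssocRing R] [Finite R] [Nontrivial R]
    (hl : ∀ a : R, a ≠ 0 → ∃ b : R, ∀ x, b * (a * x) = x)
    (hr : ∀ a : R, a ≠ 0 → ∃ b : R, ∀ x, (x * a) * b = x) :
    (∀ a b : R, a * b = b * a) ∧ (∀ a b c : R, a * b * c = a * (b * c)) := by
  have h := alt_of hl hr
  refine ⟨comm h hl, fun a b c => ?_⟩
  obtain ⟨g, hg⟩ := exists_gen h hl a b
  exact A_eq_zero.1 (M_assoc h (hg c).1 (hg c).2 right_mem_M)

end fin

end Cfsg.Agent.H975.ArtinZorn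
end

-- part: H985/AlgField
section
/-!
# A field from the commutator algebra, S3732, helper985
-/

set_option autoImplicit false
set_option linter.unusedSectionVars false

namespace Cfsg.Agent.H985

theorem field_of_mul {B : Type*} [AddCommGroup B] [Finite B] [Nontrivial B] (mul : B →+ B →+ B) (one : B)
    (h1 : ∀ v, mul one v = v) (h2 : ∀ u, mul u one = u) (hl : ∀ u, u ≠ 0 → ∃ w, ∀ v, mul w (mul u v) = v)
    (hr : ∀ v, v ≠ 0 → ∃ w, ∀ u, mul (mul u v) w = u) :
    ∃ (F : Type) (_ : Field F) (_ : Fintype F) (β : B ≃ F), (∀ b b', β (b + b') = β b + β b') ∧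
      ∀ u v, β (mul u v) = β u * β v := by
  classical
  let R : NonAssocRing B :=
    { (inferInstance : AddCommGroup B) with
      mul := fun u v => mul u v
      one := one
      left_distrib := fun a b c => map_add (mul a) b c
      right_distrib := fun a b c => by
        change mul (a + b) c = mul a c + mul b c
        rw [map_add, AddMonoidHom.add_apply]
      zero_mul := fun a => by
        change mul 0 a = 0
        rw [map_zero, AddMonoidHom.zero_apply]
      mul_zero := fun a => map_zero (mul a)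
      one_mul := h1
      mul_one := h2 }
  obtain ⟨hc, ha⟩ := H975.ArtinZorn.artin_zorn (R := B) hl hr
  have hne : (1 : B) ≠ 0 := by
    intro h
    obtain ⟨x, hx⟩ := exists_ne (0 : B)
    apply hx
    rw [← one_mul x, h, zero_mul]
  have hinv : ∀ a : B, a ≠ 0 → ∃ b : B, a * b = 1 := by
    intro a ha'
    obtain ⟨b, hb⟩ := hl a ha'
    refine ⟨b, ?_⟩
    rw [hc]
    have := hb 1
    have h3 : b * (a * 1) = 1 := this
    rwa [mul_one] at h3
  choose! iv hiv using hinv
  let RF : Field B :=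
    { R with
      mul_assoc := ha
      mul_comm := hc
      inv := fun a => if a = 0 then 0 else iv a
      exists_pair_ne := ⟨1, 0, hne⟩
      mul_inv_cancel := fun a h => by
        change a * (if a = 0 then 0 else iv a) = 1
        rw [if_neg h]
        exact hiv a h
      inv_zero := if_pos rfl
      nnqsmul := _
      qsmul := _ }
  refine ⟨Shrink.{0} B, inferInstance, Fintype.ofFinite _, equivShrink.{0} B, fun b b' => ?_, fun u v => ?_⟩
  · exact equivShrink_add.{0} b b'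
  · exact equivShrink_mul.{0} (α := B) u v

variable {A B C : Type*} [AddCommGroup A] [AddCommGroup B] [AddCommGroup C] [Finite A] [Finite B] [Finite C]

/-- **the field** -/
theorem alg_field [Nontrivial B] (m : C →+ A →+ B) (hA : Nat.card A = Nat.card B) (hC : Nat.card C = Nat.card B)
    (nd : ∀ s a, m s a = 0 → s = 0 ∨ a = 0)
    (gl : ∀ s₁ s₂ : C, s₁ ≠ 0 → s₂ ≠ 0 → (∀ a₁ a₂, m s₁ a₁ = m s₂ a₂ → a₁ + a₂ = 0) ∨
      ∃ s₃, s₃ ≠ 0 ∧ ∀ a₁ a₂, m s₁ a₁ = m s₂ a₂ → m s₃ (a₁ + a₂) = m s₁ a₁)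
    (gl' : ∀ a₁ a₂ : A, a₁ ≠ 0 → a₂ ≠ 0 → (∀ s₁ s₂, m s₁ a₁ = m s₂ a₂ → s₁ + s₂ = 0) ∨
      ∃ a₃, a₃ ≠ 0 ∧ ∀ s₁ s₂, m s₁ a₁ = m s₂ a₂ → m (s₁ + s₂) a₃ = m s₁ a₁) :
    ∃ (F : Type) (_ : Field F) (_ : Fintype F) (α : A ≃ F) (β : B ≃ F) (γ : C ≃ F),
      (∀ b b', β (b + b') = β b + β b') ∧ ∀ s a, β (m s a) = γ s * α a := by
  have h1B : 1 < Nat.card B := Finite.one_lt_card_iff_nontrivial.2 inferInstance
  have : Nontrivial A := Finite.one_lt_card_iff_nontrivial.1 (hA ▸ h1B)
  have : Nontrivial C := Finite.one_lt_card_iff_nontrivial.1 (hC ▸ h1B)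
  obtain ⟨a₀, ha₀⟩ := exists_ne (0 : A)
  obtain ⟨s₀, hs₀⟩ := exists_ne (0 : C)
  -- the two identifications
  have hinj1 : Function.Injective (m s₀) := by
    rw [injective_iff_map_eq_zero]
    intro a ha
    exact (nd s₀ a ha).resolve_left hs₀
  have hinj2 : Function.Injective (m.flip a₀) := by
    rw [injective_iff_map_eq_zero]
    intro s hs
    exact (nd s a₀ hs).resolve_right ha₀
  let lam : A ≃+ B := AddEquiv.ofBijective (m s₀) (Function.Injective.bijective_of_nat_card_le hinj1 hA.ge)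
  let mu : C ≃+ B := AddEquiv.ofBijective (m.flip a₀) (Function.Injective.bijective_of_nat_card_le hinj2 hC.ge)
  have hlam : ∀ a, lam a = m s₀ a := fun _ => rfl
  have hmu : ∀ s, mu s = m s a₀ := fun _ => rfl
  let mul : B →+ B →+ B := AddMonoidHom.mk' (fun u => (m (mu.symm u)).comp lam.symm.toAddMonoidHom) (by
    intro u v
    ext w
    simp)
  have hmul : ∀ u v, mul u v = m (mu.symm u) (lam.symm v) := fun _ _ => rfl
  have hmul' : ∀ s a, mul (mu s) (lam a) = m s a := fun s a => by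
    rw [hmul, AddEquiv.symm_apply_apply, AddEquiv.symm_apply_apply]
  set one := m s₀ a₀ with hone
  have e1 : mu.symm one = s₀ := by rw [AddEquiv.symm_apply_eq]; rfl
  have e2 : lam.symm one = a₀ := by rw [AddEquiv.symm_apply_eq]; rfl
  have h1 : ∀ v, mul one v = v := fun v => by
    rw [hmul, e1, ← hlam, AddEquiv.apply_symm_apply]
  have h2 : ∀ u, mul u one = u := fun u => by
    rw [hmul, e2, ← hmu, AddEquiv.apply_symm_apply]
  have hne : one ≠ 0 := by
    intro h
    rcases nd _ _ h with h3 | h3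
    · exact hs₀ h3
    · exact ha₀ h3
  -- the inverse properties
  have hl : ∀ u, u ≠ 0 → ∃ w, ∀ v, mul w (mul u v) = v := by
    intro u hu
    by_cases hu1 : u = one
    · exact ⟨one, fun v => by rw [hu1, h1, h1]⟩
    have hu2 : mu.symm (u - one) ≠ 0 := by
      intro h
      rw [AddEquiv.symm_apply_eq, map_zero, sub_eq_zero] at h
      exact hu1 h
    have hs : ∀ v, m s₀ (lam.symm (mul (u - one) v)) = m (mu.symm (u - one)) (lam.symm v) := by
      intro v
      rw [← hlam, AddEquiv.apply_symm_apply, hmul]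
    rcases gl s₀ (mu.symm (u - one)) hs₀ hu2 with h3 | ⟨s₃, -, h3⟩
    · exfalso
      have h4 := h3 _ _ (hs one)
      rw [← map_add, AddEquiv.symm_apply_eq, map_zero, h2, sub_add_cancel] at h4
      exact hu h4
    · refine ⟨one - mu s₃, fun v => ?_⟩
      have h4 := h3 _ _ (hs v)
      have h5 : mul (u - one) v + v = mul u v := by
        rw [map_sub, AddMonoidHom.sub_apply, h1, sub_add_cancel]
      rw [← map_add, h5, hs v, ← hmul, ← AddEquiv.symm_apply_apply mu s₃, ← hmul] at h4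
      rw [map_sub, AddMonoidHom.sub_apply, h1, h4, map_sub, AddMonoidHom.sub_apply, h1]
      abel
  have hr : ∀ v, v ≠ 0 → ∃ w, ∀ u, mul (mul u v) w = u := by
    intro v hv
    by_cases hv1 : v = one
    · exact ⟨one, fun u => by rw [hv1, h2, h2]⟩
    have hv2 : lam.symm (v - one) ≠ 0 := by
      intro h
      rw [AddEquiv.symm_apply_eq, map_zero, sub_eq_zero] at h
      exact hv1 h
    have hs : ∀ u, m (mu.symm (mul u (v - one))) a₀ = m (mu.symm u) (lam.symm (v - one)) := by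
      intro u
      rw [← hmu, AddEquiv.apply_symm_apply, hmul]
    rcases gl' a₀ (lam.symm (v - one)) ha₀ hv2 with h3 | ⟨a₃, -, h3⟩
    · exfalso
      have h4 := h3 _ _ (hs one)
      rw [← map_add, AddEquiv.symm_apply_eq, map_zero, h1, sub_add_cancel] at h4
      exact hv h4
    · refine ⟨one - lam a₃, fun u => ?_⟩
      have h4 := h3 _ _ (hs u)
      have h5 : mul u (v - one) + u = mul u v := by
        rw [map_sub, h2, sub_add_cancel]
      rw [← map_add, h5, hs u, ← hmul, ← AddEquiv.symm_apply_apply lam a₃, ← hmul] at h4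
      rw [map_sub, h2, h4, map_sub, h2]
      abel
  obtain ⟨F, i1, i2, β, hβ1, hβ2⟩ := field_of_mul mul one h1 h2 hl hr
  refine ⟨F, i1, i2, lam.toEquiv.trans β, β, mu.toEquiv.trans β, hβ1, fun s a => ?_⟩
  rw [← hmul', hβ2]
  rfl

end Cfsg.Agent.H985
end

-- part: H985/Final
section
/-!
# Doubly transitive planes have coordinates in a field, S3732, helper985
-/

set_option autoImplicit false
set_option linter.unusedSectionVars false

namespace Cfsg.Agent.H985.Pl

open Configuration Configuration.ProjectivePlane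

variable {G P L : Type*} [Group G] [Membership P L] [MulAction G P] [MulAction G L]
variable [Act G P L] [ProjectivePlane P L] [Finite P] [Finite L] [Finite G] [FaithfulSMul G P]

/-- the commutative group structure -/
@[reducible] def commPg (hT : T2 G P) {z : P} {w : L} (hz : z ∈ w) : CommGroup (Pg G z w) :=
  { (inferInstance : Group (Pg G z w)) with
    mul_comm := fun a b => Subtype.ext (comm_axis hT hz hz a.2 b.2) }

/-- **the plane has coordinates in a field** -/
theorem desargues_coords (hT : T2 G P) :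
    ∃ (F : Type) (_ : Field F) (_ : Fintype F) (e : P ≃ (F × F) ⊕ (F ⊕ Unit)), ∀ l : L,
      (∃ m b : F, ∀ p : P, p ∈ l ↔ ((∃ x, e p = Sum.inl (x, m * x + b)) ∨ e p = Sum.inr (Sum.inl m))) ∨
      (∃ a : F, ∀ p : P, p ∈ l ↔ ((∃ y, e p = Sum.inl (a, y)) ∨ e p = Sum.inr (Sum.inr ()))) ∨
      (∀ p : P, p ∈ l ↔ ((∃ m, e p = Sum.inr (Sum.inl m)) ∨ e p = Sum.inr (Sum.inr ()))) := by
  -- the frame
  obtain ⟨l, -⟩ : ∃ l : L, True := by
    obtain ⟨a, b, c, d, -⟩ := ex_quad P L
    obtain ⟨l, -⟩ := exL L a b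
    exact ⟨l, trivial⟩
  obtain ⟨O, hOl⟩ := exOffP (P := P) l
  obtain ⟨Y, hY⟩ := ex_on P l
  obtain ⟨X, hX, hXY⟩ := ex_on_ne (P := P) l Y
  have hOY : O ≠ Y := fun h => hOl (h ▸ hY)
  obtain ⟨k, hOk, hYk⟩ := exL0 (L := L) hOY
  have hkl : k ≠ l := fun h => hOl (h ▸ hOk)
  let iA : CommGroup (Pg G X l) := commPg hT hX
  let iB : CommGroup (Pg G Y l) := commPg hT hY
  let iC : CommGroup (Pg G Y k) := commPg hT hYk
  have hN : Nontrivial (Pg G Y l) := by
    obtain ⟨g, hg, hg1⟩ := nontriv_Pg hT hY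
    exact ⟨⟨g, hg⟩, 1, fun h => hg1 (congrArg Subtype.val h)⟩
  have hN' : Nontrivial (Additive (Pg G Y l)) := hN
  let m : Additive (Pg G Y k) →+ Additive (Pg G X l) →+ Additive (Pg G Y l) :=
    AddMonoidHom.mk' (fun s => AddMonoidHom.mk' (fun a => Additive.ofMul
      ⟨s.toMul.1 * a.toMul.1 * (s.toMul.1)⁻¹ * (a.toMul.1)⁻¹, comm_mem hY hYk s.toMul.2 a.toMul.2⟩) (by
        intro a a'
        apply Subtype.ext
        exact comm_mulR hT hX hY hYk s.toMul.2 a.toMul.2 a'.toMul.2)) (by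
      intro s s'
      apply DFunLike.ext
      intro a
      exact Subtype.ext (comm_mulL hT hY hYk s.toMul.2 s'.toMul.2 a.toMul.2))
  have hcard : ∀ {z : P} {w : L}, z ∈ w → Nat.card (Additive (Pg G z w)) = order P L := fun hz => card_Pg_all hT hz
  obtain ⟨F, i1, i2, α, β, γ, h1, h2⟩ := alg_field m ((hcard hX).trans (hcard hY).symm)
    ((hcard hYk).trans (hcard hY).symm) (by
      intro s a h
      have h3 : s.toMul.1 * a.toMul.1 * (s.toMul.1)⁻¹ * (a.toMul.1)⁻¹ = 1 :=
        congrArg (fun t : Additive (Pg G Y l) => t.toMul.1) h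
      rcases comm_nd hXY hX hY hYk hkl s.toMul.2 a.toMul.2 h3 with h4 | h4
      · exact Or.inl (Subtype.ext h4)
      · exact Or.inr (Subtype.ext h4)) (by
      intro s₁ s₂ h3 h4
      rcases comm_gl hT hXY hX hY hYk hkl s₁.toMul.2 s₂.toMul.2 (fun h => h3 (Subtype.ext h))
        (fun h => h4 (Subtype.ext h)) with h5 | ⟨s₃, hs₃, h5, h6⟩
      · left
        intro a₁ a₂ h6
        exact Subtype.ext (h5 a₁.toMul.1 a₁.toMul.2 a₂.toMul.1 a₂.toMul.2
          (congrArg (fun t : Additive (Pg G Y l) => t.toMul.1) h6))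
      · right
        refine ⟨Additive.ofMul ⟨s₃, hs₃⟩, fun h => h5 (congrArg (fun t : Additive (Pg G Y k) => t.toMul.1) h), ?_⟩
        intro a₁ a₂ h7
        exact Subtype.ext (h6 a₁.toMul.1 a₁.toMul.2 a₂.toMul.1 a₂.toMul.2
          (congrArg (fun t : Additive (Pg G Y l) => t.toMul.1) h7))) (by
      intro a₁ a₂ h3 h4
      rcases comm_gl' hT hXY hX hY hYk hkl a₁.toMul.2 a₂.toMul.2 (fun h => h3 (Subtype.ext h))
        (fun h => h4 (Subtype.ext h)) with h5 | ⟨a₃, ha₃, h5, h6⟩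
      · left
        intro s₁ s₂ h6
        exact Subtype.ext (h5 s₁.toMul.1 s₁.toMul.2 s₂.toMul.1 s₂.toMul.2
          (congrArg (fun t : Additive (Pg G Y l) => t.toMul.1) h6))
      · right
        refine ⟨Additive.ofMul ⟨a₃, ha₃⟩, fun h => h5 (congrArg (fun t : Additive (Pg G X l) => t.toMul.1) h), ?_⟩
        intro s₁ s₂ h7
        exact Subtype.ext (h6 s₁.toMul.1 s₁.toMul.2 s₂.toMul.1 s₂.toMul.2
          (congrArg (fun t : Additive (Pg G Y l) => t.toMul.1) h7)))
  refine ⟨F, i1, i2, exists_coords (k := k) (O := O) (Additive.ofMul.trans α) (Additive.ofMul.trans β)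
    (Additive.ofMul.trans γ) hXY hX hY hYk hOk hOl hT ?_ ?_⟩
  · intro b b'
    exact h1 (Additive.ofMul b) (Additive.ofMul b')
  · intro s a
    exact h2 (Additive.ofMul s) (Additive.ofMul a)

end Cfsg.Agent.H985.Pl
end

-- part: H985/Coord
section
/-!
# The projective plane over a field in coordinates, S3732, helper985
-/

set_option autoImplicit false
set_option linter.unusedSectionVars false

namespace Cfsg.Agent.H985

open Module

variable {F : Type} [Field F]

/-- the functional with coefficients `a, b, c` -/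
def lin3 (a b c : F) : (Fin 3 → F) →ₗ[F] F where
  toFun v := a * v 0 + b * v 1 + c * v 2
  map_add' v w := by simp only [Pi.add_apply]; ring
  map_smul' r v := by simp only [Pi.smul_apply, smul_eq_mul, RingHom.id_apply]; ring

theorem lin3_apply (a b c : F) (v : Fin 3 → F) : lin3 a b c v = a * v 0 + b * v 1 + c * v 2 := rfl

theorem finrank_ker3 {f : (Fin 3 → F) →ₗ[F] F} (hf : f ≠ 0) : finrank F (LinearMap.ker f) = 2 := by
  have h1 := LinearMap.finrank_range_add_finrank_ker f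
  rw [LinearMap.range_eq_top.2 (LinearMap.surjective hf), finrank_top, finrank_self, finrank_fin_fun] at h1
  omega

/-- the vectors of the points -/
def vec3 : (F × F) ⊕ (F ⊕ Unit) → Fin 3 → F
  | Sum.inl t => ![1, t.1, t.2]
  | Sum.inr (Sum.inl m) => ![0, 1, m]
  | Sum.inr (Sum.inr _) => ![0, 0, 1]

theorem vec3_ne (t : (F × F) ⊕ (F ⊕ Unit)) : vec3 t ≠ 0 := by
  rcases t with ⟨x, y⟩ | m | u
  · intro h; simpa [vec3] using congrFun h 0
  · intro h; simpa [vec3] using congrFun h 1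
  · intro h; simpa [vec3] using congrFun h 2

theorem vec3_inj {s t : (F × F) ⊕ (F ⊕ Unit)} {a : F} (h : a • vec3 t = vec3 s) : s = t := by
  have h0 := congrFun h 0
  have h1 := congrFun h 1
  have h2 := congrFun h 2
  rcases s with ⟨x, y⟩ | m | u <;> rcases t with ⟨x', y'⟩ | m' | u' <;>
    simp [vec3] at h0 h1 h2
  · subst h0; simp_all
  · subst h0; simp at h1
  · subst h1; simp_all
  · subst h0; simp at h2
  · subst h1; simp at h2
  · rfl

theorem vec3_sur (v : Fin 3 → F) (hv : v ≠ 0) : ∃ (t : (F × F) ⊕ (F ⊕ Unit)) (a : F), a • v = vec3 t := by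
  by_cases h0 : v 0 = 0
  · by_cases h1 : v 1 = 0
    · have h2 : v 2 ≠ 0 := by
        intro h2
        apply hv
        ext i
        fin_cases i
        · exact h0
        · exact h1
        · exact h2
      refine ⟨Sum.inr (Sum.inr ()), (v 2)⁻¹, ?_⟩
      ext i
      fin_cases i
      · simp [vec3, h0]
      · simp [vec3, h1]
      · simp [vec3, h2]
    · refine ⟨Sum.inr (Sum.inl ((v 1)⁻¹ * v 2)), (v 1)⁻¹, ?_⟩
      ext i
      fin_cases i
      · simp [vec3, h0]
      · simp [vec3, h1]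
      · simp [vec3]
  · refine ⟨Sum.inl ((v 0)⁻¹ * v 1, (v 0)⁻¹ * v 2), (v 0)⁻¹, ?_⟩
    ext i
    fin_cases i
    · simp [vec3, h0]
    · simp [vec3]
    · simp [vec3]

/-- the point with given coordinates -/
def pt3 (t : (F × F) ⊕ (F ⊕ Unit)) : Projectivization F (Fin 3 → F) := Projectivization.mk F (vec3 t) (vec3_ne t)

theorem pt3_bij : Function.Bijective (pt3 (F := F)) := by
  constructor
  · intro s t h
    obtain ⟨a, ha⟩ := (Projectivization.mk_eq_mk_iff' F _ _ (vec3_ne s) (vec3_ne t)).1 h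
    exact vec3_inj ha
  · intro x
    induction x using Projectivization.ind with
    | h v hv =>
      obtain ⟨t, a, ha⟩ := vec3_sur v hv
      refine ⟨t, ?_⟩
      exact (Projectivization.mk_eq_mk_iff' F _ _ (vec3_ne t) hv).2 ⟨a, ha⟩

theorem mk_le_iff {v : Fin 3 → F} (hv : v ≠ 0) {W : Submodule F (Fin 3 → F)} :
    (Projectivization.mk F v hv).submodule ≤ W ↔ v ∈ W := by
  rw [Projectivization.submodule_mk, Submodule.span_singleton_le_iff_mem]

theorem coord_final {P L : Type*} [Membership P L] [Configuration.ProjectivePlane P L]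
    (e : P ≃ (F × F) ⊕ (F ⊕ Unit))
    (h : ∀ l : L, (∃ m b : F, ∀ p : P, p ∈ l ↔ ((∃ x, e p = Sum.inl (x, m * x + b)) ∨ e p = Sum.inr (Sum.inl m))) ∨
      (∃ a : F, ∀ p : P, p ∈ l ↔ ((∃ y, e p = Sum.inl (a, y)) ∨ e p = Sum.inr (Sum.inr ()))) ∨
      (∀ p : P, p ∈ l ↔ ((∃ m, e p = Sum.inr (Sum.inl m)) ∨ e p = Sum.inr (Sum.inr ())))) :
    ∃ (φ : P ≃ Projectivization F (Fin 3 → F)),
      (∀ l : L, ∃ W : Submodule F (Fin 3 → F), Module.finrank F W = 2 ∧ ∀ p : P, p ∈ l ↔ (φ p).submodule ≤ W) ∧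
      (∀ W : Submodule F (Fin 3 → F), Module.finrank F W = 2 → ∃ l : L, ∀ p : P, p ∈ l ↔ (φ p).submodule ≤ W) := by
  classical
  have key : ∀ l : L, ∃ W : Submodule F (Fin 3 → F), Module.finrank F W = 2 ∧
      ∀ p : P, p ∈ l ↔ (e.trans (Equiv.ofBijective _ pt3_bij) p).submodule ≤ W := by
    intro l
    have hle : ∀ (f : (Fin 3 → F) →ₗ[F] F) (p : P),
        (e.trans (Equiv.ofBijective _ pt3_bij) p).submodule ≤ LinearMap.ker f ↔ f (vec3 (e p)) = 0 := by
      intro f p
      exact (mk_le_iff (vec3_ne _)).trans LinearMap.mem_ker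
    rcases h l with ⟨m, b, h⟩ | ⟨a, h⟩ | h
    · refine ⟨LinearMap.ker (lin3 (-b) (-m) 1), finrank_ker3 ?_, ?_⟩
      · intro h0
        have := LinearMap.congr_fun h0 ![0, 0, 1]
        simp [lin3_apply] at this
      · intro p
        rw [h, hle]
        rcases e p with ⟨x, y⟩ | m' | u
        · simp only [Sum.inl.injEq, Prod.mk.injEq, lin3_apply, vec3, Matrix.cons_val_zero, Matrix.cons_val_one,
            Matrix.cons_val, reduceCtorEq, or_false]
          constructor
          · rintro ⟨x', rfl, rfl⟩; ring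
          · intro h1; exact ⟨x, rfl, by linear_combination h1⟩
        · simp only [reduceCtorEq, exists_false, Sum.inr.injEq, Sum.inl.injEq, false_or, lin3_apply, vec3,
            Matrix.cons_val_zero, Matrix.cons_val_one, Matrix.cons_val]
          constructor
          · rintro rfl; ring
          · intro h1; linear_combination h1
        · simp [lin3_apply, vec3]
    · refine ⟨LinearMap.ker (lin3 (-a) 1 0), finrank_ker3 ?_, ?_⟩
      · intro h0
        have := LinearMap.congr_fun h0 ![0, 1, 0]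
        simp [lin3_apply] at this
      · intro p
        rw [h, hle]
        rcases e p with ⟨x, y⟩ | m' | u
        · simp only [Sum.inl.injEq, Prod.mk.injEq, lin3_apply, vec3, Matrix.cons_val_zero, Matrix.cons_val_one,
            Matrix.cons_val, reduceCtorEq, or_false]
          constructor
          · rintro ⟨y', rfl, rfl⟩; ring
          · intro h1; exact ⟨y, by linear_combination h1, rfl⟩
        · simp [lin3_apply, vec3]
        · simp [lin3_apply, vec3]
    · refine ⟨LinearMap.ker (lin3 1 0 0), finrank_ker3 ?_, ?_⟩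
      · intro h0
        have := LinearMap.congr_fun h0 ![1, 0, 0]
        simp [lin3_apply] at this
      · intro p
        rw [h, hle]
        rcases e p with ⟨x, y⟩ | m' | u
        · simp [lin3_apply, vec3]
        · simp [lin3_apply, vec3]
        · simp [lin3_apply, vec3]
  refine ⟨e.trans (Equiv.ofBijective _ pt3_bij), key, ?_⟩
  intro W hW
  -- two vectors of `W`
  have : FiniteDimensional F W := Module.finite_of_finrank_pos (by rw [hW]; norm_num)
  let bs := Module.finBasisOfFinrankEq F W hW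
  have hli : LinearIndependent F (fun i => ((bs i : W) : Fin 3 → F)) :=
    bs.linearIndependent.map' W.subtype (Submodule.ker_subtype W)
  have hne : ∀ i, ((bs i : W) : Fin 3 → F) ≠ 0 := fun i => hli.ne_zero i
  set φ := e.trans (Equiv.ofBijective _ pt3_bij) with hφ
  let p := φ.symm (Projectivization.mk F _ (hne 0))
  let q := φ.symm (Projectivization.mk F _ (hne 1))
  have hpq : p ≠ q := by
    intro hpq
    have h1 := φ.symm.injective hpq
    obtain ⟨a, ha⟩ := (Projectivization.mk_eq_mk_iff' F _ _ (hne 0) (hne 1)).1 h1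
    have h2 := linearIndependent_iff'.1 hli Finset.univ ![1, -a] (by
      rw [Fin.sum_univ_two]
      simp [← ha]) 0 (Finset.mem_univ _)
    simp at h2
  have hl := Configuration.HasLines.mkLine_ax (P := P) (L := L) hpq
  set l : L := Configuration.HasLines.mkLine hpq with hldef
  obtain ⟨W', hW', hl'⟩ := key l
  have hp' := (hl' p).1 hl.1
  have hq' := (hl' q).1 hl.2
  rw [Equiv.apply_symm_apply, mk_le_iff] at hp' hq'
  have hWW : W = W' := by
    have h1 : Submodule.span F (Set.range (fun i => ((bs i : W) : Fin 3 → F))) ≤ W' := by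
      rw [Submodule.span_le]
      rintro _ ⟨i, rfl⟩
      fin_cases i
      · exact hp'
      · exact hq'
    have h2 : Submodule.span F (Set.range (fun i => ((bs i : W) : Fin 3 → F))) ≤ W := by
      rw [Submodule.span_le]
      rintro _ ⟨i, rfl⟩
      exact (bs i).2
    have h3 : finrank F (Submodule.span F (Set.range (fun i => ((bs i : W) : Fin 3 → F)))) = 2 := by
      rw [finrank_span_eq_card hli, Fintype.card_fin]
    have h4 := Submodule.eq_of_le_of_finrank_eq h1 (h3.trans hW'.symm)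
    have h5 := Submodule.eq_of_le_of_finrank_eq h2 (h3.trans hW.symm)
    exact h5.symm.trans h4
  exact ⟨l, fun r => by rw [hWW]; exact hl' r⟩

end Cfsg.Agent.H985
end
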