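import Mathlib
set_option linter.all false

-- part: H985/PlBasic
section
/-!
# Collineation groups of finite projective planes: basic facts (S3732, helper985)

* `Act G P L` : the group `G` acts by collineations;
* `card_fix_eq` : a collineation fixes as many points as lines;
* `card_orbits_eq` : a collineation group has as many orbits on points as on lines.
-/

set_option autoImplicit false

namespace Cfsg.Agent.H985.Pl

open Configuration Configuration.ProjectivePlane

section Incidence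

variable {P L : Type*} [Membership P L] [ProjectivePlane P L]

theorem exL0 {p q : P} (h : p ≠ q) : ∃ l : L, p ∈ l ∧ q ∈ l :=
  ⟨HasLines.mkLine h, HasLines.mkLine_ax h⟩

theorem exP0 {l m : L} (h : l ≠ m) : ∃ p : P, p ∈ l ∧ p ∈ m :=
  ⟨HasPoints.mkPoint h, HasPoints.mkPoint_ax h⟩

theorem uL {p q : P} {l m : L} (h : p ≠ q) (h1 : p ∈ l) (h2 : q ∈ l) (h3 : p ∈ m) (h4 : q ∈ m) : l = m :=
  (Nondegenerate.eq_or_eq h1 h2 h3 h4).resolve_left h

theorem uP {p q : P} {l m : L} (h : l ≠ m) (h1 : p ∈ l) (h2 : p ∈ m) (h3 : q ∈ l) (h4 : q ∈ m) : p = q :=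
  (Nondegenerate.eq_or_eq h1 h3 h2 h4).resolve_right h

theorem exOffP (l : L) : ∃ p : P, p ∉ l := Nondegenerate.exists_point l

theorem exOffL (p : P) : ∃ l : L, p ∉ l := Nondegenerate.exists_line p

variable (L) in
/-- a line through two points (which may be equal) -/
theorem exL (p q : P) : ∃ l : L, p ∈ l ∧ q ∈ l := by
  by_cases h : p = q
  · subst h
    obtain ⟨l, hl⟩ := exOffL (L := L) p
    obtain ⟨r, hr⟩ := exOffP (P := P) l
    by_cases hrp : r = p
    · obtain ⟨a, b, c, l1, l2, l3, h⟩ := exists_config (P := P) (L := L)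
      by_cases hap : a = p
      · by_cases hbp : b = p
        · exact absurd (hap.trans hbp.symm) (fun hab => h.1 (hab ▸ h.2.2.2.1))
        · obtain ⟨m, hm⟩ := exL0 (L := L) hbp
          exact ⟨m, hm.2, hm.2⟩
      · obtain ⟨m, hm⟩ := exL0 (L := L) hap
        exact ⟨m, hm.2, hm.2⟩
    · obtain ⟨m, hm⟩ := exL0 (L := L) hrp
      exact ⟨m, hm.2, hm.2⟩
  · exact exL0 h

variable (P) in
theorem exP (l m : L) : ∃ p : P, p ∈ l ∧ p ∈ m := exL (P := Dual L) (Dual P) l m

variable [Finite P] [Finite L]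

theorem card_pts (l : L) : Nat.card {p : P // p ∈ l} = order P L + 1 := pointCount_eq P l

theorem card_lns (p : P) : Nat.card {l : L // p ∈ l} = order P L + 1 := lineCount_eq L p

variable (P L) in
theorem card_P : Nat.card P = order P L ^ 2 + order P L + 1 := by
  have := Fintype.ofFinite P
  rw [Nat.card_eq_fintype_card]
  exact card_points P L

variable (P L) in
theorem card_L : Nat.card L = order P L ^ 2 + order P L + 1 := by
  have := Fintype.ofFinite L
  rw [Nat.card_eq_fintype_card]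
  exact card_lines P L

/-- the number of points off a line -/
theorem card_off (l : L) : Nat.card {p : P // p ∉ l} = order P L ^ 2 := by
  classical
  have h1 : Nat.card {p : P // p ∈ l} + Nat.card {p : P // p ∉ l} = Nat.card P := by
    rw [← Nat.card_sum]
    exact Nat.card_congr (Equiv.sumCompl (fun p => p ∈ l))
  rw [card_pts, card_P P L] at h1
  omega

theorem card_offL (p : P) : Nat.card {l : L // p ∉ l} = order P L ^ 2 := by
  classical
  have h1 : Nat.card {l : L // p ∈ l} + Nat.card {l : L // p ∉ l} = Nat.card L := by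
    rw [← Nat.card_sum]
    exact Nat.card_congr (Equiv.sumCompl (fun l => p ∈ l))
  rw [card_lns, card_L P L] at h1
  omega

/-- points of a line different from a given point of it -/
theorem card_pts_ne {l : L} {q : P} (hq : q ∈ l) : Nat.card {p : P // p ∈ l ∧ p ≠ q} = order P L := by
  classical
  have h1 : Nat.card {p : P // p ∈ l ∧ p ≠ q} + 1 = Nat.card {p : P // p ∈ l} := by
    have h2 : Nat.card {p : {p : P // p ∈ l} // ¬ (p = ⟨q, hq⟩)} + 1 = Nat.card {p : P // p ∈ l} := by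
      have h3 : Nat.card {p : {p : P // p ∈ l} // p = ⟨q, hq⟩} +
          Nat.card {p : {p : P // p ∈ l} // ¬ (p = ⟨q, hq⟩)} = Nat.card {p : P // p ∈ l} := by
        rw [← Nat.card_sum]
        exact Nat.card_congr (Equiv.sumCompl _)
      have h4 : Nat.card {p : {p : P // p ∈ l} // p = ⟨q, hq⟩} = 1 := by
        rw [Nat.card_eq_one_iff_unique]
        exact ⟨⟨fun a b => Subtype.ext (a.2.trans b.2.symm)⟩, ⟨⟨_, rfl⟩⟩⟩
      omega
    rw [← h2]
    congr 1
    exact Nat.card_congr ⟨fun p => ⟨⟨p.1, p.2.1⟩, fun h => p.2.2 (congrArg Subtype.val h)⟩,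
      fun p => ⟨p.1.1, p.1.2, fun h => p.2 (Subtype.ext h)⟩, fun _ => rfl, fun _ => rfl⟩
  rw [card_pts] at h1
  omega

theorem card_lns_ne {l : L} {q : P} (hq : q ∈ l) : Nat.card {m : L // q ∈ m ∧ m ≠ l} = order P L := by
  have := card_pts_ne (P := Dual L) (L := Dual P) (l := q) (q := l) hq
  rw [Dual.order P L] at this
  exact this

/-- a line has a point different from two given points -/
theorem ex_third (l : L) (a b : P) : ∃ p : P, p ∈ l ∧ p ≠ a ∧ p ≠ b := by
  classical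
  by_contra h
  push Not at h
  have h1 : Nat.card {p : P // p ∈ l} ≤ 2 := by
    have := Fintype.ofFinite P
    rw [Nat.card_eq_fintype_card, Fintype.card_subtype]
    refine le_trans (Finset.card_le_card (t := {a, b}) ?_) (Finset.card_le_two)
    intro p hp
    simp only [Finset.mem_filter, Finset.mem_univ, true_and] at hp
    simp only [Finset.mem_insert, Finset.mem_singleton]
    by_cases hpa : p = a
    · exact Or.inl hpa
    · exact Or.inr (h p hp hpa)
  rw [card_pts] at h1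
  have := one_lt_order P L
  omega

theorem ex_thirdL (p : P) (a b : L) : ∃ l : L, p ∈ l ∧ l ≠ a ∧ l ≠ b :=
  ex_third (P := Dual L) (L := Dual P) p a b

end Incidence

/-- `G` acts by collineations -/
class Act (G P L : Type*) [Group G] [Membership P L] [MulAction G P] [MulAction G L] : Prop where
  mem' : ∀ (g : G) {p : P} {l : L}, p ∈ l → g • p ∈ g • l

section Action

variable {G P L : Type*} [Group G] [Membership P L] [MulAction G P] [MulAction G L] [Act G P L]

instance : MulAction G (Dual P) := inferInstanceAs (MulAction G P)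

instance : Act G (Dual L) (Dual P) := ⟨fun g _ _ h => Act.mem' (P := P) (L := L) g h⟩

theorem mem_smul (g : G) {p : P} {l : L} (h : p ∈ l) : g • p ∈ g • l := Act.mem' g h

theorem mem_smul_iff (g : G) {p : P} {l : L} : g • p ∈ g • l ↔ p ∈ l := by
  refine ⟨fun h => ?_, mem_smul g⟩
  have := mem_smul g⁻¹ h
  rwa [inv_smul_smul, inv_smul_smul] at this

theorem smul_mem_iff (g : G) {p : P} {l : L} : g • p ∈ l ↔ p ∈ g⁻¹ • l := by
  rw [← mem_smul_iff g (l := g⁻¹ • l), smul_inv_smul]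

theorem mem_smul_line_iff (g : G) {p : P} {l : L} : p ∈ g • l ↔ g⁻¹ • p ∈ l := by
  rw [smul_mem_iff, inv_inv]

variable [ProjectivePlane P L]

/-- two fixed points are joined by a fixed line -/
theorem fixL {g : G} {p q : P} {l : L} (h : p ≠ q) (h1 : g • p = p) (h2 : g • q = q) (h3 : p ∈ l) (h4 : q ∈ l) :
    g • l = l := by
  refine uL h ?_ ?_ h3 h4
  · have := mem_smul g h3; rwa [h1] at this
  · have := mem_smul g h4; rwa [h2] at this

theorem fixP {g : G} {p : P} {l m : L} (h : l ≠ m) (h1 : g • l = l) (h2 : g • m = m) (h3 : p ∈ l) (h4 : p ∈ m) :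
    g • p = p := by
  refine uP h ?_ ?_ h3 h4
  · have := mem_smul g h3; rwa [h1] at this
  · have := mem_smul g h4; rwa [h2] at this

/-- the line `p ∨ gp` is fixed if it contains a fixed point different from `p` -/
theorem fixL' {g : G} {p q : P} {l : L} (h : p ≠ q) (h1 : g • q = q) (h2 : p ∈ l) (h3 : q ∈ l) (h4 : g • p ∈ l) :
    g • l = l := by
  have h5 : g • p ≠ q := fun h6 => h (MulAction.injective g (h6.trans h1.symm))
  refine uL h5 (mem_smul g h2) ?_ h4 h3
  have := mem_smul g h3; rwa [h1] at this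

theorem triv_lines {g : G} (h : ∀ p : P, g • p = p) (l : L) : g • l = l := by
  by_cases hf : Finite P ∧ Finite L
  · obtain ⟨_, _⟩ := hf
    obtain ⟨p, hp, -, -⟩ := ex_third (P := P) l (Classical.choice ⟨(exOffP (P := P) l).choose⟩)
      (Classical.choice ⟨(exOffP (P := P) l).choose⟩)
    obtain ⟨q, hq, hqp, -⟩ := ex_third l p p
    exact fixL (Ne.symm hqp) (h p) (h q) hp hq
  · -- general case: every line has two points
    obtain ⟨p1, p2, p3, l1, l2, l3, h1, h2, h3, h4, h5, h6, h7, h8⟩ := exists_config (P := P) (L := L)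
    by_contra hne
    obtain ⟨x, hx1, hx2⟩ := exP0 (P := P) hne
    -- all points of `l` are equal to `x`
    have hall : ∀ y : P, y ∈ l → y = x := by
      intro y hy
      have hy' : y ∈ g • l := by have := mem_smul g hy; rwa [h y] at this
      exact uP hne hy' hy hx1 hx2
    -- every line meets `l` in `x`
    have hall2 : ∀ m : L, x ∈ m := by
      intro m
      by_cases hm : m = l
      · rw [hm]; exact hx2
      · obtain ⟨y, hy1, hy2⟩ := exP0 (P := P) hm
        rw [← hall y hy2]; exact hy1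
    obtain ⟨m, hm⟩ := exOffL (L := L) x
    exact hm (hall2 m)

theorem triv_points {g : G} (h : ∀ l : L, g • l = l) (p : P) : g • p = p :=
  triv_lines (P := Dual L) (L := Dual P) h p

variable [Finite P] [Finite L]

open Classical in
/-- a collineation fixes as many points as lines -/
theorem card_fix_eq (g : G) : Nat.card {p : P // g • p = p} = Nat.card {l : L // g • l = l} := by
  have := Fintype.ofFinite P
  have := Fintype.ofFinite L
  set n := order P L with hn
  have h1 : ∀ p : P, (Finset.univ.filter (fun l : L => p ∈ l ∧ g • p ∈ l)).card =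
      1 + (if g • p = p then n else 0) := by
    intro p
    split_ifs with hp
    · simp only [hp, and_self]
      rw [← Fintype.card_subtype, ← Nat.card_eq_fintype_card, card_lns, hn, add_comm]
    · rw [add_zero, Finset.card_eq_one]
      obtain ⟨l, hl⟩ := exL0 (L := L) (Ne.symm hp)
      refine ⟨l, Finset.ext fun m => ?_⟩
      simp only [Finset.mem_filter, Finset.mem_univ, true_and, Finset.mem_singleton]
      refine ⟨fun hm => uL (Ne.symm hp) hm.1 hm.2 hl.1 hl.2, fun hm => hm ▸ hl⟩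
  have h2 : ∀ l : L, (Finset.univ.filter (fun p : P => p ∈ l ∧ g • p ∈ l)).card =
      1 + (if g • l = l then n else 0) := by
    intro l
    split_ifs with hl
    · have h3 : ∀ p : P, (p ∈ l ∧ g • p ∈ l) ↔ p ∈ l := by
        intro p
        refine ⟨fun h => h.1, fun h => ⟨h, ?_⟩⟩
        have := mem_smul g h; rwa [hl] at this
      simp only [h3]
      rw [← Fintype.card_subtype, ← Nat.card_eq_fintype_card, card_pts, hn, add_comm]
    · rw [add_zero, Finset.card_eq_one]
      have hl' : l ≠ g⁻¹ • l := by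
        intro h
        apply hl
        conv_lhs => rw [h]
        rw [smul_inv_smul]
      obtain ⟨p, hp⟩ := exP0 (P := P) hl'
      refine ⟨p, Finset.ext fun q => ?_⟩
      simp only [Finset.mem_filter, Finset.mem_univ, true_and, Finset.mem_singleton]
      refine ⟨fun hq => uP hl' hq.1 ((smul_mem_iff g).1 hq.2) hp.1 hp.2, fun hq => ?_⟩
      rw [hq]; exact ⟨hp.1, (smul_mem_iff g).2 hp.2⟩
  have h3 := Finset.sum_card_bipartiteAbove_eq_sum_card_bipartiteBelow
    (s := (Finset.univ : Finset P)) (t := (Finset.univ : Finset L)) (fun p l => p ∈ l ∧ g • p ∈ l)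
  simp only [Finset.bipartiteAbove, Finset.bipartiteBelow, h1, h2, Finset.sum_add_distrib,
    Finset.sum_const, Finset.card_univ, smul_eq_mul, mul_one, ← Finset.sum_filter] at h3
  rw [Nat.card_eq_fintype_card, Nat.card_eq_fintype_card, Fintype.card_subtype, Fintype.card_subtype]
  have h4 := card_points_eq_card_lines P L
  have h5 := one_lt_order P L
  rw [h4] at h3
  have h6 := Nat.add_left_cancel h3
  exact Nat.eq_of_mul_eq_mul_right (by omega) h6

/-- as many orbits on points as on lines -/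
theorem card_orbits_eq [Finite G] :
    Nat.card (MulAction.orbitRel.Quotient G P) = Nat.card (MulAction.orbitRel.Quotient G L) := by
  classical
  have := Fintype.ofFinite P
  have := Fintype.ofFinite L
  have := Fintype.ofFinite G
  have h1 := MulAction.sum_card_fixedBy_eq_card_orbits_mul_card_group G P
  have h2 := MulAction.sum_card_fixedBy_eq_card_orbits_mul_card_group G L
  have h3 : ∀ g : G, Fintype.card (MulAction.fixedBy P g) = Fintype.card (MulAction.fixedBy L g) := by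
    intro g
    rw [← Nat.card_eq_fintype_card, ← Nat.card_eq_fintype_card]
    exact card_fix_eq (P := P) (L := L) g
  simp only [h3] at h1
  rw [h2] at h1
  rw [Nat.card_eq_fintype_card, Nat.card_eq_fintype_card]
  exact (Nat.eq_of_mul_eq_mul_right Fintype.card_pos h1).symm

end Action

end Cfsg.Agent.H985.Pl
end

-- part: H985/Andre
section
/-!
# André's counting lemma (S3732, helper985)

`andre` : a finite group `S` acts on `Ω`, non-identity elements fix at most one point, the fixed-point-free elements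
and `1` form a subgroup `E`. Then `E` is transitive on the points with a non-trivial stabiliser.
-/

set_option autoImplicit false

namespace Cfsg.Agent.H985

open MulAction

theorem andre_count {S Ω : Type*} [Group S] [Finite S] [MulAction S Ω]
    (h1 : ∀ g : S, g ≠ 1 → ∀ x y : Ω, g • x = x → g • y = y → x = y) (x : Ω) :
    Nat.card {g : S // g ≠ 1 ∧ ∃ z ∈ orbit S x, g • z = z} + Nat.card (orbit S x) = Nat.card S := by
  classical
  have := Fintype.ofFinite S
  have hfO : Finite (orbit S x) := Set.finite_coe_iff.2 (Set.finite_range _)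
  have := Fintype.ofFinite (orbit S x)
  have := Fintype.ofFinite (Quotient (orbitRel S (orbit S x)))
  have h2 := sum_card_fixedBy_eq_card_orbits_mul_card_group S (orbit S x)
  have h3 : Fintype.card (Quotient (orbitRel S (orbit S x))) = 1 := by
    have h4 : Subsingleton (Quotient (orbitRel S (orbit S x))) :=
      (pretransitive_iff_subsingleton_quotient S (orbit S x)).1 inferInstance
    have h5 : Nonempty (Quotient (orbitRel S (orbit S x))) := ⟨Quotient.mk _ ⟨x, mem_orbit_self x⟩⟩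
    exact Fintype.card_eq_one_iff_nonempty_unique.2 ⟨⟨⟨h5.some⟩, fun a => Subsingleton.elim _ _⟩⟩
  rw [h3, one_mul] at h2
  have h4 : ∀ g : S, Fintype.card (fixedBy (orbit S x) g) =
      (if g = 1 then Fintype.card (orbit S x) else 0) +
        (if g ≠ 1 ∧ ∃ z ∈ orbit S x, g • z = z then 1 else 0) := by
    intro g
    by_cases hg : g = 1
    · subst hg
      simp only [if_true, ne_eq, not_true_eq_false, false_and, if_false, add_zero]
      refine Fintype.card_congr ⟨fun a => a.1, fun a => ⟨a, by simp⟩, fun _ => rfl, fun _ => rfl⟩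
    · simp only [hg, if_false, zero_add, ne_eq, not_false_eq_true, true_and]
      split_ifs with hz
      · obtain ⟨z, hz, hgz⟩ := hz
        rw [Fintype.card_eq_one_iff]
        refine ⟨⟨⟨z, hz⟩, by rw [mem_fixedBy]; exact Subtype.ext hgz⟩, ?_⟩
        rintro ⟨⟨w, hw⟩, hgw⟩
        rw [mem_fixedBy] at hgw
        exact Subtype.ext (Subtype.ext (h1 g hg w z (congrArg Subtype.val hgw) hgz))
      · rw [Fintype.card_eq_zero_iff]
        refine ⟨?_⟩
        rintro ⟨⟨w, hw⟩, hgw⟩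
        rw [mem_fixedBy] at hgw
        exact hz ⟨w, hw, congrArg Subtype.val hgw⟩
  simp only [h4, Finset.sum_add_distrib] at h2
  rw [Finset.sum_ite_eq' Finset.univ (1 : S) (fun _ => Fintype.card (orbit S x)), if_pos (Finset.mem_univ _),
    Finset.sum_boole] at h2
  rw [Nat.card_eq_fintype_card, Nat.card_eq_fintype_card, Nat.card_eq_fintype_card, Fintype.card_subtype]
  simp only [Nat.cast_id] at h2
  omega

theorem card_orbit_mul {S Ω : Type*} [Group S] [MulAction S Ω] (x : Ω) :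
    Nat.card (orbit S x) * Nat.card (stabilizer S x) = Nat.card S := by
  rw [Nat.card_coe_set_eq, ← index_stabilizer, Subgroup.index_mul_card]

theorem two_mul_card_orbit_le {S Ω : Type*} [Group S] [Finite S] [MulAction S Ω] {x : Ω}
    (hx : ∃ g : S, g ≠ 1 ∧ g • x = x) : 2 * Nat.card (orbit S x) ≤ Nat.card S := by
  have h1 := card_orbit_mul (S := S) x
  have h2 : 2 ≤ Nat.card (stabilizer S x) := by
    obtain ⟨g, hg, hgx⟩ := hx
    have : Nontrivial (stabilizer S x) := ⟨⟨g, hgx⟩, 1, fun h => hg (congrArg Subtype.val h)⟩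
    exact Finite.one_lt_card
  rw [← h1, mul_comm]
  exact Nat.mul_le_mul_left _ h2

theorem andre_orbit {S Ω : Type*} [Group S] [Finite S] [MulAction S Ω]
    (h1 : ∀ g : S, g ≠ 1 → ∀ x y : Ω, g • x = x → g • y = y → x = y) {x y : Ω}
    (hx : ∃ g : S, g ≠ 1 ∧ g • x = x) (hy : ∃ g : S, g ≠ 1 ∧ g • y = y) : y ∈ orbit S x := by
  classical
  have := Fintype.ofFinite S
  by_contra hn
  have c1 := andre_count h1 x
  have c2 := andre_count h1 y
  have d1 := two_mul_card_orbit_le hx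
  have d2 := two_mul_card_orbit_le hy
  have h2 : Nat.card {g : S // g ≠ 1 ∧ ∃ z ∈ orbit S x, g • z = z} +
      Nat.card {g : S // g ≠ 1 ∧ ∃ z ∈ orbit S y, g • z = z} + 1 ≤ Nat.card S := by
    simp only [Nat.card_eq_fintype_card, Fintype.card_subtype]
    rw [← Finset.card_union_of_disjoint]
    · have h3 : (Finset.univ.filter (fun g : S => g ≠ 1 ∧ ∃ z ∈ orbit S x, g • z = z) ∪
          Finset.univ.filter (fun g : S => g ≠ 1 ∧ ∃ z ∈ orbit S y, g • z = z)) ⊆ Finset.univ.erase (1 : S) := by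
        intro g hg
        simp only [Finset.mem_union, Finset.mem_filter, Finset.mem_univ, true_and] at hg
        rw [Finset.mem_erase]
        rcases hg with hg | hg
        · exact ⟨hg.1, Finset.mem_univ _⟩
        · exact ⟨hg.1, Finset.mem_univ _⟩
      have h4 := Finset.card_le_card h3
      rw [Finset.card_erase_of_mem (Finset.mem_univ _), Finset.card_univ] at h4
      have h5 : 0 < Fintype.card S := Fintype.card_pos
      omega
    · rw [Finset.disjoint_filter]
      rintro g - ⟨hg, z, hz, hgz⟩ ⟨-, w, hw, hgw⟩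
      have := h1 g hg z w hgz hgw
      subst this
      apply hn
      rw [← orbit_eq_iff] at hz hw ⊢
      rw [← hz, hw]
  omega

theorem andre {S Ω : Type*} [Group S] [Finite S] [MulAction S Ω]
    (h1 : ∀ g : S, g ≠ 1 → ∀ x y : Ω, g • x = x → g • y = y → x = y) (E : Subgroup S)
    (hE : ∀ g : S, g ∈ E ↔ (g = 1 ∨ ∀ x : Ω, g • x ≠ x)) {x y : Ω}
    (hx : ∃ g : S, g ≠ 1 ∧ g • x = x) (hy : ∃ g : S, g ≠ 1 ∧ g • y = y) : ∃ e ∈ E, e • x = y := by
  classical
  have := Fintype.ofFinite S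
  have c1 := andre_count h1 x
  -- `|E| = |orbit|`
  have h2 : Nat.card E = Nat.card (orbit S x) := by
    have h3 : Nat.card E + Nat.card {g : S // g ≠ 1 ∧ ∃ z ∈ orbit S x, g • z = z} = Nat.card S := by
      have h4 : ∀ g : S, g ∈ E ↔ ¬ (g ≠ 1 ∧ ∃ z ∈ orbit S x, g • z = z) := by
        intro g
        rw [hE]
        constructor
        · rintro (h | h) ⟨hg, z, hz, hgz⟩
          · exact hg h
          · exact h z hgz
        · intro h
          by_cases hg : g = 1
          · exact Or.inl hg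
          · right
            intro z hz
            exact h ⟨hg, z, andre_orbit h1 hx ⟨g, hg, hz⟩, hz⟩
      have h5 : Nat.card E = Nat.card {g : S // ¬ (g ≠ 1 ∧ ∃ z ∈ orbit S x, g • z = z)} :=
        Nat.card_congr (Equiv.subtypeEquivRight h4)
      rw [h5, add_comm, ← Nat.card_sum]
      exact Nat.card_congr (Equiv.sumCompl _)
    omega
  have hfO : Finite (orbit S x) := Set.finite_coe_iff.2 (Set.finite_range _)
  have hinj : Function.Injective (fun e : E => (⟨e.1 • x, mem_orbit x e.1⟩ : orbit S x)) := by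
    intro e f hef
    have h3 : e.1 • x = f.1 • x := congrArg Subtype.val hef
    have h4 : (f⁻¹ * e).1 • x = x := by
      change (f.1⁻¹ * e.1) • x = x
      rw [mul_smul, h3, inv_smul_smul]
    rcases (hE _).1 (f⁻¹ * e).2 with h5 | h5
    · have h6 : f⁻¹ * e = 1 := Subtype.ext h5
      exact (inv_mul_eq_one.1 h6).symm
    · exact absurd h4 (h5 x)
  have hsurj := (Function.Injective.bijective_of_nat_card_le hinj (le_of_eq h2.symm)).2
  obtain ⟨e, he⟩ := hsurj ⟨y, andre_orbit h1 hx hy⟩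
  exact ⟨e.1, e.2, congrArg Subtype.val he⟩

end Cfsg.Agent.H985
end

-- part: H985/Persp
section
/-!
# Perspectivities of finite projective planes (S3732, helper985)

`Ax g a` : `g` fixes all points of the line `a`; `Ce g z` : `g` fixes all lines through `z`.
-/

set_option autoImplicit false

namespace Cfsg.Agent.H985.Pl

open Configuration Configuration.ProjectivePlane

variable {G P L : Type*} [Group G] [Membership P L] [MulAction G P] [MulAction G L]

/-- `a` is an axis of `g` -/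
def Ax (g : G) (a : L) (P : Type*) [Membership P L] [MulAction G P] : Prop := ∀ p : P, p ∈ a → g • p = p

/-- `z` is a centre of `g` -/
def Ce (g : G) (z : P) (L : Type*) [Membership P L] [MulAction G L] : Prop := ∀ l : L, z ∈ l → g • l = l

variable [Act G P L] [ProjectivePlane P L]

theorem Ax.fix [Finite P] [Finite L] {g : G} {a : L} (h : Ax g a P) : g • a = a := by
  obtain ⟨p, hp, -, -⟩ := ex_third (P := P) a (exOffP (P := P) a).choose (exOffP (P := P) a).choose
  obtain ⟨q, hq, hqp, -⟩ := ex_third a p p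
  exact fixL (Ne.symm hqp) (h p hp) (h q hq) hp hq

theorem Ce.fix [Finite P] [Finite L] {g : G} {z : P} (h : Ce g z L) : g • z = z :=
  Ax.fix (P := Dual L) (L := Dual P) (g := g) (a := z) h

omit [Group G] [MulAction G P] [MulAction G L] [Act G P L] in
/-- there is a point off two lines -/
theorem exOff2 [Finite P] [Finite L] (l m : L) : ∃ p : P, p ∉ l ∧ p ∉ m := by
  by_cases h : l = m
  · subst h
    obtain ⟨p, hp⟩ := exOffP (P := P) l
    exact ⟨p, hp, hp⟩
  · obtain ⟨x, hx1, hx2⟩ := exP0 (P := P) h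
    obtain ⟨p, hp, hpx, -⟩ := ex_third l x x
    obtain ⟨q, hq, hqx, -⟩ := ex_third m x x
    have hpm : p ∉ m := fun h1 => hpx (uP h hp h1 hx1 hx2)
    have hql : q ∉ l := fun h1 => hqx (uP h h1 hq hx1 hx2)
    have hpq : p ≠ q := fun h1 => hpm (h1 ▸ hq)
    obtain ⟨k, hk1, hk2⟩ := exL0 (L := L) hpq
    obtain ⟨r, hr, hrp, hrq⟩ := ex_third k p q
    refine ⟨r, fun h1 => ?_, fun h1 => ?_⟩
    · have := uL hrp h1 hp hr hk1
      exact hql (this ▸ hk2)
    · have := uL hrq h1 hq hr hk2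
      exact hpm (this ▸ hk1)

omit [Group G] [MulAction G P] [MulAction G L] [Act G P L] in
theorem exOffL2 [Finite P] [Finite L] (p q : P) : ∃ l : L, p ∉ l ∧ q ∉ l :=
  exOff2 (P := Dual L) (L := Dual P) p q

/-- an axis and a fixed point off it give a centre -/
theorem Ax.ce {g : G} {a : L} (h : Ax g a P) {c : P} (hc : g • c = c) (hca : c ∉ a) : Ce g c L := by
  intro l hl
  have hla : l ≠ a := fun h1 => hca (h1 ▸ hl)
  obtain ⟨x, hx1, hx2⟩ := exP0 (P := P) hla
  have hxc : x ≠ c := fun h1 => hca (h1 ▸ hx2)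
  exact fixL hxc (h x hx2) hc hx1 hl

theorem Ce.ax {g : G} {z : P} (h : Ce g z L) {m : L} (hm : g • m = m) (hmz : z ∉ m) : Ax g m P :=
  Ax.ce (P := Dual L) (L := Dual P) (g := g) (a := z) h hm hmz

variable [Finite P] [Finite L]

/-- two fixed points off the axis: trivial -/
theorem Ax.triv {g : G} {a : L} (h : Ax g a P) {c d : P} (hc : g • c = c) (hca : c ∉ a)
    (hd : g • d = d) (hda : d ∉ a) (hcd : c ≠ d) (p : P) : g • p = p := by
  have key : ∀ c d : P, g • c = c → c ∉ a → g • d = d → d ∉ a → c ≠ d → ∀ f : L, c ∈ f → d ∈ f →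
      ∀ p, p ∉ f → g • p = p := by
    intro c d hc hca hd hda hcd f hcf hdf p hp
    have h1 := h.ce hc hca
    have h2 := h.ce hd hda
    obtain ⟨l, hl1, hl2⟩ := exL L p c
    obtain ⟨m, hm1, hm2⟩ := exL L p d
    have hlm : l ≠ m := by
      rintro rfl
      exact hp (uL hcd hl2 hm2 hcf hdf ▸ hl1)
    exact fixP hlm (h1 l hl2) (h2 m hm2) hl1 hm1
  obtain ⟨f, hcf, hdf⟩ := exL0 (L := L) hcd
  by_cases hpf : p ∈ f
  · obtain ⟨e, he1, he2⟩ := exOff2 (P := P) a f
    have hge := key c d hc hca hd hda hcd f hcf hdf e he2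
    by_cases hpc : p = c
    · rw [hpc, hc]
    · have hce : c ≠ e := fun h1 => he2 (h1 ▸ hcf)
      obtain ⟨k, hk1, hk2⟩ := exL0 (L := L) hce
      refine key c e hc hca hge he1 hce k hk1 hk2 p fun hpk => ?_
      have := uL hpc hpk hk1 hpf hcf
      exact he2 (this ▸ hk2)
  · exact key c d hc hca hd hda hcd f hcf hdf p hpf

/-- a collineation with an axis has a centre -/
theorem Ax.exCe {g : G} {a : L} (h : Ax g a P) : ∃ z : P, Ce g z L := by
  by_cases h1 : ∃ c : P, c ∉ a ∧ g • c = c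
  · obtain ⟨c, hca, hc⟩ := h1
    exact ⟨c, h.ce hc hca⟩
  · push Not at h1
    -- the lines `p ∨ gp`
    have h2 : ∀ p : P, p ∉ a → ∃ f : L, p ∈ f ∧ g • p ∈ f ∧ g • f = f := by
      intro p hp
      obtain ⟨f, hf1, hf2⟩ := exL L p (g • p)
      have hfa : f ≠ a := fun h3 => hp (h3 ▸ hf1)
      obtain ⟨x, hx1, hx2⟩ := exP0 (P := P) hfa
      have hxp : p ≠ x := fun h3 => hp (h3 ▸ hx2)
      exact ⟨f, hf1, hf2, fixL' hxp (h x hx2) hf1 hx1 hf2⟩
    obtain ⟨p, hp⟩ := exOffP (P := P) a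
    obtain ⟨f, hf1, hf2, hf3⟩ := h2 p hp
    have hfa : f ≠ a := fun h3 => hp (h3 ▸ hf1)
    obtain ⟨z, hz1, hz2⟩ := exP0 (P := P) hfa
    refine ⟨z, fun l hl => ?_⟩
    by_cases hla : l = a
    · rw [hla]; exact h.fix
    · -- a point of `l` off `a`
      obtain ⟨q, hq, hqz, -⟩ := ex_third l z z
      have hqa : q ∉ a := fun h3 => hla (uL hqz hq hl h3 hz2)
      obtain ⟨m, hm1, hm2, hm3⟩ := h2 q hqa
      by_cases hmf : m = f
      · subst hmf
        rw [uL hqz hq hl hm1 hz1]; exact hm3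
      · obtain ⟨x, hx1, hx2⟩ := exP0 (P := P) hmf
        have hx3 := fixP hmf hm3 hf3 hx1 hx2
        have hxa : x ∈ a := by
          by_contra h4
          exact h1 x h4 hx3
        have hxz : x = z := uP hfa hx2 hxa hz1 hz2
        rw [uL hqz hq hl hm1 (hxz ▸ hx1)]; exact hm3

theorem Ce.exAx {g : G} {z : P} (h : Ce g z L) : ∃ a : L, Ax g a P :=
  Ax.exCe (P := Dual L) (L := Dual P) (g := g) (a := z) h

/-- fixed points of a non-trivial perspectivity -/
theorem fixpt {g : G} {a : L} {z : P} (ha : Ax g a P) (hz : Ce g z L) (hg : ¬ ∀ p : P, g • p = p) {p : P}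
    (hp : g • p = p) : p ∈ a ∨ p = z := by
  by_contra hn
  push Not at hn
  obtain ⟨hpa, hpz⟩ := hn
  by_cases hza : z ∈ a
  · have hcp := ha.ce hp hpa
    -- a point off the line `zp` and off `a`
    obtain ⟨f, hf1, hf2⟩ := exL0 (L := L) hpz
    obtain ⟨q, hq1, hq2⟩ := exOff2 (P := P) a f
    obtain ⟨l, hl1, hl2⟩ := exL L q z
    obtain ⟨m, hm1, hm2⟩ := exL L q p
    have hlm : l ≠ m := by
      rintro rfl
      exact hq2 (uL hpz hm2 hl2 hf1 hf2 ▸ hl1)
    have hgq := fixP hlm (hz l hl2) (hcp m hm2) hl1 hm1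
    exact hg (ha.triv hp hpa hgq hq1 (fun h => hq2 (h ▸ hf1)))
  · exact hg (ha.triv hp hpa hz.fix hza hpz)

theorem fixln {g : G} {a : L} {z : P} (ha : Ax g a P) (hz : Ce g z L) (hg : ¬ ∀ p : P, g • p = p) {l : L}
    (hl : g • l = l) : z ∈ l ∨ l = a :=
  fixpt (P := Dual L) (L := Dual P) (g := g) (a := z) (z := a) hz ha
    (fun h => hg (triv_points (L := L) h)) hl

/-- uniqueness of the axis -/
theorem ax_unique {g : G} {a b : L} (ha : Ax g a P) (hb : Ax g b P) (hg : ¬ ∀ p : P, g • p = p) : a = b := by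
  by_contra hab
  obtain ⟨x, hx1, hx2⟩ := exP0 (P := P) hab
  obtain ⟨p, hp, hpx, -⟩ := ex_third b x x
  obtain ⟨q, hq, hqx, hqp⟩ := ex_third b x p
  have hpa : p ∉ a := fun h => hpx (uP hab h hp hx1 hx2)
  have hqa : q ∉ a := fun h => hqx (uP hab h hq hx1 hx2)
  exact hg (ha.triv (hb p hp) hpa (hb q hq) hqa (Ne.symm hqp))

theorem ce_unique {g : G} {y z : P} (hy : Ce g y L) (hz : Ce g z L) (hg : ¬ ∀ p : P, g • p = p) : y = z :=
  ax_unique (P := Dual L) (L := Dual P) (g := g) hy hz (fun h => hg (triv_points (L := L) h))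

/-! ### products and conjugates -/

omit [Act G P L] [ProjectivePlane P L] [Finite P] [Finite L] in
theorem Ax.mul {g h : G} {a : L} (hg : Ax g a P) (hh : Ax h a P) : Ax (g * h) a P := by
  intro p hp
  rw [mul_smul, hh p hp, hg p hp]

omit [Act G P L] [ProjectivePlane P L] [Finite P] [Finite L] in
theorem Ax.inv {g : G} {a : L} (hg : Ax g a P) : Ax g⁻¹ a P := by
  intro p hp
  rw [inv_smul_eq_iff, hg p hp]

omit [Act G P L] [ProjectivePlane P L] [Finite P] [Finite L] in
theorem Ax.one {a : L} : Ax (1 : G) a P := fun p _ => one_smul _ p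

omit [Act G P L] [ProjectivePlane P L] [Finite P] [Finite L] in
theorem Ax.pow {g : G} {a : L} (hg : Ax g a P) (n : ℕ) : Ax (g ^ n) a P := by
  induction n with
  | zero => rw [pow_zero]; exact Ax.one
  | succ n ih => rw [pow_succ]; exact ih.mul hg

omit [ProjectivePlane P L] [Finite P] [Finite L] in
theorem Ax.conj {g : G} {a : L} (hg : Ax g a P) (h : G) : Ax (h * g * h⁻¹) (h • a) P := by
  intro p hp
  rw [mem_smul_line_iff] at hp
  rw [mul_smul, mul_smul, hg _ hp, smul_inv_smul]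

omit [Act G P L] [ProjectivePlane P L] [Finite P] [Finite L] in
theorem Ce.mul {g h : G} {z : P} (hg : Ce g z L) (hh : Ce h z L) : Ce (g * h) z L := by
  intro p hp
  rw [mul_smul, hh p hp, hg p hp]

omit [Act G P L] [ProjectivePlane P L] [Finite P] [Finite L] in
theorem Ce.inv {g : G} {z : P} (hg : Ce g z L) : Ce g⁻¹ z L := by
  intro p hp
  rw [inv_smul_eq_iff, hg p hp]

omit [Act G P L] [ProjectivePlane P L] [Finite P] [Finite L] in
theorem Ce.one {z : P} : Ce (1 : G) z L := fun p _ => one_smul _ p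

omit [Act G P L] [ProjectivePlane P L] [Finite P] [Finite L] in
theorem Ce.pow {g : G} {z : P} (hg : Ce g z L) (n : ℕ) : Ce (g ^ n) z L := by
  induction n with
  | zero => rw [pow_zero]; exact Ce.one
  | succ n ih => rw [pow_succ]; exact ih.mul hg

omit [ProjectivePlane P L] [Finite P] [Finite L] in
theorem Ce.conj {g : G} {z : P} (hg : Ce g z L) (h : G) : Ce (h * g * h⁻¹) (h • z) L := by
  intro l hl
  rw [smul_mem_iff] at hl
  rw [mul_smul, mul_smul, hg _ hl, smul_inv_smul]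

end Cfsg.Agent.H985.Pl
end

-- part: H985/Invol
section
/-!
# Involutions of finite projective planes (S3732, helper985)

`invol` : an involutory collineation fixes a quadrangle or all points of a line.
-/

set_option autoImplicit false
set_option linter.unusedSectionVars false

namespace Cfsg.Agent.H985.Pl

open Configuration Configuration.ProjectivePlane

/-- no three of the four points are collinear -/
def Quad {P : Type*} (L : Type*) [Membership P L] (a b c d : P) : Prop :=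
  (∀ l : L, a ∈ l → b ∈ l → c ∉ l) ∧ (∀ l : L, a ∈ l → b ∈ l → d ∉ l) ∧ (∀ l : L, a ∈ l → c ∈ l → d ∉ l) ∧
    (∀ l : L, b ∈ l → c ∈ l → d ∉ l)

section

variable {P L : Type*} [Membership P L] [ProjectivePlane P L]

theorem Quad.ne {a b c d : P} (h : Quad L a b c d) :
    a ≠ b ∧ a ≠ c ∧ a ≠ d ∧ b ≠ c ∧ b ≠ d ∧ c ≠ d := by
  obtain ⟨h1, h2, h3, h4⟩ := h
  refine ⟨?_, ?_, ?_, ?_, ?_, ?_⟩
  · rintro rfl
    obtain ⟨l, hl1, hl2⟩ := exL L a c
    exact h1 l hl1 hl1 hl2
  · rintro rfl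
    obtain ⟨l, hl1, hl2⟩ := exL L a b
    exact h1 l hl1 hl2 hl1
  · rintro rfl
    obtain ⟨l, hl1, hl2⟩ := exL L a b
    exact h2 l hl1 hl2 hl1
  · rintro rfl
    obtain ⟨l, hl1, hl2⟩ := exL L a b
    exact h1 l hl1 hl2 hl2
  · rintro rfl
    obtain ⟨l, hl1, hl2⟩ := exL L a b
    exact h2 l hl1 hl2 hl2
  · rintro rfl
    obtain ⟨l, hl1, hl2⟩ := exL L a c
    exact h3 l hl1 hl2 hl2

end

/-- there is a quadrangle -/
theorem ex_quad (P L : Type*) [Membership P L] [ProjectivePlane P L] [Finite P] [Finite L] :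
    ∃ a b c d : P, Quad L a b c d := by
  obtain ⟨a, -⟩ := exOffP (P := P) (L := L) (Classical.choice ⟨(exists_config (P := P) (L := L)).choose_spec.choose_spec.choose_spec.choose⟩)
  obtain ⟨l, hl⟩ := exOffL (L := L) a
  obtain ⟨b, hb, -⟩ := ex_third (P := P) l a a
  obtain ⟨c, hc, hcb, -⟩ := ex_third (P := P) l b b
  have hab : a ≠ b := fun h => hl (h ▸ hb)
  have hac : a ≠ c := fun h => hl (h ▸ hc)
  obtain ⟨m, hm1, hm2⟩ := exL0 (L := L) hab
  obtain ⟨k, hk1, hk2⟩ := exL0 (L := L) hac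
  have hmk : m ≠ k := by
    intro h
    have : m = l := uL (Ne.symm hcb) hm2 (h ▸ hk2) hb hc
    exact hl (this ▸ hm1)
  obtain ⟨d, hd, hda, hdc⟩ := ex_third (P := P) k a c
  obtain ⟨e, he, hea, heb⟩ := ex_third (P := P) m a b
  -- the quadrangle `b, c, d, e`
  have hml : m ≠ l := fun h => hl (h ▸ hm1)
  have hkl : k ≠ l := fun h => hl (h ▸ hk1)
  have hbk : b ∉ k := fun h => hkl (uL (Ne.symm hcb) h hk2 hb hc)
  have hcm : c ∉ m := fun h => hml (uL (Ne.symm hcb) hm2 h hb hc)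
  have hdm : d ∉ m := fun h => hmk (uL hda h hm1 hd hk1)
  have hek : e ∉ k := fun h => hmk (uL hea he hm1 h hk1)
  have hdl : d ∉ l := fun h => hkl (uL hdc hd hk2 h hc)
  have hel : e ∉ l := fun h => hml (uL heb he hm2 h hb)
  refine ⟨b, c, d, e, ?_, ?_, ?_, ?_⟩
  · intro x h1 h2 h3
    exact hdl ((uL (Ne.symm hcb) h1 h2 hb hc) ▸ h3)
  · intro x h1 h2 h3
    exact hel ((uL (Ne.symm hcb) h1 h2 hb hc) ▸ h3)
  · intro x h1 h2 h3
    exact hdm ((uL heb h3 h1 he hm2) ▸ h2)
  · intro x h1 h2 h3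
    exact hek ((uL hdc h2 h1 hd hk2) ▸ h3)

variable {G P L : Type*} [Group G] [Membership P L] [MulAction G P] [MulAction G L]
variable [Act G P L] [ProjectivePlane P L]

/-- the line `p ∨ gp` is fixed by an involution -/
theorem inv_line {g : G} {p : P} {l : L} (h2 : g • g • p = p) (hp : g • p ≠ p) (h1 : p ∈ l) (h3 : g • p ∈ l) :
    g • l = l := by
  refine uL hp (mem_smul g h1) ?_ h3 h1
  have := mem_smul g h3
  rwa [h2] at this

theorem inv_point {g : G} {p : P} {l : L} (h2 : g • g • l = l) (hl : g • l ≠ l) (h1 : p ∈ l) (h3 : p ∈ g • l) :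
    g • p = p :=
  inv_line (P := Dual L) (L := Dual P) (p := l) (l := p) h2 hl h1 h3

theorem invol_lines {g : G} (h2 : ∀ p : P, g • g • p = p) (l : L) : g • g • l = l := by
  rw [← mul_smul]
  exact triv_lines (P := P) (fun p => by rw [mul_smul, h2]) l

variable [Finite P] [Finite L]

/-- the number of fixed points off a fixed line with a non-fixed point -/
theorem card_fix_off {g : G} (h2 : ∀ p : P, g • g • p = p) {x : P} {f : L} (hx : g • x ≠ x) (hxf : x ∈ f)
    (hf : g • f = f) : Nat.card {y : P // g • y = y ∧ y ∉ f} = order P L := by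
  rw [← card_lns_ne (P := P) (L := L) hxf]
  have hm : ∀ m : L, x ∈ m → m ≠ f → g • m ≠ m := fun m h1 h3 h4 => hx (fixP h3 h4 hf h1 hxf)
  have hy : ∀ m : L, x ∈ m → m ≠ f → ∃ y : P, (y ∈ m ∧ y ∈ g • m) ∧ g • y = y ∧ y ∉ f := by
    intro m h1 h3
    obtain ⟨y, hy1, hy2⟩ := exP0 (P := P) (hm m h1 h3)
    have hgy : g • y = y := inv_point (invol_lines h2 m) (hm m h1 h3) hy2 hy1
    refine ⟨y, ⟨hy2, hy1⟩, hgy, fun h4 => ?_⟩
    have : y = x := uP h3 hy2 h4 h1 hxf
    exact hx (this ▸ hgy)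
  choose φ hφ1 hφ2 using hy
  symm
  refine Nat.card_congr (Equiv.ofBijective (fun m => ⟨φ m.1 m.2.1 m.2.2, hφ2 m.1 m.2.1 m.2.2⟩) ⟨?_, ?_⟩)
  · rintro ⟨m, m1, m2⟩ ⟨k, k1, k2⟩ h
    have h' : φ m m1 m2 = φ k k1 k2 := congrArg Subtype.val h
    apply Subtype.ext
    change m = k
    have hne : φ m m1 m2 ≠ x := fun h3 => hx (h3 ▸ (hφ2 m m1 m2).1)
    exact uL hne (hφ1 m m1 m2).1 m1 (h' ▸ (hφ1 k k1 k2).1) k1
  · rintro ⟨y, y1, y2⟩
    have hxy : x ≠ y := fun h3 => hx (h3 ▸ y1)
    obtain ⟨m, m1, m2⟩ := exL0 (L := L) hxy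
    have hmf : m ≠ f := fun h3 => y2 (h3 ▸ m2)
    refine ⟨⟨m, m1, hmf⟩, Subtype.ext ?_⟩
    change φ m m1 hmf = y
    have h4 := hφ1 m m1 hmf
    have h5 : y ∈ g • m := by have := mem_smul g m2; rwa [y1] at this
    exact uP (hm m m1 hmf) h4.2 h4.1 h5 m2

/-- an involution fixes all points of a line or a quadrangle -/
theorem invol {g : G} (h2 : ∀ p : P, g • g • p = p) (hnt : ¬ ∀ p : P, g • p = p) :
    (∃ a : L, Ax g a P) ∨ ∃ a b c d : P, Quad L a b c d ∧ g • a = a ∧ g • b = b ∧ g • c = c ∧ g • d = d := by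
  classical
  by_cases hax : ∃ a : L, Ax g a P
  · exact Or.inl hax
  right
  push Not at hnt
  obtain ⟨x, hx⟩ := hnt
  obtain ⟨f, hxf, hgf⟩ := exL L x (g • x)
  have hf := inv_line (h2 x) hx hxf hgf
  have hY := card_fix_off (L := L) h2 hx hxf hf
  have h1n := one_lt_order P L
  -- two fixed points off `f`
  have : Nontrivial {y : P // g • y = y ∧ y ∉ f} := Finite.one_lt_card_iff_nontrivial.1 (by rw [hY]; exact h1n)
  obtain ⟨⟨y1, a1, a2⟩, ⟨y2, b1, b2⟩, hne⟩ := exists_pair_ne {y : P // g • y = y ∧ y ∉ f}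
  have h12 : y1 ≠ y2 := fun h => hne (Subtype.ext h)
  obtain ⟨h, hh1, hh2⟩ := exL0 (L := L) h12
  have hgh : g • h = h := fixL h12 a1 b1 hh1 hh2
  have hhf : h ≠ f := fun h3 => a2 (h3 ▸ hh1)
  obtain ⟨r, hr1, hr2⟩ := exP0 (P := P) hhf
  have hgr : g • r = r := fixP hhf hgh hf hr1 hr2
  -- a fixed point off `f` and `h`
  have hex : ∃ y3 : P, g • y3 = y3 ∧ y3 ∉ f ∧ y3 ∉ h := by
    by_contra hno
    push Not at hno
    apply hax
    refine ⟨h, fun p hp => ?_⟩
    by_cases hpr : p = r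
    · rw [hpr, hgr]
    -- compare the cardinalities
    have hcard := card_pts_ne (P := P) hr1
    have : Finite {p : P // p ∈ h ∧ p ≠ r} := inferInstance
    have hinj : Function.Injective (fun y : {y : P // g • y = y ∧ y ∉ f} =>
        (⟨y.1, hno y.1 y.2.1 y.2.2, fun h3 => y.2.2 (h3 ▸ hr2)⟩ : {p : P // p ∈ h ∧ p ≠ r})) := by
      intro y z hyz
      exact Subtype.ext (congrArg (fun t : {p : P // p ∈ h ∧ p ≠ r} => t.1) hyz)
    have hsur := (Function.Injective.bijective_of_nat_card_le hinj (by rw [hcard, hY])).2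
    obtain ⟨y, hy⟩ := hsur ⟨p, hp, hpr⟩
    have : y.1 = p := congrArg Subtype.val hy
    rw [← this]; exact y.2.1
  obtain ⟨y3, c1, c2, c3⟩ := hex
  have h13 : y1 ≠ y3 := fun h3 => c3 (h3 ▸ hh1)
  have h23 : y2 ≠ y3 := fun h3 => c3 (h3 ▸ hh2)
  obtain ⟨k, hk1, hk3⟩ := exL0 (L := L) h13
  obtain ⟨m, hm2, hm3⟩ := exL0 (L := L) h23
  have hkf : k ≠ f := fun h3 => a2 (h3 ▸ hk1)
  have hmf : m ≠ f := fun h3 => b2 (h3 ▸ hm2)
  obtain ⟨s, hs1, hs2⟩ := exP0 (P := P) hkf
  obtain ⟨t, ht1, ht2⟩ := exP0 (P := P) hmf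
  have hgk : g • k = k := fixL h13 a1 c1 hk1 hk3
  have hgm : g • m = m := fixL h23 b1 c1 hm2 hm3
  have hkh : k ≠ h := fun h3 => c3 (h3 ▸ hk3)
  have hmh : m ≠ h := fun h3 => c3 (h3 ▸ hm3)
  have hkm : k ≠ m := fun h3 => by
    have := uL h12 hk1 (h3 ▸ hm2) hh1 hh2
    exact hkh this
  have hs1' : s ≠ y1 := fun h3 => a2 (h3 ▸ hs2)
  have ht1' : t ≠ y2 := fun h3 => b2 (h3 ▸ ht2)
  have hst : s ≠ t := fun h3 => by
    have h4 : s = y3 := uP hkm hs1 (h3 ▸ ht1) hk3 hm3
    exact c2 (h4 ▸ hs2)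
  refine ⟨y1, y2, s, t, ⟨?_, ?_, ?_, ?_⟩, a1, b1, fixP hkf hgk hf hs1 hs2, fixP hmf hgm hf ht1 ht2⟩
  · intro l l1 l2 l3
    have e1 : l = h := uL h12 l1 l2 hh1 hh2
    have e2 : l = k := uL hs1' l3 l1 hs1 hk1
    exact hkh (e2.symm.trans e1)
  · intro l l1 l2 l3
    have e1 : l = h := uL h12 l1 l2 hh1 hh2
    have e2 : l = m := uL ht1' l3 l2 ht1 hm2
    exact hmh (e2.symm.trans e1)
  · intro l l1 l2 l3
    have e1 : l = k := uL hs1' l2 l1 hs1 hk1
    have e2 : l = f := uL hst l2 l3 hs2 ht2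
    exact hkf (e1.symm.trans e2)
  · intro l l1 l2 l3
    have e1 : l = m := uL ht1' l3 l1 ht1 hm2
    have e2 : l = f := uL hst l2 l3 hs2 ht2
    exact hmf (e1.symm.trans e2)

variable (L) in
include L in
/-- an involution fixes two points -/
theorem invol_two {g : G} (h2 : ∀ p : P, g • g • p = p) (hnt : ¬ ∀ p : P, g • p = p) :
    ∃ x y : P, x ≠ y ∧ g • x = x ∧ g • y = y := by
  rcases invol (L := L) h2 hnt with ⟨a, ha⟩ | ⟨a, b, c, d, hq, h3, h4, -, -⟩
  · obtain ⟨x, hx, -, -⟩ := ex_third (P := P) a (exOffP (P := P) a).choose (exOffP (P := P) a).choose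
    obtain ⟨y, hy, hyx, -⟩ := ex_third a x x
    exact ⟨x, y, Ne.symm hyx, ha x hx, ha y hy⟩
  · exact ⟨a, b, hq.ne.1, h3, h4⟩

/-- an involution with an axis, odd order: a homology -/
theorem invol_odd {g : G} (hodd : Odd (order P L)) (h2 : ∀ p : P, g • g • p = p) {a : L} (ha : Ax g a P) :
    ∃ c : P, c ∉ a ∧ Ce g c L := by
  classical
  have := Fintype.ofFinite {p : P // p ∉ a}
  have hmap : ∀ p : P, p ∉ a → g • p ∉ a := by
    intro p hp h1
    have h3 := mem_smul g h1
    rw [h2, ha.fix] at h3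
    exact hp h3
  let σ : Equiv.Perm {p : P // p ∉ a} :=
    { toFun := fun p => ⟨g • p.1, hmap p.1 p.2⟩
      invFun := fun p => ⟨g • p.1, hmap p.1 p.2⟩
      left_inv := fun p => Subtype.ext (h2 p.1)
      right_inv := fun p => Subtype.ext (h2 p.1) }
  obtain ⟨c, hc⟩ := Equiv.Perm.exists_fixed_point_of_prime (α := {p : P // p ∉ a}) (p := 2) (n := 1) (by
    rw [← Nat.card_eq_fintype_card, card_off]
    intro h
    exact (Nat.not_even_iff_odd.2 (hodd.pow)) (even_iff_two_dvd.2 h)) (σ := σ) (by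
      ext1 z
      rw [pow_one, pow_two]
      exact Subtype.ext (h2 z.1))
  exact ⟨c.1, c.2, ha.ce (congrArg Subtype.val hc) c.2⟩

/-- an involution with an axis, even order: an elation -/
theorem invol_even {g : G} (heven : Even (order P L)) (h2 : ∀ p : P, g • g • p = p)
    (hnt : ¬ ∀ p : P, g • p = p) {a : L} (ha : Ax g a P) : ∃ z : P, z ∈ a ∧ Ce g z L := by
  classical
  obtain ⟨z, hz⟩ := ha.exCe
  by_cases hza : z ∈ a
  · exact ⟨z, hza, hz⟩
  exfalso
  -- the points off `a` different from `z`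
  have hmap : ∀ p : P, (p ∉ a ∧ p ≠ z) → (g • p ∉ a ∧ g • p ≠ z) := by
    rintro p ⟨hp, hpz⟩
    refine ⟨fun h1 => ?_, fun h1 => ?_⟩
    · have h3 := mem_smul g h1
      rw [h2, ha.fix] at h3
      exact hp h3
    · exact hpz (MulAction.injective g (h1.trans hz.fix.symm))
  have hfin : Finite {p : P // p ∉ a ∧ p ≠ z} := inferInstance
  have := Fintype.ofFinite {p : P // p ∉ a ∧ p ≠ z}
  let σ : Equiv.Perm {p : P // p ∉ a ∧ p ≠ z} :=
    { toFun := fun p => ⟨g • p.1, hmap p.1 p.2⟩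
      invFun := fun p => ⟨g • p.1, hmap p.1 p.2⟩
      left_inv := fun p => Subtype.ext (h2 p.1)
      right_inv := fun p => Subtype.ext (h2 p.1) }
  have hcard : Nat.card {p : P // p ∉ a ∧ p ≠ z} + 1 = order P L ^ 2 := by
    rw [← card_off (P := P) a]
    have h3 : Nat.card {p : {p : P // p ∉ a} // p = ⟨z, hza⟩} +
        Nat.card {p : {p : P // p ∉ a} // ¬ (p = ⟨z, hza⟩)} = Nat.card {p : P // p ∉ a} := by
      rw [← Nat.card_sum]
      exact Nat.card_congr (Equiv.sumCompl _)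
    have h4 : Nat.card {p : {p : P // p ∉ a} // p = ⟨z, hza⟩} = 1 := by
      rw [Nat.card_eq_one_iff_unique]
      exact ⟨⟨fun a b => Subtype.ext (a.2.trans b.2.symm)⟩, ⟨⟨_, rfl⟩⟩⟩
    have h5 : Nat.card {p : P // p ∉ a ∧ p ≠ z} = Nat.card {p : {p : P // p ∉ a} // ¬ (p = ⟨z, hza⟩)} :=
      Nat.card_congr ⟨fun p => ⟨⟨p.1, p.2.1⟩, fun h => p.2.2 (congrArg Subtype.val h)⟩,
        fun p => ⟨p.1.1, p.1.2, fun h => p.2 (Subtype.ext h)⟩, fun _ => rfl, fun _ => rfl⟩
    omega
  obtain ⟨c, hc⟩ := Equiv.Perm.exists_fixed_point_of_prime (α := {p : P // p ∉ a ∧ p ≠ z}) (p := 2) (n := 1) (by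
    rw [← Nat.card_eq_fintype_card]
    intro h
    obtain ⟨k, hk⟩ := h
    have h6 : Even (order P L ^ 2) := heven.pow_of_ne_zero (by norm_num)
    obtain ⟨j, hj⟩ := h6
    omega) (σ := σ) (by
      ext1 z
      rw [pow_one, pow_two]
      exact Subtype.ext (h2 z.1))
  have hcc : g • c.1 = c.1 := congrArg Subtype.val hc
  rcases fixpt ha hz hnt hcc with h3 | h3
  · exact c.2.1 h3
  · exact c.2.2 h3

end Cfsg.Agent.H985.Pl
end

-- part: H985/Homol
section
/-!
# Involutory homologies and elation groups (S3732, helper985)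
-/

set_option autoImplicit false
set_option linter.unusedSectionVars false

namespace Cfsg.Agent.H985

/-- Gleason's lemma for the prime two -/
theorem gleason {S Ω : Type*} [Group S] [MulAction S Ω] [Finite Ω]
    (h : ∀ ω : Ω, ∃ g : S, g ^ 2 = 1 ∧ ∀ ω' : Ω, g • ω' = ω' ↔ ω' = ω) (x y : Ω) : ∃ g : S, g • x = y := by
  classical
  by_contra hn
  push Not at hn
  have := Fintype.ofFinite Ω
  have := Fintype.ofFinite (MulAction.orbit S x)
  -- parity of the orbit of `x`
  have key : ∀ g : S, g ^ 2 = 1 →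
      Even (Fintype.card (MulAction.orbit S x) + Fintype.card {z : MulAction.orbit S x // g • z = z}) := by
    intro g hg
    have h1 : (MulAction.toPerm g : Equiv.Perm (MulAction.orbit S x)) ^ 2 = 1 := by
      ext z
      rw [pow_two, Equiv.Perm.mul_apply, MulAction.toPerm_apply, MulAction.toPerm_apply, ← mul_smul, ← pow_two, hg,
        one_smul, Equiv.Perm.one_apply]
    have h2 := Equiv.Perm.two_dvd_card_support h1
    have h3 : Fintype.card {z : MulAction.orbit S x // g • z = z} +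
        (MulAction.toPerm g : Equiv.Perm (MulAction.orbit S x)).support.card =
          Fintype.card (MulAction.orbit S x) := by
      have h4 := Finset.card_filter_add_card_filter_not (s := (Finset.univ : Finset (MulAction.orbit S x)))
        (fun z : MulAction.orbit S x => g • z = z)
      rw [Finset.card_univ] at h4
      rw [← h4, Fintype.card_subtype]
      congr 1
    rw [← h3]
    obtain ⟨k, hk⟩ := h2
    rw [hk]
    exact ⟨Fintype.card {z : MulAction.orbit S x // g • z = z} + k, by ring⟩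
  obtain ⟨g, hg, hgx⟩ := h x
  obtain ⟨g', hg', hgy⟩ := h y
  have h1 := key g hg
  have h2 := key g' hg'
  have h3 : Fintype.card {z : MulAction.orbit S x // g • z = z} = 1 := by
    rw [Fintype.card_eq_one_iff]
    refine ⟨⟨⟨x, MulAction.mem_orbit_self x⟩, Subtype.ext ((hgx x).2 rfl)⟩, ?_⟩
    rintro ⟨⟨z, hz⟩, hz2⟩
    exact Subtype.ext (Subtype.ext ((hgx z).1 (congrArg Subtype.val hz2)))
  have h4 : Fintype.card {z : MulAction.orbit S x // g' • z = z} = 0 := by
    rw [Fintype.card_eq_zero_iff]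
    refine ⟨?_⟩
    rintro ⟨⟨z, hz⟩, hz2⟩
    have h5 := (hgy z).1 (congrArg Subtype.val hz2)
    obtain ⟨s, hs⟩ := hz
    exact hn s (hs.trans h5)
  rw [h3] at h1
  rw [h4] at h2
  rcases Nat.even_or_odd (Fintype.card (MulAction.orbit S x)) with h5 | h5
  · exact Nat.not_even_iff_odd.2 (h5.add_one) h1
  · exact Nat.not_even_iff_odd.2 h5 (by simpa using h2)

namespace Pl

open Configuration Configuration.ProjectivePlane

variable {G P L : Type*} [Group G] [Membership P L] [MulAction G P] [MulAction G L]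

variable (G) in
/-- there is an involutory homology with centre `c` and axis `a` in `G` -/
def Hom (c : P) (a : L) : Prop := ∃ g : G, g ≠ 1 ∧ g ^ 2 = 1 ∧ Ax g a P ∧ Ce g c L ∧ c ∉ a

theorem Hom.dual {c : P} {a : L} (h : Hom G c a) : Hom G (P := Dual L) (L := Dual P) a c := by
  obtain ⟨g, h1, h2, h3, h4, h5⟩ := h
  exact ⟨g, h1, h2, h4, h3, h5⟩

theorem Hom.of_dual {c : P} {a : L} (h : Hom G (P := Dual L) (L := Dual P) a c) : Hom G c a := by
  obtain ⟨g, h1, h2, h3, h4, h5⟩ := h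
  exact ⟨g, h1, h2, h4, h3, h5⟩

variable [Act G P L] [ProjectivePlane P L] [Finite P] [Finite L] [FaithfulSMul G P]

theorem one_of {g : G} (h : ∀ p : P, g • p = p) : g = 1 :=
  FaithfulSMul.eq_of_smul_eq_smul (α := P) (fun p => by rw [h p, one_smul])

theorem not_triv {g : G} (h : g ≠ 1) : ¬ ∀ p : P, g • p = p := fun h1 => h (one_of h1)

theorem faithfulL (G P L : Type*) [Group G] [Membership P L] [MulAction G P] [MulAction G L] [Act G P L]
    [ProjectivePlane P L] [Finite P] [Finite L] [FaithfulSMul G P] : FaithfulSMul G L where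
  eq_of_smul_eq_smul := by
    intro g h hgh
    have h1 : ∀ p : P, (h⁻¹ * g) • p = p := triv_points (L := L) (fun l => by rw [mul_smul, hgh, inv_smul_smul])
    exact (inv_mul_eq_one.1 (one_of h1)).symm

variable (G P L) in
/-- all involutions are homologies -/
def AllHom : Prop := ∀ g : G, g ≠ 1 → g ^ 2 = 1 → ∃ (c : P) (a : L), c ∉ a ∧ Ax g a P ∧ Ce g c L

theorem AllHom.dual (h : AllHom G P L) : AllHom G (Dual L) (Dual P) := by
  intro g h1 h2
  obtain ⟨c, a, h3, h4, h5⟩ := h g h1 h2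
  exact ⟨a, c, h3, h5, h4⟩

theorem Hom.conj {c : P} {a : L} (h : Hom G c a) (g : G) : Hom G (g • c) (g • a) := by
  obtain ⟨s, h1, h2, h3, h4, h5⟩ := h
  refine ⟨g * s * g⁻¹, ?_, ?_, h3.conj g, h4.conj g, ?_⟩
  · intro h6
    apply h1
    have : s = g⁻¹ * (g * s * g⁻¹) * g := by group
    rw [this, h6]; group
  · rw [conj_pow, h2]; group
  · rwa [mem_smul_iff]

/-- two commuting homologies -/
theorem hom_mul (hA : AllHom G P L) {c d : P} {u w : L} (h1 : Hom G c w) (h2 : Hom G d u) (hc : c ∈ u)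
    (hd : d ∈ w) : ∃ (y : P) (v : L), y ∈ u ∧ y ∈ w ∧ c ∈ v ∧ d ∈ v ∧ Hom G y v := by
  obtain ⟨s, s1, s2, s3, s4, s5⟩ := h1
  obtain ⟨t, t1, t2, t3, t4, t5⟩ := h2
  have huw : u ≠ w := fun h => s5 (h ▸ hc)
  obtain ⟨y, hy1, hy2⟩ := exP0 (P := P) huw
  have hyc : y ≠ c := fun h => s5 (h ▸ hy2)
  have hyd : y ≠ d := fun h => t5 (h ▸ hy1)
  have hcd : c ≠ d := fun h => s5 (h ▸ hd)
  have hsu : s • u = u := s4 u hc
  have htw : t • w = w := t4 w hd
  have hsu' : s⁻¹ • u = u := by rw [inv_smul_eq_iff, hsu]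
  have htw' : t⁻¹ • w = w := by rw [inv_smul_eq_iff, htw]
  -- they commute
  have hcomm : s * t = t * s := by
    have hk1 : Ax (s * t * s⁻¹ * t⁻¹) w P := by
      intro p hp
      have h5 : t⁻¹ • p ∈ w := by have := mem_smul t⁻¹ hp; rwa [htw'] at this
      rw [mul_smul, mul_smul, mul_smul, s3.inv _ h5, smul_inv_smul, s3 p hp]
    have hk2 : Ax (s * t * s⁻¹ * t⁻¹) u P := by
      intro p hp
      have h5 : s⁻¹ • p ∈ u := by have := mem_smul s⁻¹ hp; rwa [hsu'] at this
      rw [mul_smul, mul_smul, mul_smul, t3.inv p hp, t3 _ h5, smul_inv_smul]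
    have hk : s * t * s⁻¹ * t⁻¹ = 1 := by
      by_contra hne
      exact huw (ax_unique hk2 hk1 (not_triv hne))
    have : s * t = (s * t * s⁻¹ * t⁻¹) * (t * s) := by group
    rw [this, hk, one_mul]
  have ht1 : s * t ≠ 1 := by
    intro h
    have h3 : s = t⁻¹ := eq_inv_of_mul_eq_one_left h
    exact huw (ax_unique (h3 ▸ t3.inv : Ax s u P) s3 (not_triv s1))
  have ht2 : (s * t) ^ 2 = 1 := by
    rw [pow_two]
    calc s * t * (s * t) = s * t * (t * s) := by rw [hcomm]
      _ = s * (t ^ 2) * s := by rw [pow_two]; group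
      _ = s ^ 2 := by rw [t2, mul_one, pow_two]
      _ = 1 := s2
  obtain ⟨c3, a3, e1, e2, e3⟩ := hA (s * t) ht1 ht2
  have hnt := not_triv (P := P) ht1
  -- fixed points on `u` and `w`
  have fu : ∀ p, p ∈ u → (s * t) • p = p → p = y ∨ p = c := by
    intro p hp hfix
    rw [mul_smul, t3 p hp] at hfix
    rcases fixpt s3 s4 (not_triv s1) hfix with h | h
    · exact Or.inl (uP huw hp h hy1 hy2)
    · exact Or.inr h
  have fw : ∀ p, p ∈ w → (s * t) • p = p → p = y ∨ p = d := by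
    intro p hp hfix
    have hfix' : t • p = p := by
      have h5 : t • p ∈ w := by have := mem_smul t hp; rwa [htw] at this
      rw [mul_smul, s3 _ h5] at hfix
      exact hfix
    rcases fixpt t3 t4 (not_triv t1) hfix' with h | h
    · exact Or.inl (uP huw h hp hy1 hy2)
    · exact Or.inr h
  have fy : (s * t) • y = y := by rw [mul_smul, t3 y hy1, s3 y hy2]
  have fc : (s * t) • c = c := by rw [mul_smul, t3 c hc, s4.fix]
  have fd : (s * t) • d = d := by rw [mul_smul, t4.fix, s3 d hd]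
  have hau : a3 ≠ u := by
    rintro rfl
    obtain ⟨p, hp, hp1, hp2⟩ := ex_third a3 y c
    rcases fu p hp (e2 p hp) with h | h
    · exact hp1 h
    · exact hp2 h
  have haw : a3 ≠ w := by
    rintro rfl
    obtain ⟨p, hp, hp1, hp2⟩ := ex_third a3 y d
    rcases fw p hp (e2 p hp) with h | h
    · exact hp1 h
    · exact hp2 h
  have hya : y ∉ a3 := by
    intro hya
    have hca : c ∉ a3 := fun h => hau (uL hyc hya h hy1 hc)
    have hda : d ∉ a3 := fun h => haw (uL hyd hya h hy2 hd)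
    have h5 := (fixpt e2 e3 hnt fc).resolve_left hca
    have h6 := (fixpt e2 e3 hnt fd).resolve_left hda
    exact hcd (h5.trans h6.symm)
  have hyc3 := (fixpt e2 e3 hnt fy).resolve_left hya
  refine ⟨y, a3, hy1, hy2, ?_, ?_, s * t, ht1, ht2, e2, hyc3 ▸ e3, hya⟩
  · rcases fixpt e2 e3 hnt fc with h | h
    · exact h
    · exact absurd (hyc3.trans h.symm) hyc
  · rcases fixpt e2 e3 hnt fd with h | h
    · exact h
    · exact absurd (hyc3.trans h.symm) hyd

/-- every point is the centre of an involutory homology -/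
theorem all_centres (hA : AllHom G P L)
    (h3 : ∀ l m : L, l ≠ m → ∃ g : G, g ≠ 1 ∧ g ^ 2 = 1 ∧ g • l = l ∧ g • m = m) (y : P) :
    ∃ a : L, Hom G y a := by
  by_contra hn
  push Not at hn
  -- two lines through `y`
  have key : ∀ u w : L, y ∈ u → y ∈ w → u ≠ w → ∃ g : G, g ^ 2 = 1 ∧ g • u = u ∧ g • w = w ∧ g • y = y ∧
      (∀ l : L, y ∈ l → g • l = l → l = u ∨ l = w) ∧
      ((∃ c, c ∈ u ∧ Hom G c w) ∨ (∃ c, c ∈ w ∧ Hom G c u)) := by
    intro u w hu hw huw
    obtain ⟨g, g1, g2, gu, gw⟩ := h3 u w huw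
    obtain ⟨c, a, e1, e2, e3⟩ := hA g g1 g2
    have gy := fixP huw gu gw hu hw
    have hnt := not_triv (P := P) g1
    have hyc : y ≠ c := by
      rintro rfl
      exact hn a ⟨g, g1, g2, e2, e3, e1⟩
    have hya : y ∈ a := (fixpt e2 e3 hnt gy).resolve_right hyc
    have hall : ∀ l : L, y ∈ l → g • l = l → c ∈ l ∨ l = a := fun l _ h => fixln e2 e3 hnt h
    have hcuw : ¬ (c ∈ u ∧ c ∈ w) := fun h => hyc (uP huw hu hw h.1 h.2)
    rcases hall u hu gu with h4 | h4
    · rcases hall w hw gw with h5 | h5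
      · exact absurd ⟨h4, h5⟩ hcuw
      · refine ⟨g, g2, gu, gw, gy, fun l hl hgl => ?_, Or.inl ⟨c, h4, g, g1, g2, h5 ▸ e2, e3, h5 ▸ e1⟩⟩
        rcases hall l hl hgl with h6 | h6
        · exact Or.inl (uL hyc hl h6 hu h4)
        · exact Or.inr (h6.trans h5.symm)
    · rcases hall w hw gw with h5 | h5
      · refine ⟨g, g2, gu, gw, gy, fun l hl hgl => ?_, Or.inr ⟨c, h5, g, g1, g2, h4 ▸ e2, e3, h4 ▸ e1⟩⟩
        rcases hall l hl hgl with h6 | h6
        · exact Or.inr (uL hyc hl h6 hw h5)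
        · exact Or.inl (h6.trans h4.symm)
      · exact absurd (h4.trans h5.symm) huw
  -- the stabiliser of `y` and `w` is transitive on the other lines through `y`
  have tr : ∀ w : L, y ∈ w → ∀ u v : L, y ∈ u → u ≠ w → y ∈ v → v ≠ w →
      ∃ g : G, g • y = y ∧ g • w = w ∧ g • u = v := by
    intro w hw u v hu huw hv hvw
    let S : Subgroup G := MulAction.stabilizer G y ⊓ MulAction.stabilizer G w
    let X : SubMulAction S L :=
      { carrier := {l | y ∈ l ∧ l ≠ w}
        smul_mem' := by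
          rintro ⟨g, hg1, hg2⟩ l ⟨hl1, hl2⟩
          have hg1 : g • y = y := hg1
          have hg2 : g • w = w := hg2
          refine ⟨?_, ?_⟩
          · have := mem_smul g hl1
            rwa [hg1] at this
          · intro h
            apply hl2
            have h' : g • l = w := h
            exact MulAction.injective g (h'.trans hg2.symm) }
    obtain ⟨g, hg⟩ := gleason (S := S) (Ω := X) (by
      rintro ⟨l, hl1, hl2⟩
      obtain ⟨g, g2, gl, gw, gy, hfix, -⟩ := key l w hl1 hw hl2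
      refine ⟨⟨g, gy, gw⟩, Subtype.ext g2, ?_⟩
      rintro ⟨m, hm1, hm2⟩
      constructor
      · intro h
        have h' : g • m = m := congrArg Subtype.val h
        rcases hfix m hm1 h' with h5 | h5
        · exact Subtype.ext h5
        · exact absurd h5 hm2
      · intro h
        have h' : m = l := congrArg Subtype.val h
        subst h'
        exact Subtype.ext gl) ⟨u, hu, huw⟩ ⟨v, hv, hvw⟩
    exact ⟨g.1, g.2.1, g.2.2, congrArg Subtype.val hg⟩
  -- two lines through `y`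
  obtain ⟨u, hu, -, -⟩ := ex_thirdL y (exOffL (L := L) y).choose (exOffL (L := L) y).choose
  obtain ⟨w, hw, hwu, -⟩ := ex_thirdL y u u
  obtain ⟨f, hf, hfu, hfw⟩ := ex_thirdL y u w
  -- swapping `u` and `w`
  have sw : ∃ g : G, g • y = y ∧ g • u = w ∧ g • w = u := by
    obtain ⟨g1, a1, a2, a3⟩ := tr w hw u f hu (Ne.symm hwu) hf hfw
    obtain ⟨g2, b1, b2, b3⟩ := tr f hf w u hw (Ne.symm hfw) hu (Ne.symm hfu)
    obtain ⟨g3, c1, c2, c3⟩ := tr u hu f w hf hfu hw hwu
    refine ⟨g3 * g2 * g1, ?_, ?_, ?_⟩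
    · rw [mul_smul, mul_smul, a1, b1, c1]
    · rw [mul_smul, mul_smul, a3, b2, c3]
    · rw [mul_smul, mul_smul, a2, b3, c2]
  obtain ⟨s, sy, su, sw⟩ := sw
  have both : (∃ c, c ∈ u ∧ Hom G c w) ∧ (∃ c, c ∈ w ∧ Hom G c u) := by
    obtain ⟨-, -, -, -, -, -, h | h⟩ := key u w hu hw (Ne.symm hwu)
    · refine ⟨h, ?_⟩
      obtain ⟨c, h1, h2⟩ := h
      refine ⟨s • c, ?_, ?_⟩
      · rw [← su]; exact mem_smul s h1
      · rw [← sw]; exact h2.conj s
    · refine ⟨?_, h⟩
      obtain ⟨c, h1, h2⟩ := h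
      refine ⟨s • c, ?_, ?_⟩
      · rw [← sw]; exact mem_smul s h1
      · rw [← su]; exact h2.conj s
  obtain ⟨⟨c, hc, hcw⟩, ⟨d, hd, hdu⟩⟩ := both
  obtain ⟨z, v, h4, h5, -, -, h6⟩ := hom_mul hA hcw hdu hc hd
  have : z = y := uP (Ne.symm hwu) h4 h5 hu hw
  exact hn v (this ▸ h6)

end Pl

end Cfsg.Agent.H985
end

-- part: H985/Sub
section
/-!
# Fixed subplanes and the full collineation group (S3732, helper985)
-/

set_option autoImplicit false
set_option linter.unusedSectionVars false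

namespace Cfsg.Agent.H985.Pl

open Configuration Configuration.ProjectivePlane

/-! ### the full collineation group -/

/-- the group of all collineations -/
def Coll (P L : Type*) [Membership P L] : Subgroup (Equiv.Perm P × Equiv.Perm L) where
  carrier := {σ | ∀ (p : P) (l : L), σ.1 p ∈ σ.2 l ↔ p ∈ l}
  mul_mem' := fun {a b} ha hb p l => (ha (b.1 p) (b.2 l)).trans (hb p l)
  one_mem' := fun _ _ => Iff.rfl
  inv_mem' := fun {a} ha p l => by
    have := ha (a⁻¹.1 p) (a⁻¹.2 l)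
    have e1 : a.1 (a⁻¹.1 p) = p := Equiv.apply_symm_apply a.1 p
    have e2 : a.2 (a⁻¹.2 l) = l := Equiv.apply_symm_apply a.2 l
    rw [e1, e2] at this
    exact this.symm

section Coll

variable {P L : Type*} [Membership P L]

instance : MulAction (Coll P L) P where
  smul g p := g.1.1 p
  one_smul _ := rfl
  mul_smul _ _ _ := rfl

instance : MulAction (Coll P L) L where
  smul g l := g.1.2 l
  one_smul _ := rfl
  mul_smul _ _ _ := rfl

instance : Act (Coll P L) P L := ⟨fun g {p l} h => (g.2 p l).2 h⟩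

instance [Finite P] [Finite L] : Finite (Coll P L) := inferInstance

instance [ProjectivePlane P L] [Finite P] [Finite L] : FaithfulSMul (Coll P L) P where
  eq_of_smul_eq_smul := by
    intro g h hgh
    have h1 : ∀ p : P, (h⁻¹ * g) • p = p := fun p => by rw [mul_smul, hgh, inv_smul_smul]
    have h2 : ∀ l : L, (h⁻¹ * g) • l = l := triv_lines (P := P) h1
    apply Subtype.ext
    apply Prod.ext
    · ext p
      exact hgh p
    · ext l
      have h3 := h2 l
      rw [mul_smul, inv_smul_eq_iff] at h3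
      exact h3

end Coll

section Sub

variable {G P L : Type*} [Group G] [Membership P L] [MulAction G P] [MulAction G L] [Act G P L]

instance (H : Subgroup G) : Act H P L := ⟨fun g {_ _} h => mem_smul g.1 h⟩

variable (G P L) in
/-- the collineations induced by `G` -/
def toColl : G →* Coll P L where
  toFun g := ⟨(MulAction.toPerm g, MulAction.toPerm g), fun _ _ => mem_smul_iff g⟩
  map_one' := Subtype.ext (Prod.ext (Equiv.ext fun p => one_smul G p) (Equiv.ext fun l => one_smul G l))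
  map_mul' a b := Subtype.ext (Prod.ext (Equiv.ext fun p => mul_smul a b p) (Equiv.ext fun l => mul_smul a b l))

theorem toColl_smul (g : G) (p : P) : toColl G P L g • p = g • p := rfl

theorem toColl_smul' (g : G) (l : L) : toColl G P L g • l = g • l := rfl

/-- the group of the collineations induced by `G` -/
abbrev Im (G P L : Type*) [Group G] [Membership P L] [MulAction G P] [MulAction G L] [Act G P L] :
    Subgroup (Coll P L) := (toColl G P L).range

end Sub

/-! ### fixed points and lines of a subgroup -/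

section Fix

variable {G : Type*} [Group G]

/-- fixed points -/
def FP (P : Type*) [MulAction G P] (D : Subgroup G) : Type _ := {p : P // ∀ d ∈ D, d • p = p}

instance {P : Type*} [MulAction G P] (D : Subgroup G) [Finite P] : Finite (FP P D) :=
  inferInstanceAs (Finite {p : P // ∀ d ∈ D, d • p = p})

instance {P L : Type*} [Membership P L] [MulAction G P] [MulAction G L] (D : Subgroup G) :
    Membership (FP P D) (FP L D) := ⟨fun l p => p.1 ∈ l.1⟩

theorem FP.mem_iff {P L : Type*} [Membership P L] [MulAction G P] [MulAction G L] {D : Subgroup G}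
    {p : FP P D} {l : FP L D} : p ∈ l ↔ p.1 ∈ l.1 := Iff.rfl

theorem FP.ext {P : Type*} [MulAction G P] {D : Subgroup G} {p q : FP P D} (h : p.1 = q.1) : p = q := Subtype.ext h

/-- the normaliser acts on the fixed points -/
instance {P : Type*} [MulAction G P] (D : Subgroup G) : MulAction (Subgroup.normalizer (D : Set G)) (FP P D) where
  smul g p := ⟨g.1 • p.1, fun d hd => by
    have h1 : g.1⁻¹ * d * g.1 ∈ D := (Subgroup.mem_normalizer_iff''.1 g.2 d).1 hd
    have h2 := p.2 _ h1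
    rw [mul_smul, mul_smul, inv_smul_eq_iff] at h2
    exact h2⟩
  one_smul p := Subtype.ext (one_smul G p.1)
  mul_smul a b p := Subtype.ext (mul_smul a.1 b.1 p.1)

theorem FP.smul_val {P : Type*} [MulAction G P] {D : Subgroup G} (g : Subgroup.normalizer (D : Set G)) (p : FP P D) :
    (g • p).1 = g.1 • p.1 := rfl

variable {P L : Type*} [Membership P L] [MulAction G P] [MulAction G L] [Act G P L]

instance (D : Subgroup G) : Act (Subgroup.normalizer (D : Set G)) (FP P D) (FP L D) :=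
  ⟨fun g {_ _} h => mem_smul g.1 h⟩

variable (P L) in
/-- the subgroup fixes a quadrangle -/
def Planar (D : Subgroup G) : Prop := ∃ a b c d : FP P D, Quad L a.1 b.1 c.1 d.1

theorem Planar.mono {D E : Subgroup G} (h : Planar P L E) (hDE : D ≤ E) : Planar P L D := by
  obtain ⟨a, b, c, d, hq⟩ := h
  exact ⟨⟨a.1, fun g hg => a.2 g (hDE hg)⟩, ⟨b.1, fun g hg => b.2 g (hDE hg)⟩,
    ⟨c.1, fun g hg => c.2 g (hDE hg)⟩, ⟨d.1, fun g hg => d.2 g (hDE hg)⟩, hq⟩

variable [ProjectivePlane P L]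

/-- the dual of a quadrangle -/
theorem Quad.dual {a b c d : P} (h : Quad L a b c d) : ∃ k l m n : L, Quad (Dual P) (k : Dual L) l m n ∧
    (a ∈ k ∧ b ∈ k) ∧ (b ∈ l ∧ c ∈ l) ∧ (c ∈ m ∧ d ∈ m) ∧ (d ∈ n ∧ a ∈ n) := by
  obtain ⟨n1, n2, n3, n4, n5, n6⟩ := h.ne
  obtain ⟨h1, h2, h3, h4⟩ := h
  obtain ⟨k, k1, k2⟩ := exL0 (L := L) n1
  obtain ⟨l, l1, l2⟩ := exL0 (L := L) n4
  obtain ⟨m, m1, m2⟩ := exL0 (L := L) n6
  obtain ⟨n, p1, p2⟩ := exL0 (L := L) (Ne.symm n3)
  have kl : k ≠ l := fun h => h1 k k1 k2 (h ▸ l2)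
  have km : k ≠ m := fun h => h1 k k1 k2 (h ▸ m1)
  have kn : k ≠ n := fun h => h2 k k1 k2 (h ▸ p1)
  have lm : l ≠ m := fun h => h4 l l1 l2 (h ▸ m2)
  have ln : l ≠ n := fun h => h4 l l1 l2 (h ▸ p1)
  have mn : m ≠ n := fun h => h3 m (h ▸ p2) m1 m2
  refine ⟨k, l, m, n, ⟨?_, ?_, ?_, ?_⟩, ⟨k1, k2⟩, ⟨l1, l2⟩, ⟨m1, m2⟩, ⟨p1, p2⟩⟩
  · intro (x : P) (hx1 : x ∈ k) (hx2 : x ∈ l) (hx3 : x ∈ m)
    have : x = b := uP kl hx1 hx2 k2 l1
    subst this
    exact h4 m hx3 m1 m2
  · intro (x : P) (hx1 : x ∈ k) (hx2 : x ∈ l) (hx3 : x ∈ n)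
    have : x = b := uP kl hx1 hx2 k2 l1
    subst this
    exact h2 n p2 hx3 p1
  · intro (x : P) (hx1 : x ∈ k) (hx2 : x ∈ m) (hx3 : x ∈ n)
    have : x = a := uP kn hx1 hx3 k1 p2
    subst this
    exact h3 m hx2 m1 m2
  · intro (x : P) (hx1 : x ∈ l) (hx2 : x ∈ m) (hx3 : x ∈ n)
    have : x = c := uP lm hx1 hx2 l2 m1
    subst this
    exact h3 n p2 hx3 p1

theorem Planar.dual {D : Subgroup G} (h : Planar P L D) : Planar (Dual L) (Dual P) D := by
  obtain ⟨a, b, c, d, hq⟩ := h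
  obtain ⟨n1, n2, n3, n4, n5, n6⟩ := hq.ne
  obtain ⟨k, l, m, n, hq', ⟨k1, k2⟩, ⟨l1, l2⟩, ⟨m1, m2⟩, ⟨p1, p2⟩⟩ := hq.dual
  have e1 : ∀ g ∈ D, g • k = k := fun g hg => fixL n1 (a.2 g hg) (b.2 g hg) k1 k2
  have e2 : ∀ g ∈ D, g • l = l := fun g hg => fixL n4 (b.2 g hg) (c.2 g hg) l1 l2
  have e3 : ∀ g ∈ D, g • m = m := fun g hg => fixL n6 (c.2 g hg) (d.2 g hg) m1 m2
  have e4 : ∀ g ∈ D, g • n = n := fun g hg => fixL (Ne.symm n3) (d.2 g hg) (a.2 g hg) p1 p2
  exact ⟨⟨k, e1⟩, ⟨l, e2⟩, ⟨m, e3⟩, ⟨n, e4⟩, hq'⟩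

theorem Planar.of_dual {D : Subgroup G} (h : Planar (Dual L) (Dual P) D) : Planar P L D :=
  Planar.dual (P := Dual L) (L := Dual P) h

/-- the fixed elements of a planar subgroup form a projective plane -/
@[reducible] noncomputable def fixPlane {D : Subgroup G} (h : Planar P L D) : ProjectivePlane (FP P D) (FP L D) where
  exists_point := by
    intro l
    obtain ⟨a, b, c, d, hq⟩ := h
    by_contra hn
    push Not at hn
    exact hq.1 l.1 (hn a) (hn b) (hn c)
  exists_line := by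
    intro p
    obtain ⟨k, l, m, n, hq⟩ := h.dual
    by_contra hn
    push Not at hn
    exact hq.1 p.1 (hn k) (hn l) (hn m)
  eq_or_eq := by
    intro p q l m h1 h2 h3 h4
    rcases Nondegenerate.eq_or_eq (P := P) (L := L) h1 h2 h3 h4 with h5 | h5
    · exact Or.inl (Subtype.ext h5)
    · exact Or.inr (Subtype.ext h5)
  mkPoint := fun {l m} hlm =>
    have hlm' : l.1 ≠ m.1 := fun h => hlm (Subtype.ext h)
    ⟨(exP0 (P := P) hlm').choose, fun g hg => fixP hlm' (l.2 g hg) (m.2 g hg) (exP0 (P := P) hlm').choose_spec.1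
      (exP0 (P := P) hlm').choose_spec.2⟩
  mkPoint_ax := fun {l m} hlm =>
    have hlm' : l.1 ≠ m.1 := fun h => hlm (Subtype.ext h)
    (exP0 (P := P) hlm').choose_spec
  mkLine := fun {p q} hpq =>
    have hpq' : p.1 ≠ q.1 := fun h => hpq (Subtype.ext h)
    ⟨(exL0 (L := L) hpq').choose, fun g hg => fixL hpq' (p.2 g hg) (q.2 g hg) (exL0 (L := L) hpq').choose_spec.1
      (exL0 (L := L) hpq').choose_spec.2⟩
  mkLine_ax := fun {p q} hpq =>
    have hpq' : p.1 ≠ q.1 := fun h => hpq (Subtype.ext h)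
    (exL0 (L := L) hpq').choose_spec
  exists_config := by
    obtain ⟨a, b, c, d, hq⟩ := h
    obtain ⟨n1, n2, n3, n4, n5, n6⟩ := hq.ne
    obtain ⟨h1, h2, h3, h4⟩ := hq
    obtain ⟨l1, e1, e2⟩ := exL0 (L := L) n3
    obtain ⟨l2, e3, e4⟩ := exL0 (L := L) n4
    obtain ⟨l3, e5, e6⟩ := exL0 (L := L) n5
    refine ⟨a, b, c, ⟨l1, fun g hg => fixL n3 (a.2 g hg) (d.2 g hg) e1 e2⟩,
      ⟨l2, fun g hg => fixL n4 (b.2 g hg) (c.2 g hg) e3 e4⟩,
      ⟨l3, fun g hg => fixL n5 (b.2 g hg) (d.2 g hg) e5 e6⟩, ?_, ?_, ?_, e3, e5, ?_, e4, ?_⟩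
    · exact fun h => h1 l2 h e3 e4
    · exact fun h => h2 l3 h e5 e6
    · exact fun h => h2 l1 e1 h e2
    · exact fun h => h3 l1 e1 h e2
    · exact fun h => h4 l3 e5 h e6

end Fix

end Cfsg.Agent.H985.Pl
end

-- part: H985/ElGrp
section
/-!
# Elation groups (S3732, helper985)

* `El G P a` : the elations with axis `a`; `Pg G z a` : the perspectivities with centre `z` and axis `a`;
* `El_trans` : André's theorem; `odd_centres` : if the order is odd, an axis of an involutory homology has an odd number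
  of centres.
-/

set_option autoImplicit false
set_option linter.unusedSectionVars false

namespace Cfsg.Agent.H985

theorem card_dvd_of_semireg {E Ω : Type*} [Group E] [MulAction E Ω] [Finite Ω]
    (h : ∀ g : E, g ≠ 1 → ∀ ω : Ω, g • ω ≠ ω) : Nat.card E ∣ Nat.card Ω := by
  have h1 : ∀ b : Ω, MulAction.stabilizer E b = ⊥ := by
    intro b
    rw [eq_bot_iff]
    intro g hg
    by_contra hne
    exact h g (fun h2 => hne (by rw [h2]; exact Subgroup.mem_bot.2 rfl)) b hg
  rw [Nat.card_congr (MulAction.selfEquivOrbitsQuotientProd h1), Nat.card_prod]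
  exact dvd_mul_left _ _

namespace Pl

open Configuration Configuration.ProjectivePlane

variable {G P L : Type*} [Group G] [Membership P L] [MulAction G P] [MulAction G L]
variable [Act G P L] [ProjectivePlane P L] [Finite P] [Finite L] [FaithfulSMul G P]

variable (G) in
/-- perspectivities with centre `z` and axis `a` -/
def Pg (z : P) (a : L) : Subgroup G where
  carrier := {g | Ax g a P ∧ Ce g z L}
  mul_mem' := fun h1 h2 => ⟨h1.1.mul h2.1, h1.2.mul h2.2⟩
  one_mem' := ⟨Ax.one, Ce.one⟩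
  inv_mem' := fun h => ⟨h.1.inv, h.2.inv⟩

theorem mem_Pg {g : G} {z : P} {a : L} : g ∈ Pg G z a ↔ Ax g a P ∧ Ce g z L := Iff.rfl

theorem mem_Pg_dual {g : G} {z : P} {a : L} : g ∈ Pg G (P := Dual L) (L := Dual P) a z ↔ g ∈ Pg G z a :=
  ⟨fun h => ⟨h.2, h.1⟩, fun h => ⟨h.2, h.1⟩⟩

theorem El_mul {g h : G} {a : L} (hg : Ax g a P ∧ ∃ z, z ∈ a ∧ Ce g z L) (hh : Ax h a P ∧ ∃ z, z ∈ a ∧ Ce h z L) :
    Ax (g * h) a P ∧ ∃ z, z ∈ a ∧ Ce (g * h) z L := by
  obtain ⟨hg1, y, hy, hg2⟩ := hg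
  obtain ⟨hh1, z, hz, hh2⟩ := hh
  have h1 := hg1.mul hh1
  refine ⟨h1, ?_⟩
  by_cases hg0 : g = 1
  · subst hg0; rw [one_mul]; exact ⟨z, hz, hh2⟩
  by_cases hh0 : h = 1
  · subst hh0; rw [mul_one]; exact ⟨y, hy, hg2⟩
  obtain ⟨c, hc⟩ := h1.exCe
  by_cases hca : c ∈ a
  · exact ⟨c, hca, hc⟩
  · have hfix := hc.fix
    have h2 : h • c = g⁻¹ • c := by rw [eq_inv_smul_iff, ← mul_smul, hfix]
    have h3 : h • c ≠ c := by
      intro h4
      rcases fixpt hh1 hh2 (not_triv hh0) h4 with h5 | h5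
      · exact hca h5
      · exact hca (h5 ▸ hz)
    obtain ⟨l, hl1, hl2⟩ := exL L c z
    obtain ⟨m, hm1, hm2⟩ := exL L c y
    have h4 : h • c ∈ l := by have := mem_smul h hl1; rwa [hh2 l hl2] at this
    have h5 : h • c ∈ m := by
      have := mem_smul g⁻¹ hm1
      rw [hg2.inv m hm2] at this
      rwa [h2]
    have hlm : l = m := uL h3 h4 hl1 h5 hm1
    have hla : l ≠ a := fun h6 => hca (h6 ▸ hl1)
    have hyz : y = z := uP hla (hlm ▸ hm2) hy hl2 hz
    subst hyz
    exact ⟨y, hy, hg2.mul hh2⟩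

variable (G P) in
/-- the elations with axis `a` -/
def El (a : L) : Subgroup G where
  carrier := {g | Ax g a P ∧ ∃ z, z ∈ a ∧ Ce g z L}
  mul_mem' := fun h1 h2 => El_mul h1 h2
  one_mem' := ⟨Ax.one, by
    obtain ⟨z, hz, -, -⟩ := ex_third (P := P) a (exOffP (P := P) a).choose (exOffP (P := P) a).choose
    exact ⟨z, hz, Ce.one⟩⟩
  inv_mem' := fun h => ⟨h.1.inv, h.2.choose, h.2.choose_spec.1, h.2.choose_spec.2.inv⟩

theorem mem_El {g : G} {a : L} : g ∈ El G P a ↔ Ax g a P ∧ ∃ z, z ∈ a ∧ Ce g z L := Iff.rfl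

theorem Pg_le_El {z : P} {a : L} (h : z ∈ a) : Pg G z a ≤ El G P a := fun _ hg => ⟨hg.1, z, h, hg.2⟩

theorem exPg {g : G} {a : L} (h : g ∈ El G P a) : ∃ z, z ∈ a ∧ g ∈ Pg G z a :=
  ⟨h.2.choose, h.2.choose_spec.1, h.1, h.2.choose_spec.2⟩

/-- a non-trivial elation moves all points off its axis -/
theorem El_ne {g : G} {a : L} (h : g ∈ El G P a) (h1 : g ≠ 1) {p : P} (hp : p ∉ a) : g • p ≠ p := by
  intro h2
  obtain ⟨z, hz, h3⟩ := h.2
  rcases fixpt h.1 h3 (not_triv h1) h2 with h4 | h4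
  · exact hp h4
  · exact hp (h4 ▸ hz)

theorem Pg_ne {g : G} {z : P} {a : L} (h : g ∈ Pg G z a) (hz : z ∈ a) (h1 : g ≠ 1) {p : P} (hp : p ∉ a) :
    g • p ≠ p := El_ne (Pg_le_El hz h) h1 hp

theorem El_eq {g h : G} {a : L} (hg : g ∈ El G P a) (hh : h ∈ El G P a) {p : P} (hp : p ∉ a)
    (he : g • p = h • p) : g = h := by
  by_contra hne
  refine El_ne (mul_mem (inv_mem hh) hg) (fun h1 => hne (inv_mul_eq_one.1 h1).symm) hp ?_
  rw [mul_smul, he, inv_smul_smul]

theorem Ax.mem_El_iff {g : G} {a : L} (h : Ax g a P) : g ∈ El G P a ↔ (g = 1 ∨ ∀ p : P, p ∉ a → g • p ≠ p) := by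
  constructor
  · intro h1
    by_cases h2 : g = 1
    · exact Or.inl h2
    · exact Or.inr fun p hp => El_ne h1 h2 hp
  · rintro (h1 | h1)
    · rw [h1]; exact one_mem _
    · obtain ⟨z, hz⟩ := h.exCe
      by_cases hza : z ∈ a
      · exact ⟨h, z, hza, hz⟩
      · exact absurd hz.fix (h1 z hza)

theorem smul_off {g : G} {a : L} (h : g • a = a) {p : P} (hp : p ∉ a) : g • p ∉ a := by
  intro h1
  rw [← h, mem_smul_iff] at h1
  exact hp h1

/-- André's theorem -/
theorem El_trans [Finite G] {a : L} {c d : P} (hc : c ∉ a) (hd : d ∉ a) (h1 : ∃ g : G, g ≠ 1 ∧ Ax g a P ∧ g • c = c)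
    (h2 : ∃ g : G, g ≠ 1 ∧ Ax g a P ∧ g • d = d) : ∃ e ∈ El G P a, e • c = d := by
  let S : Subgroup G :=
    { carrier := {g | Ax g a P}
      mul_mem' := fun h1 h2 => h1.mul h2
      one_mem' := Ax.one
      inv_mem' := fun h => h.inv }
  let X : SubMulAction S P :=
    { carrier := {p | p ∉ a}
      smul_mem' := fun g p hp => smul_off g.2.fix hp }
  obtain ⟨g1, g1n, g1a, g1c⟩ := h1
  obtain ⟨g2, g2n, g2a, g2d⟩ := h2
  obtain ⟨e, he, hec⟩ := andre (S := S) (Ω := X) (by
    rintro ⟨g, hg⟩ hne ⟨x, hx⟩ ⟨y, hy⟩ hgx hgy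
    by_contra hxy
    apply hne
    apply Subtype.ext
    change g = 1
    exact one_of (hg.triv (congrArg Subtype.val hgx) hx (congrArg Subtype.val hgy) hy
      (fun h => hxy (Subtype.ext h)))) ((El G P a).subgroupOf S) (by
    rintro ⟨g, hg⟩
    rw [Subgroup.mem_subgroupOf]
    change g ∈ El G P a ↔ _
    rw [Ax.mem_El_iff hg]
    constructor
    · rintro (h | h)
      · exact Or.inl (Subtype.ext h)
      · exact Or.inr fun x hx => h x.1 x.2 (congrArg Subtype.val hx)
    · rintro (h | h)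
      · exact Or.inl (congrArg Subtype.val h)
      · exact Or.inr fun p hp hgp => h ⟨p, hp⟩ (Subtype.ext hgp)) (x := ⟨c, hc⟩) (y := ⟨d, hd⟩)
    ⟨⟨g1, g1a⟩, fun h => g1n (congrArg Subtype.val h), Subtype.ext g1c⟩
    ⟨⟨g2, g2a⟩, fun h => g2n (congrArg Subtype.val h), Subtype.ext g2d⟩
  exact ⟨e.1, Subgroup.mem_subgroupOf.1 he, congrArg Subtype.val hec⟩

variable (G) in
theorem card_El_dvd (a : L) : Nat.card (El G P a) ∣ order P L ^ 2 := by
  let X : SubMulAction (El G P a) P :=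
    { carrier := {p | p ∉ a}
      smul_mem' := fun g p hp => smul_off g.2.1.fix hp }
  have h := card_dvd_of_semireg (E := El G P a) (Ω := X) (by
    rintro ⟨g, hg⟩ hne ⟨x, hx⟩ hgx
    exact El_ne hg (fun h => hne (Subtype.ext h)) hx (congrArg Subtype.val hgx))
  rw [← card_off (P := P) a]
  exact h

variable (G) in
theorem card_Pg_dvd {z : P} {a : L} (hz : z ∈ a) : Nat.card (Pg G z a) ∣ order P L := by
  obtain ⟨f, hf, hfa, -⟩ := ex_thirdL z a a
  let X : SubMulAction (Pg G z a) P :=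
    { carrier := {p | p ∈ f ∧ p ≠ z}
      smul_mem' := by
        rintro ⟨g, hg⟩ p ⟨hp1, hp2⟩
        refine ⟨?_, ?_⟩
        · have := mem_smul g hp1
          rwa [hg.2 f hf] at this
        · intro h
          apply hp2
          have h' : g • p = z := h
          exact MulAction.injective g (h'.trans (hg.1 z hz).symm) }
  have h := card_dvd_of_semireg (E := Pg G z a) (Ω := X) (by
    rintro ⟨g, hg⟩ hne ⟨x, hx1, hx2⟩ hgx
    exact Pg_ne hg hz (fun h => hne (Subtype.ext h)) (fun h => hx2 (uP hfa hx1 h hf hz))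
      (congrArg Subtype.val hgx))
  rw [← card_pts_ne (P := P) hf]
  exact h

theorem Hom.ex_off {c : P} {a : L} (h : Hom G c a) : c ∉ a ∧ ∃ g : G, g ≠ 1 ∧ Ax g a P ∧ g • c = c := by
  obtain ⟨g, h1, h2, h3, h4, h5⟩ := h
  exact ⟨h5, g, h1, h3, h4.fix⟩

/-- the elation group is transitive on the centres -/
theorem Hom.trans [Finite G] {c d : P} {a : L} (h : Hom G c a) (h' : Hom G d a) : ∃ e ∈ El G P a, e • c = d := by
  obtain ⟨h1, h2⟩ := h.ex_off
  obtain ⟨h3, h4⟩ := h'.ex_off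
  exact El_trans h1 h3 h2 h4

theorem card_centres [Finite G] {c : P} {a : L} (h : Hom G c a) : Nat.card {d : P // Hom G d a} = Nat.card (El G P a) := by
  symm
  refine Nat.card_congr (Equiv.ofBijective (fun e => ⟨e.1 • c, ?_⟩) ⟨?_, ?_⟩)
  · have := h.conj e.1
    rwa [e.2.1.fix] at this
  · intro e f hef
    exact Subtype.ext (El_eq e.2 f.2 h.ex_off.1 (congrArg Subtype.val hef))
  · rintro ⟨d, hd⟩
    obtain ⟨e, he, hec⟩ := h.trans hd
    exact ⟨⟨e, he⟩, Subtype.ext hec⟩

theorem odd_El (hodd : Odd (order P L)) (a : L) : Odd (Nat.card (El G P a)) :=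
  Odd.of_dvd_nat (hodd.pow) (card_El_dvd G a)

theorem odd_centres [Finite G] (hodd : Odd (order P L)) {c : P} {a : L} (h : Hom G c a) :
    Odd (Nat.card {d : P // Hom G d a}) := by
  rw [card_centres h]
  exact odd_El hodd a

theorem odd_axes [Finite G] (hodd : Odd (order P L)) {c : P} {a : L} (h : Hom G c a) :
    Odd (Nat.card {b : L // Hom G c b}) := by
  haveI := faithfulL G P L
  haveI : FaithfulSMul G (Dual L) := this
  have h1 := odd_centres (G := G) (P := Dual L) (L := Dual P) (by rw [Dual.order]; exact hodd) h.dual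
  have h2 : Nat.card {b : L // Hom G c b} = Nat.card {d : Dual L // Hom G (P := Dual L) (L := Dual P) d c} :=
    Nat.card_congr (Equiv.subtypeEquivRight fun b => ⟨fun h => h.dual, fun h => h.of_dual⟩)
  rw [h2]
  exact h1

/-- an involution on a set of odd cardinality has a fixed point -/
theorem hom_through [Finite G] (hodd : Odd (order P L)) {c d : P} {w a : L} (h : Hom G c w) (hd : d ∈ w)
    (ha : Hom G d a) : ∃ b : L, Hom G d b ∧ c ∈ b := by
  have h1 := odd_axes hodd ha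
  obtain ⟨s, s1, s2, s3, s4, s5⟩ := h
  have hsd : s • d = d := s3 d hd
  let X : SubMulAction (Subgroup.zpowers s) L :=
    { carrier := {b | Hom G d b}
      smul_mem' := by
        rintro ⟨g, k, rfl⟩ b hb
        have h2 := Hom.conj hb (s ^ k)
        have h3 : (s ^ k) • d = d := by
          have : s ^ k ∈ MulAction.stabilizer G d := zpow_mem (MulAction.mem_stabilizer_iff.2 hsd) k
          exact this
        rw [h3] at h2
        exact h2 }
  have := Fintype.ofFinite X
  obtain ⟨b, hb⟩ := Equiv.Perm.exists_fixed_point_of_prime (α := X) (p := 2) (n := 1) (by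
    rw [← Nat.card_eq_fintype_card]
    exact fun h => (Nat.not_even_iff_odd.2 h1) (even_iff_two_dvd.2 h))
    (σ := MulAction.toPerm (⟨s, Subgroup.mem_zpowers s⟩ : Subgroup.zpowers s)) (by
      ext1 z
      rw [pow_one, pow_two, Equiv.Perm.mul_apply, MulAction.toPerm_apply, MulAction.toPerm_apply, ← mul_smul,
        Equiv.Perm.one_apply]
      have : (⟨s, Subgroup.mem_zpowers s⟩ : Subgroup.zpowers s) * ⟨s, Subgroup.mem_zpowers s⟩ = 1 :=
        Subtype.ext (by change s * s = 1; rw [← pow_two, s2])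
      rw [this, one_smul])
  have hb' : s • b.1 = b.1 := congrArg Subtype.val hb
  refine ⟨b.1, b.2, ?_⟩
  rcases fixln s3 s4 (not_triv s1) hb' with h2 | h2
  · exact h2
  · exact absurd (h2 ▸ hd) (Hom.ex_off b.2).1

end Pl

end Cfsg.Agent.H985
end

-- part: H985/CaseOne
section
/-!
# A line which is the axis of elations with two centres (S3732, helper985)

If all points are centres of involutory homologies and the order is odd, then the order is a prime power.
-/

set_option autoImplicit false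
set_option linter.unusedSectionVars false

namespace Cfsg.Agent.H985.Pl

open Configuration Configuration.ProjectivePlane

variable {G P L : Type*} [Group G] [Membership P L] [MulAction G P] [MulAction G L]
variable [Act G P L] [ProjectivePlane P L] [Finite P] [Finite L] [FaithfulSMul G P]

variable (G P) in
/-- `w` is the axis of elations with two centres -/
def Two (w : L) : Prop := ∃ (y z : P) (g h : G), y ≠ z ∧ y ∈ w ∧ z ∈ w ∧ g ∈ Pg G y w ∧ h ∈ Pg G z w ∧ g ≠ 1 ∧ h ≠ 1

theorem Pg_inter {g : G} {y z : P} {w : L} (hyz : y ≠ z) (h1 : g ∈ Pg G y w) (h2 : g ∈ Pg G z w) : g = 1 := by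
  by_contra h
  exact hyz (ce_unique h1.2 h2.2 (not_triv h))

theorem Pg_comm {g h : G} {y z : P} {w : L} (hyz : y ≠ z) (hy : y ∈ w) (hz : z ∈ w) (h1 : g ∈ Pg G y w)
    (h2 : h ∈ Pg G z w) : g * h = h * g := by
  have hgw : g • w = w := h1.1.fix
  have hhw : h • w = w := h2.1.fix
  have k1 : g * h * g⁻¹ ∈ Pg G z w := by
    have a1 := h2.1.conj g
    have a2 := h2.2.conj g
    rw [hgw] at a1
    rw [h1.1 z hz] at a2
    exact ⟨a1, a2⟩
  have k2 : h * g⁻¹ * h⁻¹ ∈ Pg G y w := by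
    have a1 := h1.1.inv.conj h
    have a2 := h1.2.inv.conj h
    rw [hhw] at a1
    rw [h2.1 y hy] at a2
    exact ⟨a1, a2⟩
  have k3 : g * h * g⁻¹ * h⁻¹ = 1 := by
    refine Pg_inter (Ne.symm hyz) (mul_mem k1 (inv_mem h2)) (w := w) ?_
    have : g * h * g⁻¹ * h⁻¹ = g * (h * g⁻¹ * h⁻¹) := by group
    rw [this]
    exact mul_mem h1 k2
  calc g * h = (g * h * g⁻¹ * h⁻¹) * (h * g) := by group
    _ = h * g := by rw [k3, one_mul]

theorem Two.other {w : L} (h : Two G P w) (z : P) : ∃ (y : P) (g : G), y ≠ z ∧ y ∈ w ∧ g ∈ Pg G y w ∧ g ≠ 1 := by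
  obtain ⟨y1, y2, g1, g2, h1, h2, h3, h4, h5, h6, h7⟩ := h
  by_cases hz : y1 = z
  · exact ⟨y2, g2, fun h => h1 (hz.trans h.symm), h3, h5, h7⟩
  · exact ⟨y1, g1, hz, h2, h4, h6⟩

theorem Two.comm {w : L} (h : Two G P w) {a b : G} (ha : a ∈ El G P w) (hb : b ∈ El G P w) : a * b = b * a := by
  obtain ⟨y, hy, hay⟩ := exPg ha
  obtain ⟨z, hz, hbz⟩ := exPg hb
  by_cases hyz : y = z
  · subst hyz
    obtain ⟨x, g, hxy, hx, hg, hg1⟩ := h.other y
    obtain ⟨u, hu, hag⟩ := exPg (mul_mem ha (Pg_le_El hx hg) : a * g ∈ El G P w)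
    have huy : u ≠ y := by
      rintro rfl
      have : g ∈ Pg G u w := by
        have h1 : g = a⁻¹ * (a * g) := by group
        rw [h1]; exact mul_mem (inv_mem hay) hag
      exact hg1 (Pg_inter hxy hg this)
    have h1 := Pg_comm huy hu hy hag hbz
    have h2 := Pg_comm hxy hx hy hg hbz
    have h3 : a * b * g = b * a * g := by
      rw [mul_assoc, ← h2, ← mul_assoc, h1, mul_assoc]
    exact mul_right_cancel h3
  · exact Pg_comm hyz hy hz hay hbz

/-- the exponent of the elation group is a prime -/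
theorem Two.exponent [Finite G] {w : L} (h : Two G P w) : ∃ p : ℕ, p.Prime ∧ ∀ a ∈ El G P w, a ^ p = 1 := by
  obtain ⟨y, z, g, k, hyz, hy, hz, hg, hk, hg1, hk1⟩ := id h
  obtain ⟨p, hp, hpd⟩ := Nat.exists_prime_and_dvd (n := orderOf g) (by rwa [ne_eq, orderOf_eq_one_iff])
  refine ⟨p, hp, ?_⟩
  -- an element of order `p` with centre `y`
  have hg0 : orderOf (g ^ (orderOf g / p)) = p := orderOf_pow_orderOf_div (orderOf_pos g).ne' hpd
  set g0 := g ^ (orderOf g / p) with hg0d
  have hg0y : g0 ∈ Pg G y w := pow_mem hg _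
  have hg0p : g0 ^ p = 1 := by rw [← hg0]; exact pow_orderOf_eq_one _
  have hg01 : g0 ≠ 1 := by
    intro h1
    rw [h1, orderOf_one] at hg0
    exact hp.one_lt.ne hg0
  -- elements with a different centre
  have key : ∀ (x : P) (c : G), x ∈ w → c ∈ Pg G x w → c ≠ 1 → c ^ p = 1 →
      ∀ (u : P) (b : G), u ≠ x → u ∈ w → b ∈ Pg G u w → b ^ p = 1 := by
    intro x c hx hc hc1 hcp u b hux hu hb
    obtain ⟨v, hv, hcb⟩ := exPg (mul_mem (Pg_le_El hx hc) (Pg_le_El hu hb) : c * b ∈ El G P w)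
    have hvu : v ≠ u := by
      rintro rfl
      have h2 : c ∈ Pg G v w := by
        have h1 : c = (c * b) * b⁻¹ := by group
        rw [h1]; exact mul_mem hcb (inv_mem hb)
      exact hc1 (Pg_inter (Ne.symm hux) hc h2)
    have h1 : (c * b) ^ p = b ^ p := by
      rw [(show Commute c b from Pg_comm (Ne.symm hux) hx hu hc hb).mul_pow, hcp, one_mul]
    exact Pg_inter hvu (h1 ▸ pow_mem hcb p) (pow_mem hb p)
  have hkp : k ^ p = 1 := key y g0 hy hg0y hg01 hg0p z k (Ne.symm hyz) hz hk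
  intro a ha
  obtain ⟨u, hu, hau⟩ := exPg ha
  by_cases huy : u = y
  · exact key z k hz hk hk1 hkp u a (huy ▸ hyz) hu hau
  · exact key y g0 hy hg0y hg01 hg0p u a huy hu hau

/-- an elation with axis `w ∋ c` commuting with a homology with centre `c` -/
theorem centre_of_comm {c z : P} {w a : L} {t e : G} (hcw : c ∈ w) (hca : c ∉ a) (t1 : t ≠ 1) (ta : Ax t a P)
    (tc : Ce t c L) (hz : z ∈ w) (hza : z ∈ a) (he : e ∈ El G P w) (hte : t * e * t⁻¹ = e) : e ∈ Pg G z w := by
  by_cases he1 : e = 1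
  · rw [he1]; exact one_mem _
  obtain ⟨y, hy, hey⟩ := exPg he
  have h1 : t • y = y := by
    have h2 := hey.2.conj t
    rw [hte] at h2
    exact ce_unique h2 hey.2 (not_triv he1)
  have haw : w ≠ a := fun h => hca (h ▸ hcw)
  rcases fixpt ta tc (not_triv t1) h1 with h2 | h2
  · have : y = z := uP haw hy h2 hz hza
    exact this ▸ hey
  · exfalso
    subst h2
    have h3 : e * t * e⁻¹ = t := by
      have h4 : t * e = e * t := by
        calc t * e = (t * e * t⁻¹) * t := by group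
          _ = e * t := by rw [hte]
      rw [← h4]; group
    have h4 : e • a = a := by
      have h5 := ta.conj e
      rw [h3] at h5
      exact ax_unique h5 ta (not_triv t1)
    rcases fixln hey.1 hey.2 (not_triv he1) h4 with h5 | h5
    · exact hca h5
    · exact haw h5.symm

/-- an elation with axis `w ∋ c` inverted by a homology with centre `c` -/
theorem centre_of_inv [Finite G] {c z : P} {w a : L} {t e : G} (hcw : c ∈ w) (hca : c ∉ a) (t1 : t ≠ 1) (ta : Ax t a P)
    (tc : Ce t c L) (hz : z ∈ w) (hza : z ∈ a) (hodd : Odd (order P L)) (he : e ∈ El G P w)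
    (hte : t * e * t⁻¹ = e⁻¹) : e ∈ Pg G c w := by
  by_cases he1 : e = 1
  · rw [he1]; exact one_mem _
  obtain ⟨y, hy, hey⟩ := exPg he
  have h1 : t • y = y := by
    have h2 := hey.2.conj t
    rw [hte] at h2
    exact ce_unique h2 hey.2.inv (not_triv (inv_ne_one.2 he1))
  have haw : w ≠ a := fun h => hca (h ▸ hcw)
  rcases fixpt ta tc (not_triv t1) h1 with h2 | h2
  · exfalso
    have hyz : y = z := uP haw hy h2 hz hza
    subst hyz
    obtain ⟨r, hr, hrz, -⟩ := ex_third a y y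
    have hrw : r ∉ w := fun h => hrz (uP haw h hr hy hza)
    have hea : e • a = a := hey.2 a hza
    have her : e • r ∈ a := by have := mem_smul e hr; rwa [hea] at this
    have h3 : e⁻¹ • r = e • r := by
      rw [← hte, mul_smul, mul_smul, ta.inv r hr, ta _ her]
    have h4 : e⁻¹ = e := El_eq (inv_mem he) he hrw h3
    have h5 : e ^ 2 = 1 := by
      rw [pow_two]
      nth_rewrite 1 [← h4]
      group
    have h6 : Odd (Nat.card (El G P w)) := odd_El hodd w
    have h7 : orderOf e ∣ 2 := orderOf_dvd_of_pow_eq_one h5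
    have h8 : orderOf e ∣ Nat.card (El G P w) := by
      have := orderOf_dvd_natCard (⟨e, he⟩ : El G P w)
      rwa [Subgroup.orderOf_mk] at this
    have h9 : orderOf e ∣ 1 := by
      have : Nat.Coprime 2 (Nat.card (El G P w)) := (Nat.coprime_two_left).2 h6
      rw [← this.gcd_eq_one]; exact Nat.dvd_gcd h7 h8
    exact he1 (orderOf_eq_one_iff.1 (Nat.dvd_one.1 h9))
  · exact h2 ▸ hey

/-- the decomposition of the elation group -/
theorem card_El_eq [Finite G] (hodd : Odd (order P L)) {w a : L} {c z : P} (hT : Two G P w) (hcw : c ∈ w)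
    (hH : Hom G c a) (hz : z ∈ w) (hza : z ∈ a) :
    Nat.card (El G P w) = Nat.card (Pg G c w) * Nat.card (Pg G z w) := by
  obtain ⟨t, t1, t2, ta, tc, hca⟩ := hH
  have hcz : c ≠ z := fun h => hca (h ▸ hza)
  have htw : t • w = w := tc w hcw
  have hti : t⁻¹ = t := by rw [inv_eq_iff_mul_eq_one, ← pow_two, t2]
  have hconj : ∀ e ∈ El G P w, t * e * t⁻¹ ∈ El G P w := by
    rintro e ⟨h1, y, hy, h2⟩
    have h3 := h1.conj t
    rw [htw] at h3
    refine ⟨h3, t • y, ?_, h2.conj t⟩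
    have := mem_smul t hy
    rwa [htw] at this
  rw [← Nat.card_prod]
  symm
  refine Nat.card_congr (Equiv.ofBijective
    (fun x => (⟨x.1.1 * x.2.1, mul_mem (Pg_le_El hcw x.1.2) (Pg_le_El hz x.2.2)⟩ : El G P w)) ⟨?_, ?_⟩)
  · rintro ⟨⟨x, hx⟩, ⟨y, hy⟩⟩ ⟨⟨x', hx'⟩, ⟨y', hy'⟩⟩ h
    have h1 : x * y = x' * y' := congrArg Subtype.val h
    have h2 : x'⁻¹ * x = y' * y⁻¹ := by
      rw [inv_mul_eq_iff_eq_mul, ← mul_assoc, ← h1]; group
    have h3 : x'⁻¹ * x = 1 := Pg_inter hcz (mul_mem (inv_mem hx') hx) (h2 ▸ mul_mem hy' (inv_mem hy))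
    have h4 : x = x' := (inv_mul_eq_one.1 h3).symm
    have h5 : y = y' := by
      rw [h3] at h2
      exact (mul_inv_eq_one.1 h2.symm).symm
    subst h4; subst h5; rfl
  · rintro ⟨e, he⟩
    have h1 := hconj e he
    -- the two components of `e²`
    have c1 : e * (t * e * t⁻¹) ∈ Pg G z w := by
      refine centre_of_comm hcw hca t1 ta tc hz hza (mul_mem he h1) ?_
      calc t * (e * (t * e * t⁻¹)) * t⁻¹ = (t * e * t⁻¹) * (t * t * e * (t⁻¹ * t⁻¹)) := by group
        _ = (t * e * t⁻¹) * e := by rw [hti, ← pow_two, t2, one_mul, mul_one]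
        _ = e * (t * e * t⁻¹) := hT.comm h1 he
    have c2 : e⁻¹ * (t * e * t⁻¹) ∈ Pg G c w := by
      refine centre_of_inv hcw hca t1 ta tc hz hza hodd (mul_mem (inv_mem he) h1) ?_
      calc t * (e⁻¹ * (t * e * t⁻¹)) * t⁻¹ = (t * e * t⁻¹)⁻¹ * (t * t * e * (t⁻¹ * t⁻¹)) := by group
        _ = (t * e * t⁻¹)⁻¹ * e := by rw [hti, ← pow_two, t2, one_mul, mul_one]
        _ = (e⁻¹ * (t * e * t⁻¹))⁻¹ := by group
    have c3 : e ^ 2 = (e⁻¹ * (t * e * t⁻¹))⁻¹ * (e * (t * e * t⁻¹)) := by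
      have h2 := hT.comm he h1
      generalize t * e * t⁻¹ = d at h2
      calc e ^ 2 = d⁻¹ * (d * e) * e := by rw [pow_two]; group
        _ = d⁻¹ * (e * d) * e := by rw [h2]
        _ = d⁻¹ * e * (d * e) := by group
        _ = (e⁻¹ * d)⁻¹ * (e * d) := by rw [← h2]; group
    have h6 : Odd (Nat.card (El G P w)) := odd_El hodd w
    obtain ⟨k, hk⟩ := h6
    have h7 : e ^ (2 * (k + 1)) = e := by
      have h8 : e ^ Nat.card (El G P w) = 1 := by
        have := pow_card_eq_one' (x := (⟨e, he⟩ : El G P w))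
        exact congrArg Subtype.val this
      rw [show 2 * (k + 1) = (2 * k + 1) + 1 by ring, pow_succ, ← hk, h8, one_mul]
    have h8 : e = ((e⁻¹ * (t * e * t⁻¹))⁻¹) ^ (k + 1) * (e * (t * e * t⁻¹)) ^ (k + 1) := by
      have hcm : Commute ((e⁻¹ * (t * e * t⁻¹))⁻¹) (e * (t * e * t⁻¹)) :=
        Pg_comm hcz hcw hz (inv_mem c2) c1
      rw [← hcm.mul_pow, ← c3, ← pow_mul, h7]
    exact ⟨⟨⟨_, pow_mem (inv_mem c2) (k + 1)⟩, ⟨_, pow_mem c1 (k + 1)⟩⟩, Subtype.ext h8.symm⟩


/-- the final count -/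
theorem arith {Z : Type*} [Finite Z] [Nonempty Z] (h : Z → ℕ) (q k : ℕ) (hk : Nat.card Z = k + 1)
    (ha : ∀ z, ∃ z', z' ≠ z ∧ h z * h z' = q) (hb : ∀ z z', z ≠ z' → h z * h z' ≤ q) (hc : ∀ z, 2 ≤ h z)
    (hd : ∀ _F : Fintype Z, ∑ z, (h z - 1) = q - 1) : ∃ z, h z = k := by
  classical
  have := Fintype.ofFinite Z
  obtain ⟨z0, hz0⟩ := Finite.exists_max h
  have key : ∀ z, z ≠ z0 → h z * h z0 = q := by
    intro z hz
    obtain ⟨z', -, hz'⟩ := ha z
    exact le_antisymm (hb z z0 hz) (by rw [← hz']; exact Nat.mul_le_mul_left _ (hz0 z'))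
  obtain ⟨z1, hz1, hq⟩ := ha z0
  have hconst : ∀ z, z ≠ z0 → h z = h z1 := by
    intro z hz
    have h1 := key z hz
    have h2 := key z1 hz1
    exact Nat.eq_of_mul_eq_mul_right (by have := hc z0; omega) (h1.trans h2.symm)
  have hs := hd inferInstance
  rw [← Finset.add_sum_erase Finset.univ (fun z => h z - 1) (Finset.mem_univ z0)] at hs
  rw [Finset.sum_congr rfl (g := fun _ => h z1 - 1) (by
    intro z hz
    rw [hconst z (Finset.ne_of_mem_erase hz)])] at hs
  rw [Finset.sum_const, Finset.card_erase_of_mem (Finset.mem_univ _), Finset.card_univ,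
    ← Nat.card_eq_fintype_card, hk, Nat.add_sub_cancel, smul_eq_mul] at hs
  refine ⟨z0, ?_⟩
  have c0 := hc z0
  have c1 := hc z1
  obtain ⟨x, hx⟩ := Nat.exists_eq_add_of_le c0
  obtain ⟨y, hy⟩ := Nat.exists_eq_add_of_le c1
  rw [← hq, hx, hy] at hs
  have e1 : 2 + x - 1 = x + 1 := by omega
  have e2 : 2 + y - 1 = y + 1 := by omega
  rw [e1, e2] at hs
  have e3 : (2 + x) * (2 + y) - 1 = (x + 1) + (2 + x) * (y + 1) := by
    have : (2 + x) * (2 + y) = (x + 1) + (2 + x) * (y + 1) + 1 := by ring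
    omega
  rw [e3] at hs
  have hs' := Nat.add_left_cancel hs
  rw [hx]
  exact (Nat.eq_of_mul_eq_mul_right (by omega) hs').symm

/-- the non-trivial elations with axis `w` are partitioned by their centres -/
theorem card_El_sum [Finite G] (w : L) (F : Fintype {z : P // z ∈ w}) :
    ∑ z : {z : P // z ∈ w}, (Nat.card (Pg G z.1 w) - 1) = Nat.card (El G P w) - 1 := by
  classical
  have h0 : ∀ (H : Subgroup G), Nat.card H - 1 = Nat.card {g : G // g ∈ H ∧ g ≠ 1} := by
    intro H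
    have h1 : Nat.card {g : H // g = 1} + Nat.card {g : H // ¬ g = 1} = Nat.card H := by
      rw [← Nat.card_sum]; exact Nat.card_congr (Equiv.sumCompl _)
    have h2 : Nat.card {g : H // g = 1} = 1 := by
      rw [Nat.card_eq_one_iff_unique]
      exact ⟨⟨fun a b => Subtype.ext (a.2.trans b.2.symm)⟩, ⟨⟨1, rfl⟩⟩⟩
    have h3 : Nat.card {g : H // ¬ g = 1} = Nat.card {g : G // g ∈ H ∧ g ≠ 1} :=
      Nat.card_congr ⟨fun g => ⟨g.1.1, g.1.2, fun h => g.2 (Subtype.ext h)⟩,
        fun g => ⟨⟨g.1, g.2.1⟩, fun h => g.2.2 (congrArg Subtype.val h)⟩, fun _ => rfl, fun _ => rfl⟩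
    omega
  simp only [h0]
  rw [← Nat.card_sigma]
  refine Nat.card_congr (Equiv.ofBijective (fun x => ⟨x.2.1, Pg_le_El x.1.2 x.2.2.1, x.2.2.2⟩) ⟨?_, ?_⟩)
  · rintro ⟨⟨z, hz⟩, ⟨g, hg, hg1⟩⟩ ⟨⟨z', hz'⟩, ⟨g', hg', hg1'⟩⟩ h
    have h1 : g = g' := congrArg Subtype.val h
    subst h1
    have h2 : z = z' := by
      by_contra h3
      exact hg1 (Pg_inter h3 hg hg')
    subst h2
    rfl
  · rintro ⟨g, hg, hg1⟩
    obtain ⟨z, hz, hgz⟩ := exPg hg
    exact ⟨⟨⟨z, hz⟩, ⟨g, hgz, hg1⟩⟩, rfl⟩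

theorem Pg_mul_le [Finite G] {w : L} {y z : P} (hy : y ∈ w) (hz : z ∈ w) (hyz : y ≠ z) :
    Nat.card (Pg G y w) * Nat.card (Pg G z w) ≤ Nat.card (El G P w) := by
  rw [← Nat.card_prod]
  refine Nat.card_le_card_of_injective
    (fun x : Pg G y w × Pg G z w => (⟨x.1.1 * x.2.1, mul_mem (Pg_le_El hy x.1.2) (Pg_le_El hz x.2.2)⟩ : El G P w)) ?_
  rintro ⟨⟨x, hx⟩, ⟨v, hv⟩⟩ ⟨⟨x', hx'⟩, ⟨v', hv'⟩⟩ h
  have h1 : x * v = x' * v' := congrArg Subtype.val h
  have h2 : x'⁻¹ * x = v' * v⁻¹ := by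
    rw [inv_mul_eq_iff_eq_mul, ← mul_assoc, ← h1]; group
  have h3 : x'⁻¹ * x = 1 := Pg_inter hyz (mul_mem (inv_mem hx') hx) (h2 ▸ mul_mem hv' (inv_mem hv))
  have h4 : x = x' := (inv_mul_eq_one.1 h3).symm
  have h5 : v = v' := by
    rw [h3] at h2
    exact (mul_inv_eq_one.1 h2.symm).symm
  subst h4; subst h5; rfl

/-- **Case one**: the order is a prime power. -/
theorem Two.primePow [Finite G] (hodd : Odd (order P L)) (hc : ∀ y : P, ∃ a : L, Hom G y a) {w : L}
    (hT : Two G P w) : ∃ p k : ℕ, p.Prime ∧ order P L = p ^ k := by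
  classical
  have hne : Nonempty {z : P // z ∈ w} := by
    obtain ⟨y, -, -, -, -, hy, -⟩ := hT
    exact ⟨⟨y, hy⟩⟩
  have part : ∀ z : {z : P // z ∈ w}, ∃ z' : {z : P // z ∈ w}, z' ≠ z ∧
      Nat.card (Pg G z.1 w) * Nat.card (Pg G z'.1 w) = Nat.card (El G P w) := by
    rintro ⟨z, hz⟩
    obtain ⟨a, ha⟩ := hc z
    have hza : z ∉ a := ha.ex_off.1
    have hwa : w ≠ a := fun h => hza (h ▸ hz)
    obtain ⟨x, hx1, hx2⟩ := exP0 (P := P) hwa
    refine ⟨⟨x, hx1⟩, fun h => ?_, (card_El_eq hodd hT hz ha hx1 hx2).symm⟩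
    have h' : x = z := congrArg Subtype.val h
    exact hza (h' ▸ hx2)
  have hle : ∀ z : P, z ∈ w → Nat.card (Pg G z w) ≤ Nat.card (El G P w) := fun z hz =>
    Subgroup.card_le_of_le (Pg_le_El hz)
  obtain ⟨⟨z, hz⟩, hzk⟩ := arith (Z := {z : P // z ∈ w}) (fun z => Nat.card (Pg G z.1 w)) (Nat.card (El G P w))
    (order P L) (card_pts w) part
    (fun y z hyz => Pg_mul_le y.2 z.2 (fun h => hyz (Subtype.ext h)))
    (by
      rintro ⟨z, hz⟩
      by_contra hlt
      have hpos : 0 < Nat.card (Pg G z w) := Nat.card_pos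
      have h1 : Nat.card (Pg G z w) = 1 := by
        change ¬ 2 ≤ Nat.card (Pg G z w) at hlt
        omega
      obtain ⟨⟨x, hx⟩, hxz, hq⟩ := part ⟨z, hz⟩
      change Nat.card (Pg G z w) * Nat.card (Pg G x w) = _ at hq
      rw [h1, one_mul] at hq
      have h2 : Pg G x w = El G P w := Subgroup.eq_of_le_of_card_ge (Pg_le_El hx) (le_of_eq hq.symm)
      obtain ⟨y, g, hyx, hy, hg, hg1⟩ := hT.other x
      have h3 : g ∈ Pg G x w := h2 ▸ Pg_le_El hy hg
      exact hg1 (Pg_inter hyx hg h3))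
    (fun F => card_El_sum w F)
  obtain ⟨p, hp, hexp⟩ := hT.exponent
  have : Fact p.Prime := ⟨hp⟩
  have hpg : IsPGroup p (Pg G z w) := by
    intro g
    exact ⟨1, Subtype.ext (by rw [pow_one]; exact hexp g.1 (Pg_le_El hz g.2))⟩
  obtain ⟨k, hk⟩ := hpg.exists_card_eq
  exact ⟨p, k, hp, hzk.symm.trans hk⟩

end Cfsg.Agent.H985.Pl
end

-- part: H985/Polar
section
/-!
# A polarity of a finite projective plane has an absolute point (S3732, helper985)
-/

set_option autoImplicit false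

namespace Cfsg.Agent.H985.Pl

open Configuration Configuration.ProjectivePlane

open Classical in
theorem no_polarity {P L : Type*} [Membership P L] [ProjectivePlane P L] [Finite P] [Finite L] (f : P → L)
    (hinj : Function.Injective f) (hsymm : ∀ x y : P, y ∈ f x → x ∈ f y) (habs : ∀ x : P, x ∉ f x) : False := by
  have := Fintype.ofFinite P
  obtain ⟨p, hp, hpn⟩ := Nat.exists_prime_and_dvd (n := order P L) (by have := one_lt_order P L; omega)
  have : Fact p.Prime := ⟨hp⟩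
  have hn : ((order P L : ℕ) : ZMod p) = 0 := (ZMod.natCast_eq_zero_iff _ _).2 hpn
  let N : Matrix P P (ZMod p) := fun x y => if y ∈ f x then 1 else 0
  let J : Matrix P P (ZMod p) := fun _ _ => 1
  have hcard : ∀ x : P, ((Finset.univ.filter (fun z : P => z ∈ f x)).card : ZMod p) = 1 := by
    intro x
    rw [← Fintype.card_subtype, ← Nat.card_eq_fintype_card, card_pts]
    push_cast
    rw [hn, zero_add]
  have hNN : N * N = J := by
    ext x y
    rw [Matrix.mul_apply]
    have h1 : ∀ z : P, N x z * N z y = if (z ∈ f x ∧ z ∈ f y) then 1 else 0 := by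
      intro z
      have h2 : y ∈ f z ↔ z ∈ f y := ⟨fun h => hsymm z y h, fun h => hsymm y z h⟩
      simp only [N, h2]
      by_cases ha : z ∈ f x <;> by_cases hb : z ∈ f y <;> simp [ha, hb]
    rw [Finset.sum_congr rfl (fun z _ => h1 z), Finset.sum_boole]
    change _ = (1 : ZMod p)
    by_cases hxy : x = y
    · subst hxy
      simp only [and_self]
      exact hcard x
    · obtain ⟨z, hz⟩ := exP0 (P := P) (fun h => hxy (hinj h) : f x ≠ f y)
      have h3 : (Finset.univ.filter (fun w : P => w ∈ f x ∧ w ∈ f y)) = {z} := by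
        ext w
        simp only [Finset.mem_filter, Finset.mem_univ, true_and, Finset.mem_singleton]
        exact ⟨fun hw => uP (fun h => hxy (hinj h)) hw.1 hw.2 hz.1 hz.2, fun hw => hw ▸ hz⟩
      rw [h3, Finset.card_singleton, Nat.cast_one]
  have hNJ : N * J = J := by
    ext x y
    rw [Matrix.mul_apply]
    have h1 : ∀ z : P, N x z * J z y = if z ∈ f x then 1 else 0 := fun z => mul_one _
    rw [Finset.sum_congr rfl (fun z _ => h1 z), Finset.sum_boole]
    exact hcard x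
  have hpow : ∀ m : ℕ, 2 ≤ m → N ^ m = J := by
    intro m hm
    induction m, hm using Nat.le_induction with
    | base => rw [pow_two, hNN]
    | succ m hm ih => rw [pow_succ', ih, hNJ]
  have h1 : N ^ p = J := hpow p hp.two_le
  have h2 : Matrix.trace (N ^ p) = Matrix.trace N ^ p := ZMod.trace_pow_card N
  have h3 : Matrix.trace N = 0 := by
    change ∑ x : P, N x x = 0
    refine Finset.sum_eq_zero fun x _ => ?_
    simp only [N, if_neg (habs x)]
  have h4 : Matrix.trace J = 1 := by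
    change ∑ x : P, (1 : ZMod p) = 1
    simp only [Finset.sum_const, Finset.card_univ, nsmul_eq_mul, mul_one]
    rw [← Nat.card_eq_fintype_card, card_P P L]
    push_cast
    rw [hn]; ring
  rw [h1, h3, h4, zero_pow hp.ne_zero] at h2
  exact one_ne_zero h2

end Cfsg.Agent.H985.Pl
end

-- part: H985/ThmB
section
/-!
# Theorem B (S3732, helper985)

`primePow_of_hom` : a finite plane of odd order with a collineation group all of whose involutions are homologies, such
that any two points and any two lines are fixed by an involution, has prime power order.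
-/

set_option autoImplicit false
set_option linter.unusedSectionVars false

namespace Cfsg.Agent.H985.Pl

open Configuration Configuration.ProjectivePlane

variable {G P L : Type*} [Group G] [Membership P L] [MulAction G P] [MulAction G L]

variable (G) in
/-- there is a non-trivial elation with centre `z` and axis `w` -/
def Fl (z : P) (w : L) : Prop := z ∈ w ∧ ∃ g : G, g ≠ 1 ∧ Ax g w P ∧ Ce g z L

theorem Fl.dual {z : P} {w : L} (h : Fl G z w) : Fl G (P := Dual L) (L := Dual P) w z := by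
  obtain ⟨h1, g, h2, h3, h4⟩ := h
  exact ⟨h1, g, h2, h4, h3⟩

theorem Fl.of_dual {z : P} {w : L} (h : Fl G (P := Dual L) (L := Dual P) w z) : Fl G z w := by
  obtain ⟨h1, g, h2, h3, h4⟩ := h
  exact ⟨h1, g, h2, h4, h3⟩

variable [Act G P L] [ProjectivePlane P L] [Finite P] [Finite L] [FaithfulSMul G P]

theorem Fl.conj {z : P} {w : L} (h : Fl G z w) (g : G) : Fl G (g • z) (g • w) := by
  obtain ⟨h1, s, h2, h3, h4⟩ := h
  refine ⟨mem_smul g h1, g * s * g⁻¹, ?_, h3.conj g, h4.conj g⟩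
  intro h6
  apply h2
  have : s = g⁻¹ * (g * s * g⁻¹) * g := by group
  rw [this, h6]; group

variable (G P L) in
/-- the matching case -/
structure Mat : Prop where
  m1 : ∀ (y z : P) (w : L), Fl G y w → Fl G z w → y = z
  m2 : ∀ (z : P) (v w : L), Fl G z v → Fl G z w → v = w
  hc : ∀ y : P, ∃ a : L, Hom G y a
  ha : ∀ a : L, ∃ c : P, Hom G c a

theorem Mat.dual (h : Mat G P L) : Mat G (Dual L) (Dual P) where
  m1 := fun _ _ _ h1 h2 => h.m2 _ _ _ (Fl.of_dual (P := P) (L := L) h1) (Fl.of_dual (P := P) (L := L) h2)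
  m2 := fun _ _ _ h1 h2 => h.m1 _ _ _ (Fl.of_dual (P := P) (L := L) h1) (Fl.of_dual (P := P) (L := L) h2)
  hc := fun y => ⟨(h.ha y).choose, (h.ha y).choose_spec.dual⟩
  ha := fun a => ⟨(h.hc a).choose, (h.hc a).choose_spec.dual⟩

/-- the centres of `w` lie on a line through `z` -/
theorem Mat.factG [Finite G] (h : Mat G P L) {z : P} {w : L} (hF : Fl G z w) {c d : P} (hc : Hom G c w)
    (hd : Hom G d w) {l : L} (hz : z ∈ l) (hcl : c ∈ l) : d ∈ l := by
  obtain ⟨e, he, hec⟩ := hc.trans hd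
  by_cases he1 : e = 1
  · subst he1
    rw [one_smul] at hec
    exact hec ▸ hcl
  · obtain ⟨y, hy, hey⟩ := exPg he
    have hyz : y = z := h.m1 _ _ _ ⟨hy, e, he1, hey.1, hey.2⟩ hF
    subst hyz
    have := mem_smul e hcl
    rwa [hec, hey.2 l hz] at this

theorem Mat.factE [Finite G] (h : Mat G P L) {z : P} {w : L} (hF : Fl G z w) {a b : L} (ha : Hom G z a)
    (hb : Hom G z b) {x : P} (hx : x ∈ w) (hxa : x ∈ a) : x ∈ b := by
  have := faithfulL G P L
  have : FaithfulSMul G (Dual L) := this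
  exact Mat.factG (P := Dual L) (L := Dual P) h.dual hF.dual ha.dual hb.dual hx hxa

theorem Mat.stepA (h : Mat G P L) {z y : P} {w v : L} (h1 : Fl G z w) (h2 : Fl G y v) (hzy : z ≠ y) : y ∉ w := by
  intro hyw
  obtain ⟨hyv, e, he, e1, e2⟩ := id h2
  have h3 := h1.conj e
  rw [e2 w hyw] at h3
  have h4 := h.m1 _ _ _ h3 h1
  rcases fixpt e1 e2 (not_triv he) h4 with h5 | h5
  · have hwv : w ≠ v := fun h6 => hzy (h.m1 _ _ _ h1 (h6 ▸ h2))
    exact hzy (uP hwv h1.1 h5 hyw hyv)
  · exact hzy h5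

theorem Mat.stepB [Finite G] (h : Mat G P L) {z y : P} {w v : L} (h1 : Fl G z w) (h2 : Fl G y v) (hzy : z ≠ y)
    {a : L} (ha : Hom G z a) : ∃ c : P, c ∈ w ∧ c ∈ v ∧ c ∈ a := by
  obtain ⟨u, hu1, hu2⟩ := exL0 (L := L) hzy
  obtain ⟨c, s, s1, s2, s3, s4, s5⟩ := h.ha u
  have hnt := not_triv (P := P) s1
  have hyw := h.stepA h1 h2 hzy
  have hzv := h.stepA h2 h1 (Ne.symm hzy)
  have hsz : s • z = z := s3 z hu1
  have hsy : s • y = y := s3 y hu2
  have hsw : s • w = w := by
    have h3 := h1.conj s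
    rw [hsz] at h3
    exact h.m2 _ _ _ h3 h1
  have hsv : s • v = v := by
    have h3 := h2.conj s
    rw [hsy] at h3
    exact h.m2 _ _ _ h3 h2
  have hwu : w ≠ u := fun h3 => hyw (h3 ▸ hu2)
  have hvu : v ≠ u := fun h3 => hzv (h3 ▸ hu1)
  have hcw : c ∈ w := (fixln s3 s4 hnt hsw).resolve_right hwu
  have hcv : c ∈ v := (fixln s3 s4 hnt hsv).resolve_right hvu
  refine ⟨c, hcw, hcv, ?_⟩
  have hza : z ∉ a := ha.ex_off.1
  have hwa : w ≠ a := fun h3 => hza (h3 ▸ h1.1)
  obtain ⟨x, hx1, hx2⟩ := exP0 (P := P) hwa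
  have hb := ha.conj s
  rw [hsz] at hb
  have hx3 := h.factE h1 ha hb hx1 hx2
  have hx4 : s • x ∈ w := by have := mem_smul s hx1; rwa [hsw] at this
  have hwb : w ≠ s • a := fun h3 => hb.ex_off.1 (h3 ▸ h1.1)
  have hx5 : s • x = x := uP hwb hx4 (mem_smul s hx2) hx1 hx3
  rcases fixpt s3 s4 hnt hx5 with h6 | h6
  · have : x = z := uP hwu hx1 h6 h1.1 hu1
    exact absurd (this ▸ hx2) hza
  · exact h6 ▸ hx2

theorem Mat.stepB' [Finite G] (h : Mat G P L) {z y : P} {w v : L} (h1 : Fl G z w) (h2 : Fl G y v) (hwv : w ≠ v)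
    {c : P} (hc : Hom G c w) : ∃ l : L, z ∈ l ∧ y ∈ l ∧ c ∈ l := by
  have := faithfulL G P L
  have : FaithfulSMul G (Dual L) := this
  exact Mat.stepB (P := Dual L) (L := Dual P) h.dual h1.dual h2.dual hwv hc.dual

/-- all axes pass through one point -/
theorem Mat.point [Finite G] (h : Mat G P L) {z z' : P} {w w' : L} (h1 : Fl G z w) (h2 : Fl G z' w') (hzz : z ≠ z') :
    ∃ o : P, ∀ (y : P) (v : L), Fl G y v → o ∈ v := by
  obtain ⟨a, ha⟩ := h.hc z
  obtain ⟨c, c1, c2, c3⟩ := h.stepB h1 h2 hzz ha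
  have hwa : w ≠ a := fun h3 => ha.ex_off.1 (h3 ▸ h1.1)
  refine ⟨c, fun y v h3 => ?_⟩
  by_cases hyz : z = y
  · subst hyz
    rw [h.m2 _ _ _ h3 h1]; exact c1
  · obtain ⟨d, d1, d2, d3⟩ := h.stepB h1 h3 hyz ha
    rw [uP hwa c1 c3 d1 d3]; exact d2

theorem Mat.line [Finite G] (h : Mat G P L) {z z' : P} {w w' : L} (h1 : Fl G z w) (h2 : Fl G z' w') (hww : w ≠ w') :
    ∃ u : L, ∀ (y : P) (v : L), Fl G y v → y ∈ u := by
  have := faithfulL G P L
  have : FaithfulSMul G (Dual L) := this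
  obtain ⟨u, hu⟩ := Mat.point (P := Dual L) (L := Dual P) h.dual h1.dual h2.dual hww
  exact ⟨u, fun y v h3 => hu v y h3.dual⟩

/-- the matching case does not occur if there are elations -/
theorem Mat.false [Finite G] (h : Mat G P L) {z : P} {w : L} (h1 : Fl G z w) : False := by
  by_cases hex : ∃ (z' : P) (w' : L), z ≠ z' ∧ Fl G z' w'
  · obtain ⟨z', w', hzz, h2⟩ := hex
    have hww : w ≠ w' := fun h3 => hzz (h.m1 _ _ _ h1 (h3 ▸ h2))
    obtain ⟨o, ho⟩ := h.point h1 h2 hzz
    obtain ⟨u, hu⟩ := h.line h1 h2 hww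
    obtain ⟨m, hm, -, -⟩ := ex_thirdL o u u
    obtain ⟨d, hd1, hd2⟩ := exOff2 (P := P) u m
    have hdo : o ≠ d := fun h3 => hd2 (h3 ▸ hm)
    obtain ⟨b, s, s1, s2, s3, s4, s5⟩ := h.hc d
    have hnt := not_triv (P := P) s1
    have hso : s • o = o := by
      have hsw : s • w ≠ s • w' := fun h3 => hww (MulAction.injective s h3)
      exact uP hsw (mem_smul s (ho _ _ h1)) (mem_smul s (ho _ _ h2)) (ho _ _ (h1.conj s)) (ho _ _ (h2.conj s))
    have hsu : s • u = u := by
      have hsz : s • z ≠ s • z' := fun h3 => hzz (MulAction.injective s h3)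
      exact uL hsz (mem_smul s (hu _ _ h1)) (mem_smul s (hu _ _ h2)) (hu _ _ (h1.conj s)) (hu _ _ (h2.conj s))
    have hob : o ∈ b := (fixpt s3 s4 hnt hso).resolve_right hdo
    have hub : u = b := (fixln s3 s4 hnt hsu).resolve_left hd1
    have hwu : w ≠ u := fun h3 => h.stepA h1 h2 hzz (h3 ▸ hu _ _ h2)
    have hoz : o = z := uP hwu (ho _ _ h1) (hub ▸ hob) h1.1 (hu _ _ h1)
    exact h.stepA h2 h1 (Ne.symm hzz) (hoz ▸ ho _ _ h2)
  · push Not at hex
    have hfix : ∀ d : P, d ∉ w → Hom G d w := by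
      intro d hd
      obtain ⟨b, s, s1, s2, s3, s4, s5⟩ := h.hc d
      have h3 := h1.conj s
      have h4 : s • z = z := by
        by_contra h5
        exact hex _ _ (Ne.symm h5) h3
      rw [h4] at h3
      have h5 : s • w = w := h.m2 _ _ _ h3 h1
      have h6 : w = b := (fixln s3 s4 (not_triv s1) h5).resolve_left hd
      subst h6
      exact ⟨s, s1, s2, s3, s4, s5⟩
    obtain ⟨d, hd⟩ := exOffP (P := P) w
    obtain ⟨l, hl1, hl2⟩ := exL L z d
    obtain ⟨e, he1, he2⟩ := exOff2 (P := P) w l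
    exact he2 (h.factG h1 (hfix d hd) (hfix e he1) hl1 hl2)

/-- no elations at all: impossible -/
theorem no_elation_false [Finite G] (hodd : Odd (order P L)) (hc : ∀ y : P, ∃ a : L, Hom G y a)
    (hn : ∀ (z : P) (w : L), ¬ Fl G z w) : False := by
  have := faithfulL G P L
  have : FaithfulSMul G (Dual L) := this
  have u1 : ∀ (c d : P) (a : L), Hom G c a → Hom G d a → c = d := by
    intro c d a h1 h2
    obtain ⟨e, he, hec⟩ := h1.trans h2
    obtain ⟨z, hz, hez⟩ := exPg he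
    have he1 : e = 1 := by
      by_contra h3
      exact hn z a ⟨hz, e, h3, hez.1, hez.2⟩
    rw [he1, one_smul] at hec
    exact hec
  have u2 : ∀ (c : P) (a b : L), Hom G c a → Hom G c b → a = b := by
    intro c a b h1 h2
    obtain ⟨e, he, hec⟩ := Hom.trans (P := Dual L) (L := Dual P) h1.dual h2.dual
    obtain ⟨z, hz, hez⟩ := exPg he
    have he1 : e = 1 := by
      by_contra h3
      exact hn c z ⟨hz, e, h3, hez.2, hez.1⟩
    rw [he1] at hec
    exact (one_smul G (α := Dual L) a).symm.trans hec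
  choose f hf using hc
  refine no_polarity f (fun x y hxy => ?_) (fun x y hy => ?_) (fun x => (hf x).ex_off.1)
  · exact u1 _ _ _ (hf x) (hxy ▸ hf y)
  · obtain ⟨b, hb1, hb2⟩ := hom_through hodd (hf x) hy (hf y)
    rw [u2 _ _ _ (hf y) hb1]; exact hb2

/-- **Theorem B** -/
theorem primePow_of_hom [Finite G] (hodd : Odd (order P L)) (hA : AllHom G P L)
    (h2 : ∀ x y : P, x ≠ y → ∃ g : G, g ≠ 1 ∧ g ^ 2 = 1 ∧ g • x = x ∧ g • y = y)
    (h3 : ∀ l m : L, l ≠ m → ∃ g : G, g ≠ 1 ∧ g ^ 2 = 1 ∧ g • l = l ∧ g • m = m) :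
    ∃ p k : ℕ, p.Prime ∧ order P L = p ^ k := by
  have := faithfulL G P L
  have : FaithfulSMul G (Dual L) := this
  have hc : ∀ y : P, ∃ a : L, Hom G y a := all_centres hA h3
  have ha : ∀ a : L, ∃ c : P, Hom G c a := by
    intro a
    obtain ⟨c, hc⟩ := all_centres (P := Dual L) (L := Dual P) hA.dual h2 a
    exact ⟨c, hc.of_dual⟩
  by_cases hT : ∃ w : L, Two G P w
  · obtain ⟨w, hw⟩ := hT
    exact hw.primePow hodd hc
  by_cases hT' : ∃ w : Dual P, Two G (Dual L) w
  · obtain ⟨w, hw⟩ := hT'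
    obtain ⟨p, k, hp, hk⟩ := Two.primePow (P := Dual L) (L := Dual P) (by rw [Dual.order]; exact hodd)
      (fun a => ⟨(ha a).choose, (ha a).choose_spec.dual⟩) hw
    rw [Dual.order] at hk
    exact ⟨p, k, hp, hk⟩
  exfalso
  by_cases hn : ∀ (z : P) (w : L), ¬ Fl G z w
  · exact no_elation_false hodd hc hn
  · push Not at hn
    obtain ⟨z, w, hF⟩ := hn
    refine Mat.false (G := G) ⟨?_, ?_, hc, ha⟩ hF
    · rintro y z w ⟨hy, g, g1, g2, g3⟩ ⟨hz, k, k1, k2, k3⟩
      by_contra hyz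
      exact hT ⟨w, y, z, g, k, hyz, hy, hz, ⟨g2, g3⟩, ⟨k2, k3⟩, g1, k1⟩
    · rintro z v w ⟨hv, g, g1, g2, g3⟩ ⟨hw, k, k1, k2, k3⟩
      by_contra hvw
      exact hT' ⟨z, v, w, g, k, hvw, hv, hw, ⟨g3, g2⟩, ⟨k3, k2⟩, g1, k1⟩

end Cfsg.Agent.H985.Pl
end

-- part: H985/Trans
section
/-!
# Doubly transitive collineation groups (S3732, helper985)
-/

set_option autoImplicit false
set_option linter.unusedSectionVars false

namespace Cfsg.Agent.H985

theorem pigeon {Q : Type*} [Finite Q] (h : Nat.card Q ≤ 2) (a b c : Q) : a = b ∨ b = c ∨ a = c := by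
  classical
  by_contra hne
  push Not at hne
  obtain ⟨h1, h2, h3⟩ := hne
  have : Fintype Q := Fintype.ofFinite Q
  have h4 : ({a, b, c} : Finset Q).card = 3 := by
    rw [Finset.card_eq_three]
    exact ⟨a, b, c, h1, h3, h2, rfl⟩
  have h5 := Finset.card_le_univ ({a, b, c} : Finset Q)
  rw [Nat.card_eq_fintype_card] at h
  omega

theorem card_le_two {Q : Type*} (a b : Q) (h : ∀ c : Q, c = a ∨ c = b) : Nat.card Q ≤ 2 := by
  have : Nat.card Q ≤ Nat.card Bool := by
    refine Nat.card_le_card_of_surjective (fun t : Bool => if t then a else b) ?_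
    intro c
    rcases h c with h | h
    · exact ⟨true, by simp [h]⟩
    · exact ⟨false, by simp [h]⟩
  simpa using this

/-- doubly transitive -/
def T2 (G X : Type*) [Group G] [MulAction G X] : Prop :=
  ∀ p₁ p₂ q₁ q₂ : X, p₁ ≠ p₂ → q₁ ≠ q₂ → ∃ g : G, g • p₁ = q₁ ∧ g • p₂ = q₂

namespace Pl

open Configuration Configuration.ProjectivePlane

variable {G P L : Type*} [Group G] [Membership P L] [MulAction G P] [MulAction G L]
variable [Act G P L] [ProjectivePlane P L] [Finite P] [Finite L] [Finite G]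

variable (P) in
theorem ex_on (l : L) : ∃ p : P, p ∈ l := by
  obtain ⟨p, hp, -⟩ := ex_third (P := P) l (exOffP (P := P) l).choose (exOffP (P := P) l).choose
  exact ⟨p, hp⟩

variable (L) in
theorem ex_onL (p : P) : ∃ l : L, p ∈ l := ex_on (P := Dual L) (L := Dual P) p

theorem ex_on_ne (l : L) (q : P) : ∃ p : P, p ∈ l ∧ p ≠ q := by
  obtain ⟨p, hp, h, -⟩ := ex_third (P := P) l q q
  exact ⟨p, hp, h⟩

/-- as many orbits of a stabiliser on lines -/
theorem orbits_stab (H : Subgroup G) (h : Nat.card (MulAction.orbitRel.Quotient H P) ≤ 2) (k l m : L) :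
    (∃ g ∈ H, g • k = l) ∨ (∃ g ∈ H, g • l = m) ∨ (∃ g ∈ H, g • k = m) := by
  rw [card_orbits_eq (P := P) (L := L)] at h
  have key : ∀ u v : L, (Quotient.mk'' u : MulAction.orbitRel.Quotient H L) = Quotient.mk'' v →
      ∃ g ∈ H, g • u = v := by
    intro u v huv
    have h1 := Quotient.exact huv
    have h2 : u ∈ MulAction.orbit H v := h1
    obtain ⟨⟨g, hg⟩, hgv⟩ := h2
    refine ⟨g⁻¹, H.inv_mem hg, ?_⟩
    rw [inv_smul_eq_iff]
    exact hgv.symm
  have : Finite (MulAction.orbitRel.Quotient H L) := Quotient.finite _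
  rcases pigeon h (Quotient.mk'' k) (Quotient.mk'' l) (Quotient.mk'' m) with h1 | h1 | h1
  · exact Or.inl (key _ _ h1)
  · exact Or.inr (Or.inl (key _ _ h1))
  · exact Or.inr (Or.inr (key _ _ h1))

theorem card_quot_le_two {X : Type*} [MulAction G X] (H : Subgroup G) (a b : X)
    (h : ∀ c : X, (∃ g ∈ H, g • a = c) ∨ (∃ g ∈ H, g • b = c)) :
    Nat.card (MulAction.orbitRel.Quotient H X) ≤ 2 := by
  refine card_le_two (Quotient.mk'' a) (Quotient.mk'' b) ?_
  intro c
  induction c using Quotient.inductionOn' with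
  | h c =>
    rcases h c with ⟨g, hg, h⟩ | ⟨g, hg, h⟩
    · exact Or.inl (Quotient.sound ⟨⟨g, hg⟩, h⟩)
    · exact Or.inr (Quotient.sound ⟨⟨g, hg⟩, h⟩)

variable (L) in
include L in
theorem ex_ne (x : P) : ∃ y : P, y ≠ x := by
  obtain ⟨l, hl⟩ := ex_onL L x
  obtain ⟨y, -, h⟩ := ex_on_ne (P := P) l x
  exact ⟨y, h⟩

end Pl

open Pl in
theorem T2.one {G X : Type*} [Group G] [MulAction G X] (h : T2 G X) (hX : ∀ x : X, ∃ y : X, y ≠ x) (x y : X) :
    ∃ g : G, g • x = y := by
  obtain ⟨x', hx⟩ := hX x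
  obtain ⟨y', hy⟩ := hX y
  obtain ⟨g, hg, -⟩ := h x x' y y' (Ne.symm hx) (Ne.symm hy)
  exact ⟨g, hg⟩

namespace Pl

open Configuration Configuration.ProjectivePlane

variable {G P L : Type*} [Group G] [Membership P L] [MulAction G P] [MulAction G L]
variable [Act G P L] [ProjectivePlane P L] [Finite P] [Finite L] [Finite G]

theorem T2.flag (h : T2 G P) {x y : P} {l m : L} (hx : x ∈ l) (hy : y ∈ m) : ∃ g : G, g • x = y ∧ g • l = m := by
  obtain ⟨x', hx', hxx⟩ := ex_on_ne (P := P) l x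
  obtain ⟨y', hy', hyy⟩ := ex_on_ne (P := P) m y
  obtain ⟨g, h1, h2⟩ := h x x' y y' (Ne.symm hxx) (Ne.symm hyy)
  refine ⟨g, h1, uL (Ne.symm hyy) ?_ ?_ hy hy'⟩
  · have := mem_smul g hx; rwa [h1] at this
  · have := mem_smul g hx'; rwa [h2] at this

theorem T2.antiflag0 (h : T2 G P) {x : P} {l m : L} (hl : x ∉ l) (hm : x ∉ m) : ∃ g : G, g • x = x ∧ g • l = m := by
  obtain ⟨k, hk⟩ := ex_onL L x
  obtain ⟨y, hy⟩ := ex_ne L x
  have h1 := card_quot_le_two (MulAction.stabilizer G x) x y (by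
    intro c
    by_cases hc : c = x
    · exact Or.inl ⟨1, one_mem _, by rw [one_smul, hc]⟩
    · obtain ⟨g, h1, h2⟩ := h x y x c (Ne.symm hy) (Ne.symm hc)
      exact Or.inr ⟨g, h1, h2⟩)
  rcases orbits_stab (P := P) _ h1 l m k with ⟨g, h1, h2⟩ | ⟨g, h1, h2⟩ | ⟨g, h1, h2⟩
  · exact ⟨g, h1, h2⟩
  · exfalso
    apply hm
    have h3 : g • x = x := h1
    rw [← h2, ← h3, mem_smul_iff] at hk
    exact hk
  · exfalso
    apply hl
    have h3 : g • x = x := h1
    rw [← h2, ← h3, mem_smul_iff] at hk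
    exact hk

theorem T2.antiflag (h : T2 G P) {x y : P} {l m : L} (hl : x ∉ l) (hm : y ∉ m) : ∃ g : G, g • x = y ∧ g • l = m := by
  obtain ⟨g, hg⟩ := h.one (ex_ne L) x y
  have h1 : y ∉ g • l := by rw [← hg, mem_smul_iff]; exact hl
  obtain ⟨k, hk1, hk2⟩ := T2.antiflag0 h h1 hm
  exact ⟨k * g, by rw [mul_smul, hg, hk1], by rw [mul_smul, hk2]⟩

theorem T2.stabL (h : T2 G P) {l m m' : L} (hm : m ≠ l) (hm' : m' ≠ l) : ∃ g : G, g • l = l ∧ g • m = m' := by
  obtain ⟨x, hx⟩ := ex_on P l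
  obtain ⟨y, hy⟩ := exOffP (P := P) l
  have h1 := card_quot_le_two (MulAction.stabilizer G l) x y (by
    intro c
    by_cases hc : c ∈ l
    · obtain ⟨g, h1, h2⟩ := T2.flag h hx hc
      exact Or.inl ⟨g, h2, h1⟩
    · obtain ⟨g, h1, h2⟩ := T2.antiflag h hy hc
      exact Or.inr ⟨g, h2, h1⟩)
  rcases orbits_stab (P := P) _ h1 m m' l with ⟨g, h1, h2⟩ | ⟨g, h1, h2⟩ | ⟨g, h1, h2⟩
  · exact ⟨g, h1, h2⟩
  · exfalso
    have h3 : g • l = l := h1
    exact hm' (MulAction.injective g (h2.trans h3.symm))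
  · exfalso
    have h3 : g • l = l := h1
    exact hm (MulAction.injective g (h2.trans h3.symm))

variable (L) in
theorem T2.lines (h : T2 G P) : T2 G L := by
  intro l m l' m' h1 h2
  obtain ⟨x, hx⟩ := ex_on P l
  obtain ⟨x', hx'⟩ := ex_on P l'
  obtain ⟨g, hg1, hg2⟩ := T2.flag h hx hx'
  have h3 : g • m ≠ l' := fun h3 => h1 (MulAction.injective g (hg2.trans h3.symm))
  obtain ⟨k, k1, k2⟩ := T2.stabL h h3 (Ne.symm h2)
  exact ⟨k * g, by rw [mul_smul, hg2, k1], by rw [mul_smul, k2]⟩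

end Pl

end Cfsg.Agent.H985
end
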